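import Mathlib.RingTheory.LocalRing.Basic
import Mathlib.RingTheory.IntegralClosure.IsIntegralClosure.Basic
import Mathlib.Algebra.Polynomial.RingDivision
import Mathlib.Tactic

/-!
# Idempotents of finite algebras over a local ring in which every monic polynomial splits
-/

set_option autoImplicit false
set_option linter.unusedSectionVars false

namespace Cfsg.Agent.Lib.BrauerStar

open Polynomial

variable {R : Type*} [CommRing R] [IsLocalRing R]

/-- Every monic polynomial is a product of linear factors. -/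
def MonicSplits (R : Type*) [CommRing R] : Prop :=
  ∀ f : R[X], f.Monic → ∃ m : Multiset R, f = (m.map fun r => X - C r).prod

theorem isUnit_sub_of_nonunit {a b : R} (ha : ¬ IsUnit a) (hb : IsUnit b) : IsUnit (a - b) := by
  by_contra h
  have := IsLocalRing.nonunits_add (show a ∈ nonunits R from ha)
    (show -(a - b) ∈ nonunits R from mt (fun hu => (IsUnit.neg_iff _).1 hu) h)
  rw [mem_nonunits_iff] at this
  exact this (by rwa [show a + -(a - b) = b by ring])

theorem isCoprime_prod_linear {m₁ m₂ : Multiset R} (h₁ : ∀ r ∈ m₁, ¬ IsUnit r)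
    (h₂ : ∀ r ∈ m₂, IsUnit r) :
    IsCoprime (m₁.map fun r => X - C r).prod (m₂.map fun r => X - C r).prod := by
  induction m₁ using Multiset.induction_on with
  | empty => simpa using isCoprime_one_left
  | cons a s ih =>
    rw [Multiset.map_cons, Multiset.prod_cons]
    refine IsCoprime.mul_left ?_ (ih fun r hr => h₁ r (Multiset.mem_cons_of_mem hr))
    have ha := h₁ a (Multiset.mem_cons_self a s)
    clear ih
    induction m₂ using Multiset.induction_on with
    | empty => simpa using isCoprime_one_right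
    | cons b t iht =>
      rw [Multiset.map_cons, Multiset.prod_cons]
      exact IsCoprime.mul_right
        (isCoprime_X_sub_C_of_isUnit_sub (isUnit_sub_of_nonunit ha (h₂ b (Multiset.mem_cons_self b t))))
        (iht fun r hr => h₂ r (Multiset.mem_cons_of_mem hr))

variable {A : Type*} [Ring A] [Algebra R A] [Module.Finite R A]

/-- **Fitting's decomposition** by polynomials in one element. -/
theorem exists_fitting (hR : MonicSplits R) (c : A) :
    ∃ P S T : R[X], P.eval 0 = 0 ∧ P.eval 1 = 1 ∧ IsIdempotentElem (aeval c P) ∧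
      c * aeval c S = aeval c P ∧ (1 - c) * aeval c T = 1 - aeval c P := by
  classical
  obtain ⟨f, hf, hfc⟩ := Algebra.IsIntegral.isIntegral (R := R) c
  obtain ⟨m, hm⟩ := hR f hf
  set m' : Multiset R := 0 ::ₘ 1 ::ₘ m with hm'
  set m₁ := m'.filter (fun r => ¬ IsUnit r) with hm₁
  set m₂ := m'.filter (fun r => IsUnit r) with hm₂
  set f₁ := (m₁.map fun r => X - C r).prod with hf₁
  set f₂ := (m₂.map fun r => X - C r).prod with hf₂
  have hprod : aeval c (f₁ * f₂) = 0 := by
    have h1 : f₁ * f₂ = X * ((X - C 1) * f) := by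
      rw [hf₁, hf₂, ← Multiset.prod_add, ← Multiset.map_add, hm₁, hm₂, add_comm,
        Multiset.filter_add_not, hm', Multiset.map_cons, Multiset.prod_cons, Multiset.map_cons,
        Multiset.prod_cons, ← hm, map_zero, sub_zero]
    rw [h1, map_mul, map_mul, show aeval c f = 0 from hfc, mul_zero, mul_zero]
  obtain ⟨u, v, huv⟩ := isCoprime_prod_linear (m₁ := m₁) (m₂ := m₂)
    (fun r hr => (Multiset.mem_filter.1 hr).2) (fun r hr => (Multiset.mem_filter.1 hr).2)
  have h0 : f₁.eval 0 = 0 := by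
    rw [hf₁, eval_multiset_prod]
    refine Multiset.prod_eq_zero ?_
    rw [Multiset.map_map, Multiset.mem_map]
    exact ⟨0, Multiset.mem_filter.2 ⟨by simp [hm'], not_isUnit_zero⟩, by simp⟩
  have h1 : f₂.eval 1 = 0 := by
    rw [hf₂, eval_multiset_prod]
    refine Multiset.prod_eq_zero ?_
    rw [Multiset.map_map, Multiset.mem_map]
    exact ⟨1, Multiset.mem_filter.2 ⟨by simp [hm'], isUnit_one⟩, by simp⟩
  have hu2 : IsUnit (f₂.eval 0) := by
    rw [hf₂, eval_multiset_prod]
    refine Multiset.prod_induction _ _ (fun _ _ => IsUnit.mul) isUnit_one fun x hx => ?_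
    obtain ⟨g, hg, rfl⟩ := Multiset.mem_map.1 hx
    obtain ⟨r, hr, rfl⟩ := Multiset.mem_map.1 hg
    simpa using (Multiset.mem_filter.1 hr).2.neg
  have hu1 : IsUnit (f₁.eval 1) := by
    rw [hf₁, eval_multiset_prod]
    refine Multiset.prod_induction _ _ (fun _ _ => IsUnit.mul) isUnit_one fun x hx => ?_
    obtain ⟨g, hg, rfl⟩ := Multiset.mem_map.1 hx
    obtain ⟨r, hr, rfl⟩ := Multiset.mem_map.1 hg
    simpa using IsLocalRing.isUnit_one_sub_self_of_mem_nonunits r (Multiset.mem_filter.1 hr).2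
  have hid : aeval c (u * f₁) * aeval c (v * f₂) = 0 := by
    rw [← map_mul, show u * f₁ * (v * f₂) = u * v * (f₁ * f₂) by ring, map_mul, hprod, mul_zero]
  have hsum : aeval c (v * f₂) = 1 - aeval c (u * f₁) := by
    rw [eq_sub_iff_add_eq, ← map_add, add_comm, huv, map_one]
  obtain ⟨q₂, hq₂⟩ : ∃ q, f₂ = C (f₂.eval 0) + X * q := by
    obtain ⟨q, hq⟩ := X_dvd_iff.2 (show (f₂ - C (f₂.eval 0)).coeff 0 = 0 by
      simp [coeff_zero_eq_eval_zero])
    exact ⟨q, by rw [← hq]; ring⟩
  obtain ⟨q₁, hq₁⟩ : ∃ q, f₁ = C (f₁.eval 1) + (X - C 1) * q := by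
    obtain ⟨q, hq⟩ := X_sub_C_dvd_sub_C_eval (p := f₁) (a := (1 : R))
    exact ⟨q, by rw [← hq]; ring⟩
  refine ⟨u * f₁, C (-(hu2.unit⁻¹ : Rˣ).1) * q₂ * (u * f₁),
    C ((hu1.unit⁻¹ : Rˣ).1) * q₁ * (v * f₂), ?_, ?_, ?_, ?_, ?_⟩
  · rw [eval_mul, h0, mul_zero]
  · have := congrArg (Polynomial.eval (1 : R)) huv
    rwa [eval_add, eval_mul (p := v), h1, mul_zero, add_zero, eval_one] at this
  · show _ * _ = _
    rw [hsum, mul_sub, mul_one, sub_eq_zero] at hid
    exact hid.symm
  · have key : X * (C (-(hu2.unit⁻¹ : Rˣ).1) * q₂ * (u * f₁)) =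
        u * f₁ - C ((hu2.unit⁻¹ : Rˣ).1) * u * (f₁ * f₂) := by
      have hc : C ((hu2.unit⁻¹ : Rˣ).1) * C (f₂.eval 0) = (1 : R[X]) := by
        rw [← C_mul, IsUnit.val_inv_mul, C_1]
      rw [map_neg]
      linear_combination (C ((hu2.unit⁻¹ : Rˣ).1) * u * f₁) * hq₂ + (u * f₁) * hc
    have := congrArg (aeval c) key
    rw [map_mul, aeval_X, map_sub, map_mul _ _ (f₁ * f₂), hprod, mul_zero, sub_zero] at this
    exact this
  · have key : (1 - X) * (C ((hu1.unit⁻¹ : Rˣ).1) * q₁ * (v * f₂)) =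
        v * f₂ - C ((hu1.unit⁻¹ : Rˣ).1) * v * (f₁ * f₂) := by
      have hc : C ((hu1.unit⁻¹ : Rˣ).1) * C (f₁.eval 1) = (1 : R[X]) := by
        rw [← C_mul, IsUnit.val_inv_mul, C_1]
      rw [C_1] at hq₁
      linear_combination (C ((hu1.unit⁻¹ : Rˣ).1) * v * f₂) * hq₁ + (v * f₂) * hc
    have := congrArg (aeval c) key
    rw [map_mul, map_sub, map_one, aeval_X, map_sub, map_mul _ _ (f₁ * f₂), hprod, mul_zero,
      sub_zero, hsum] at this
    exact this

section Corner

variable {S : Subalgebra R A} {i c d : A}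

theorem aeval_mem (hc : c ∈ S) (P : R[X]) : aeval c P ∈ S :=
  Algebra.adjoin_le (Set.singleton_subset_iff.2 hc) (aeval_mem_adjoin_singleton R c)

theorem commute_aeval {x : A} (h : Commute x c) (P : R[X]) : Commute x (aeval c P) :=
  Algebra.commute_of_mem_adjoin_singleton_of_commute (aeval_mem_adjoin_singleton R c) h

/-- Polynomials without constant term in a corner element stay in the corner. -/
theorem aeval_corner (hl : i * c = c) (hr : c * i = c) {P : R[X]} (h0 : P.eval 0 = 0) :
    i * aeval c P = aeval c P ∧ aeval c P * i = aeval c P := by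
  obtain ⟨q, rfl⟩ := X_dvd_iff.2 (show P.coeff 0 = 0 by rw [coeff_zero_eq_eval_zero, h0])
  rw [map_mul, aeval_X]
  refine ⟨by rw [← mul_assoc, hl], ?_⟩
  have := commute_aeval (show Commute i c from hl.trans hr.symm) q
  rw [mul_assoc, ← this.eq, ← mul_assoc, hr]

/-- A primitive idempotent of `S`. -/
structure IsPrimIn (S : Subalgebra R A) (i : A) : Prop where
  mem : i ∈ S
  idem : i * i = i
  ne_zero : i ≠ 0
  eq_or : ∀ e ∈ S, e * e = e → i * e = e → e * i = e → e = 0 ∨ e = i

/-- A unit of the corner at `i`. -/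
def IsUnitIn (S : Subalgebra R A) (i c : A) : Prop :=
  ∃ a ∈ S, i * a = a ∧ a * i = a ∧ c * a = i ∧ a * c = i

theorem IsPrimIn.local (hR : MonicSplits R) (hi : IsPrimIn S i) (hc : c ∈ S) (hl : i * c = c)
    (hr : c * i = c) : IsUnitIn S i c ∨ IsUnitIn S i (i - c) := by
  obtain ⟨P, Q, T, h0, -, hid, hQ, hT⟩ := exists_fitting hR c
  have hic : Commute i c := hl.trans hr.symm
  obtain ⟨hPl, hPr⟩ := aeval_corner hl hr h0
  rcases hi.eq_or _ (aeval_mem hc P) hid hPl hPr with h | h
  · right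
    rw [h, sub_zero] at hT
    have hTi := (commute_aeval hic T).eq
    have h1 : (i - c) * (aeval c T * i) = i := by
      rw [show i - c = i * (1 - c) by rw [mul_sub, mul_one, hl], ← mul_assoc, mul_assoc i, hT,
        mul_one, hi.idem]
    refine ⟨aeval c T * i, S.mul_mem (aeval_mem hc T) hi.mem, ?_, ?_, h1, ?_⟩
    · rw [← mul_assoc, hTi, mul_assoc, hi.idem]
    · rw [mul_assoc, hi.idem]
    · have hcomm : Commute (i - c) (aeval c T * i) :=
        (((commute_aeval hic T).sub_left (commute_aeval (Commute.refl c) T)).mul_right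
          ((Commute.refl i).sub_left hic.symm))
      rw [← hcomm.eq, h1]
  · left
    rw [h] at hQ
    have hQi := (commute_aeval hic Q).eq
    refine ⟨aeval c Q * i, S.mul_mem (aeval_mem hc Q) hi.mem, ?_, ?_, ?_, ?_⟩
    · rw [← mul_assoc, hQi, mul_assoc, hi.idem]
    · rw [mul_assoc, hi.idem]
    · rw [← mul_assoc, hQ, hi.idem]
    · have hcomm : Commute c (aeval c Q * i) :=
        (commute_aeval (Commute.refl c) Q).mul_right hic.symm
      rw [← hcomm.eq, ← mul_assoc, hQ, hi.idem]

theorem IsPrimIn.not_isUnitIn_zero (hi : IsPrimIn S i) : ¬ IsUnitIn S i 0 := by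
  rintro ⟨a, -, -, -, h, -⟩
  exact hi.ne_zero (by rw [← h, zero_mul])

/-- A left inverse in the corner of a primitive idempotent is an inverse. -/
theorem IsPrimIn.isUnitIn_of_left (hi : IsPrimIn S i) (hc : c ∈ S) (hl : i * c = c) (hr : c * i = c)
    {a : A} (ha : a ∈ S) (hal : i * a = a) (har : a * i = a) (h : a * c = i) :
    IsUnitIn S i c := by
  refine ⟨a, ha, hal, har, ?_, h⟩
  have hid : c * a * (c * a) = c * a := by
    rw [show c * a * (c * a) = c * (a * c) * a by simp only [mul_assoc], h, hr]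
  rcases hi.eq_or (c * a) (S.mul_mem hc ha) hid (by rw [← mul_assoc, hl]) (by rw [mul_assoc, har])
    with h0 | h0
  · exfalso
    apply hi.ne_zero
    have : c = 0 := by rw [← hr, ← h, ← mul_assoc, h0, zero_mul]
    rw [← h, this, mul_zero]
  · exact h0

theorem IsPrimIn.isUnitIn_or (hR : MonicSplits R) (hi : IsPrimIn S i) (hc : c ∈ S)
    (hcl : i * c = c) (hcr : c * i = c) (hd : d ∈ S) (hdl : i * d = d) (hdr : d * i = d)
    (h : IsUnitIn S i (c + d)) : IsUnitIn S i c ∨ IsUnitIn S i d := by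
  obtain ⟨w, hw, hwl, hwr, -, h⟩ := h
  rw [mul_add] at h
  have key : ∀ x ∈ S, i * x = x → x * i = x → IsUnitIn S i (w * x) → IsUnitIn S i x := by
    rintro x hx hxl hxr ⟨a, ha, hal, -, -, hax⟩
    exact hi.isUnitIn_of_left hx hxl hxr (S.mul_mem ha hw) (by rw [← mul_assoc, hal])
      (by rw [mul_assoc, hwr]) (by rw [mul_assoc, hax])
  rcases hi.local hR (S.mul_mem hw hc) (by rw [← mul_assoc, hwl]) (by rw [mul_assoc, hcr]) with
    h1 | h1
  · exact Or.inl (key c hc hcl hcr h1)
  · rw [show i - w * c = w * d by rw [← h]; abel] at h1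
    exact Or.inr (key d hd hdl hdr h1)

theorem IsPrimIn.exists_isUnitIn_of_sum (hR : MonicSplits R) (hi : IsPrimIn S i) {ι : Type*}
    (t : Finset ι) (f : ι → A) (hf : ∀ j ∈ t, f j ∈ S ∧ i * f j = f j ∧ f j * i = f j)
    (h : IsUnitIn S i (∑ j ∈ t, f j)) : ∃ j ∈ t, IsUnitIn S i (f j) := by
  classical
  induction t using Finset.induction_on with
  | empty => exact absurd (by simpa using h) hi.not_isUnitIn_zero
  | insert a t ha ih =>
    rw [Finset.sum_insert ha] at h
    obtain ⟨hm, hl, hr⟩ := hf a (Finset.mem_insert_self a t)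
    have hf' := fun j hj => hf j (Finset.mem_insert_of_mem hj)
    rcases hi.isUnitIn_or hR hm hl hr (S.sum_mem fun j hj => (hf' j hj).1)
      (by rw [Finset.mul_sum]; exact Finset.sum_congr rfl fun j hj => (hf' j hj).2.1)
      (by rw [Finset.sum_mul]; exact Finset.sum_congr rfl fun j hj => (hf' j hj).2.2) h with h' | h'
    · exact ⟨a, Finset.mem_insert_self a t, h'⟩
    · obtain ⟨j, hj, hj'⟩ := ih hf' h'
      exact ⟨j, Finset.mem_insert_of_mem hj, hj'⟩

end Corner

end Cfsg.Agent.Lib.BrauerStar
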