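import Cfsg.Agent.Lib.BrauerStar.Pieces
import Cfsg.Agent.Lib.BrauerPairs.Inertial
import Cfsg.Agent.Lib.BrauerPairs.FirstMain
import Cfsg.Agent.Lib.Fusion.Aut

/-!
# The blocks met by a primitive idempotent below a subgroup where it survives
-/

set_option autoImplicit false
set_option linter.unusedSectionVars false
set_option linter.style.haveILetI false

namespace Cfsg.Agent.Lib.BrauerStar

open Cfsg Cfsg.Agent.Lib Cfsg.Agent.Lib.Blocks Cfsg.Agent.Lib.Characters Cfsg.Agent.Lib.BrauerPairs

universe u

variable {G : Type u} [Group G] [Fintype G] {M : Ideal AlgInt} [hMp : M.IsPrime] {p : ℕ}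

theorem dichotomy (hM : IsPModular p M) {U V : Subgroup G} (hV : IsPGroup p V) (hVU : V ≤ U)
    {s : G} {i c : RG M G} (hi : IsPrimIn (fixV M U s) i) (hc : c ∈ fixV M U s)
    (hl : i * c = c) (hr : c * i = c) (hcc : BrZero V (c * c - c)) :
    BrZero V c ∨ BrZero V (c - i) := by
  have hle := fixV_mono (M := M) hVU s
  have hiV := hle hi.mem
  have hcV := hle hc
  rcases hi.local monicSplits_locSubring hc hl hr with ⟨a, ha, -, -, h, -⟩ | ⟨a, ha, -, -, h, -⟩
  · right
    have h1 := hcc.mul_right hM hV (sub_mem (mul_mem hcV hcV) hcV) (hle ha)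
    rwa [sub_mul, mul_assoc, h, hr] at h1
  · left
    have hd : BrZero V ((i - c) * (i - c) - (i - c)) := by
      convert hcc using 1
      rw [mul_sub, sub_mul, sub_mul, hi.idem, hl, hr]
      abel
    have h1 := hd.mul_right hM hV
      (sub_mem (mul_mem (sub_mem hiV hcV) (sub_mem hiV hcV)) (sub_mem hiV hcV)) (hle ha)
    rw [sub_mul, mul_assoc, h, sub_mul i c i, hi.idem, hr] at h1
    simpa using h1.neg

/-- The block idempotent below is absorbed modulo the Brauer congruence. -/
theorem brZero_normalSubpair (hM : IsPModular p M) {V S : Subgroup G}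
    {fV : Set (IrrCharacter (Subgroup.centralizer (V : Set G)))}
    {fS : Set (IrrCharacter (Subgroup.centralizer (S : Set G)))}
    (h : IsNormalSubpair p M V fV S fS) :
    BrZero S (ef M (Subgroup.centralizer (V : Set G)) fV * ef M (Subgroup.centralizer (S : Set G)) fS
      - ef M (Subgroup.centralizer (S : Set G)) fS) := by
  classical
  obtain ⟨⟨-, hfV⟩, ⟨hS, hfS⟩, hVS, hSN, hst, hone⟩ := h
  have hI := isLocInv_subgroupBlockCoeff hM hVS hSN hfV hst
  have hJ : IsLocInv M S (subgroupBlockCoeff (Subgroup.centralizer (S : Set G)) fS) :=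
    ⟨memLocalRing_subgroupBlockCoeff hM hfS,
      isPInv_iff_gconj.2 fun a ha => gconj_of_mem_self fS ha, isPInv_subgroupBlockCoeff_self fS⟩
  set D := conv (subgroupBlockCoeff (Subgroup.centralizer (V : Set G)) fV) (subgroupBlockCoeff (Subgroup.centralizer (S : Set G)) fS) -
    subgroupBlockCoeff (Subgroup.centralizer (S : Set G)) fS with hD
  have hDI : IsLocInv M S D := (hI.conv hJ).sub hJ
  have hω : ∀ ζ : IrrCharacter (Subgroup.centralizer (S : Set G)), MemLocalIdeal M (omega (ζ : (Subgroup.centralizer (S : Set G)) → ℂ) (resFun (Subgroup.centralizer (S : Set G)) D)) := by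
    intro ζ
    rw [← brauerOmega_eq_omega, hD, brauerOmega_sub]
    have h1 := brauerOmega_conv hM hS hI hJ ζ
    have h2 : brauerOmega S (subgroupBlockCoeff (Subgroup.centralizer (S : Set G)) fS) (ζ : (Subgroup.centralizer (S : Set G)) → ℂ) = if ζ ∈ fS then 1 else 0 := by
      rw [brauerOmega_eq_omega, resFun_subgroupBlockCoeff, omega_blockCoeff]
    rw [h2] at h1 ⊢
    split_ifs at h1 ⊢ with hζ
    · rw [mul_one] at h1
      simpa using memLocalIdeal_add h1 (hone ζ hζ)
    · simpa using h1
  have hres : IsRCentral M (resFun (Subgroup.centralizer (S : Set G)) D) := hDI.isRCentral_res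
  -- idempotent modulo the local ideal, up to sign
  have hneg : IsRCentral M (-(resFun (Subgroup.centralizer (S : Set G)) D)) := by
    have := hres.smul (c := (-1 : ℂ)) (memLocalRing_neg memLocalRing_one)
    rwa [show ((-1 : ℂ)) • resFun (Subgroup.centralizer (S : Set G)) D = -(resFun (Subgroup.centralizer (S : Set G)) D) by funext x; simp] at this
  intro g hg
  have hidem : ∀ y, MemLocalIdeal M (-(resFun (Subgroup.centralizer (S : Set G)) D) y - conv (-(resFun (Subgroup.centralizer (S : Set G)) D)) (-(resFun (Subgroup.centralizer (S : Set G)) D)) y) := by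
    intro y
    set a := resFun (Subgroup.centralizer (S : Set G)) (subgroupBlockCoeff (Subgroup.centralizer (V : Set G)) fV)
    set b := resFun (Subgroup.centralizer (S : Set G)) (subgroupBlockCoeff (Subgroup.centralizer (S : Set G)) fS)
    have ha : IsRCentral M a := hI.isRCentral_res
    have hb : IsRCentral M b := hJ.isRCentral_res
    have haa : ∀ z, MemLocalIdeal M (a z - conv a a z) := fun z => by
      have h1 := resFun_conv_congr hM hS hI hI z
      rwa [conv_subgroupBlockCoeff_self] at h1
    have hbb : conv b b = b := by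
      simp only [b, resFun_subgroupBlockCoeff]
      exact blockCoeff_conv_self fS
    have hDab : ∀ z, MemLocalIdeal M (resFun (Subgroup.centralizer (S : Set G)) D z - (conv a b z - b z)) := fun z => by
      have h1 := resFun_conv_congr hM hS hI hJ z
      show MemLocalIdeal M (D (z : G) - (conv a b z - b z))
      simp only [hD, Pi.sub_apply]
      simpa [b, a, resFun] using h1
    -- `N = b - a b` is idempotent modulo the ideal
    set N : (Subgroup.centralizer (S : Set G)) → ℂ := b - conv a b with hN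
    have hND : ∀ z, MemLocalIdeal M (-(resFun (Subgroup.centralizer (S : Set G)) D) z - N z) := fun z => by
      have := memLocalIdeal_neg (hDab z)
      simp only [hN, Pi.sub_apply]
      convert this using 1
      ring
    have hNR : IsRCentral M N := hb.sub (ha.conv hb)
    have hNN : ∀ z, MemLocalIdeal M (N z - conv N N z) := by
      intro z
      have e1 : conv N N = b - conv a b - conv a b + conv (conv a a) b := by
        rw [hN, conv_sub_left, conv_sub_right, conv_sub_right, hbb]
        have e3 : conv (conv a b) b = conv a b := by rw [conv_assoc_general, hbb]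
        have e2 : conv b (conv a b) = conv a b := (conv_comm b (ha.conv hb).1).symm.trans e3
        have e4 : conv (conv a b) (conv a b) = conv (conv a a) b := by
          rw [conv_assoc_general, e2, ← conv_assoc_general]
        rw [e2, e3, e4]
        funext w
        simp only [Pi.sub_apply, Pi.add_apply]
        ring
      rw [e1, hN]
      simp only [Pi.sub_apply, Pi.add_apply]
      have h3 := memLocalIdeal_conv_congr (f := a) (g := conv a a) (f' := b) (g' := b) ha.2 hb.2 haa
        (fun w => by rw [sub_self]; exact memLocalIdeal_zero) z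
      convert h3 using 1
      ring
    have h4 := memLocalIdeal_conv_congr (f := -(resFun (Subgroup.centralizer (S : Set G)) D)) (g := N) (f' := -(resFun (Subgroup.centralizer (S : Set G)) D)) (g' := N)
      hneg.2 hNR.2 hND hND y
    have h5 := memLocalIdeal_sub (memLocalIdeal_add (hND y) (hNN y)) h4
    convert h5 using 1
    ring
  have hzero := memLocalIdeal_of_idem hM hneg hidem (fun ζ => by
    rw [show -(resFun (Subgroup.centralizer (S : Set G)) D) = (-1 : ℂ) • resFun (Subgroup.centralizer (S : Set G)) D by funext x; simp, omega_smul]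
    exact memLocalIdeal_mul_left (memLocalRing_neg memLocalRing_one) (hω ζ)) ⟨g, hg⟩
  have h6 := memLocalIdeal_neg hzero
  rw [coef_sub, coef_mul, coef_ef hM hfV, coef_ef hM hfS]
  simpa [resFun, hD] using h6

variable {U : Subgroup G} {s : G}

/-- **The blocks met by a primitive idempotent lie below a single pair.** -/
theorem brZero_below (hM : IsPModular p M) (hUs : ∀ w ∈ U, Commute w s)
    (hs : ¬ p ∣ orderOf s)
    {fU : Set (IrrCharacter (Subgroup.centralizer (U : Set G)))} (hU : IsBrauerPair p M U fU)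
    {i : RG M G} (hi : IsPrimIn (fixV M U s) i)
    (hne : ¬ BrZero U (i * ef M (Subgroup.centralizer (U : Set G)) fU))
    {V : Subgroup G} {fV : Set (IrrCharacter (Subgroup.centralizer (V : Set G)))}
    (hle : SubpairLE p M V fV U fU) :
    BrZero V (i * ef M (Subgroup.centralizer (V : Set G)) fV * i - i) := by
  classical
  haveI := Fact.mk hM.1
  have hsC : ∀ {X : Subgroup G}, X ≤ U → s ∈ Subgroup.centralizer (X : Set G) := fun {X} hX =>
    mem_centralizer_subgroup_iff.2 fun a ha => (hUs a (hX ha)).eq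
  have hUeq : BrZero U (i * ef M (Subgroup.centralizer (U : Set G)) fU * i - i) := by
    set e := ef M (Subgroup.centralizer (U : Set G)) fU
    have he := ef_mem hM (hsC le_rfl) hU.2
    obtain ⟨y, hy, hyy, hyd⟩ := exists_isPiece hM hU.1 (hsC le_rfl) hU.2 hi.mem hi.idem
    set c := i * e * i
    have hc : c ∈ fixV M U s := mul_mem (mul_mem hi.mem he) hi.mem
    have hcc : BrZero U (c * c - c) := by
      have h2 := ((hyd.mul_left hM hU.1 hc (sub_mem hy hc)).add
        (hyd.mul_right hM hU.1 (sub_mem hy hc) hy)).neg.add hyd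
      convert h2 using 1
      rw [mul_sub, sub_mul, hyy]
      abel
    rcases dichotomy hM hU.1 le_rfl hi hc
      (by simp only [c, ← mul_assoc, hi.idem]) (by simp only [c, mul_assoc, hi.idem]) hcc with h | h
    · refine absurd ?_ hne
      have h3 := (brZero_comm_ef hM hU.1 (hsC le_rfl) hU.2 hi.mem).mul_left hM hU.1 hi.mem
        (sub_mem (mul_mem hi.mem he) (mul_mem he hi.mem))
      rw [mul_sub, ← mul_assoc, hi.idem, ← mul_assoc] at h3
      convert h3.add h using 1
      simp only [c, e, mul_assoc]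
      abel
    · exact h
  have hnzi : ¬ BrZero U i := fun h =>
    hne (h.mul_right hM hU.1 hi.mem (ef_mem hM (hsC le_rfl) hU.2))
  suffices key : ∀ (n : ℕ) (V : Subgroup G) (fV : Set (IrrCharacter (Subgroup.centralizer (V : Set G)))),
      Nat.card U - Nat.card V = n → SubpairLE p M V fV U fU →
      BrZero V (i * ef M (Subgroup.centralizer (V : Set G)) fV * i - i) from key _ V fV rfl hle
  intro n
  induction n using Nat.strong_induction_on with
  | _ n ih =>
  intro V fV hn hle
  rcases eq_or_lt_of_le (subpairLE_le hle) with rfl | hlt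
  · obtain rfl := eq_of_subpairLE_self hM hle
    exact hUeq
  have hVU := hlt.le
  have hVp := hU.1.to_le hVU
  have hfV := (isBrauerPair_of_subpairLE hU hle).2
  set eV := ef M (Subgroup.centralizer (V : Set G)) fV with heV
  -- the statement for the subgroups in which `V` is properly normal
  have hstep : ∀ S : Subgroup G, V < S → S ≤ U → S ≤ Subgroup.normalizer (V : Set G) →
      BrZero S (i * eV * i - i) ∧ eV ∈ fixV M S s := by
    intro S hVS hSU hSN
    obtain ⟨fS, hfS, hSle⟩ := exists_subpairLE hM hU hSU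
    have hnorm := isNormalSubpair_of_subpairLE hM hU hle hSle hVS.le hSN
    have heVS : eV ∈ fixV M S s := by
      refine mem_fixV.2 ⟨fun v hv => ?_, cj_ef hM hfV (gconj_of_mem fV (hsC hVU))⟩
      exact cj_ef hM hfV ((stabilizesBlock_iff
        (normalizer_le_normalizer_centralizer V (hSN hv))).1 (hnorm.2.2.2.2.1 v hv))
    refine ⟨?_, heVS⟩
    have hlt' := card_lt_card_subgroup hVS
    have hle' : Nat.card S ≤ Nat.card U := Subgroup.card_le_of_le hSU
    have h1 := ih _ (by omega) S fS rfl hSle
    set eS := ef M (Subgroup.centralizer (S : Set G)) fS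
    have heS := ef_mem hM (hsC hSU) hfS.2
    have hiS := fixV_mono (M := M) hSU s hi.mem
    have hSp := hU.1.to_le hSU
    -- `i ≡ i eS`
    have h2 : BrZero S (i * eS - i) := by
      have h := (brZero_comm_ef hM hSp (hsC hSU) hfS.2 hiS).mul_left hM hSp hiS
        (sub_mem (mul_mem hiS heS) (mul_mem heS hiS))
      rw [mul_sub, ← mul_assoc, hi.idem, ← mul_assoc] at h
      convert h.add h1 using 1
      simp only [eS, mul_assoc]
      abel
    -- `i eV i ≡ i eV eS i ≡ i eS i ≡ i`
    have hA : BrZero S (i * eV * (i * eS - i)) :=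
      h2.mul_left hM hSp (mul_mem hiS heVS) (sub_mem (mul_mem hiS heS) hiS)
    have hB : BrZero S (i * eV * (i * eS - eS * i)) :=
      (brZero_comm_ef hM hSp (hsC hSU) hfS.2 hiS).mul_left hM hSp (mul_mem hiS heVS)
        (sub_mem (mul_mem hiS heS) (mul_mem heS hiS))
    have hC : BrZero S (i * (eV * eS - eS) * i) :=
      ((brZero_normalSubpair hM hnorm).mul_left hM hSp hiS (sub_mem (mul_mem heVS heS) heS)).mul_right
        hM hSp (mul_mem hiS (sub_mem (mul_mem heVS heS) heS)) hiS
    convert ((hA.neg.add hB).add hC).add h1 using 1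
    simp only [mul_sub, sub_mul, mul_assoc]
    abel
  set V₁ := U ⊓ Subgroup.normalizer (V : Set G) with hV₁
  have hV₁lt : V < V₁ := lt_inf_normalizer hU.1 hlt
  obtain ⟨hd1, heV₁⟩ := hstep V₁ hV₁lt inf_le_left inf_le_right
  set d := i - i * eV * i with hd
  have hiV₁ : i ∈ fixV M V₁ s := fixV_mono inf_le_left s hi.mem
  have hdV₁ : d ∈ fixV M V₁ s := sub_mem hiV₁ (mul_mem (mul_mem hiV₁ heV₁) hiV₁)
  have hdS : ∀ S : Subgroup G, V < S → S ≤ U → S ≤ Subgroup.normalizer (V : Set G) → BrZero S d :=
    fun S h1 h2 h3 => brZero_symm (hstep S h1 h2 h3).1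
  let bad : G → Prop := fun c => c ∈ Subgroup.centralizer (V : Set G) ∧ ¬ MemLocalIdeal M (coef d c)
  have hstab : ∀ c, bad c → ∀ w ∈ U, w * c * w⁻¹ = c → w ∈ V := by
    intro c hc w hwU hw
    set W := U ⊓ Subgroup.centralizer ({c} : Set G) with hW
    have hVW : V ≤ W := fun v hv =>
      ⟨hVU hv, Subgroup.mem_centralizer_singleton_iff.2 (mem_centralizer_subgroup_iff.1 hc.1 v hv)⟩
    rcases eq_or_lt_of_le hVW with h | h
    · rw [h]
      exact ⟨hwU, Subgroup.mem_centralizer_singleton_iff.2 (mul_inv_eq_iff_eq_mul.1 hw)⟩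
    · exfalso
      have hlt2 : V < W ⊓ Subgroup.normalizer (V : Set G) :=
        lt_inf_normalizer (hU.1.to_le inf_le_left) h
      refine hc.2 (hdS _ hlt2 (inf_le_left.trans inf_le_left) inf_le_right c ?_)
      refine mem_centralizer_subgroup_iff.2 fun a ha => ?_
      exact Subgroup.mem_centralizer_singleton_iff.1 ha.1.2
  let X₀fun : G → ℂ := fun h =>
    if hx : ∃ w ∈ U, bad (w⁻¹ * h * w) then coef d (hx.choose⁻¹ * h * hx.choose) else 0
  have hX₀ : ∀ h w, w ∈ U → bad (w⁻¹ * h * w) → X₀fun h = coef d (w⁻¹ * h * w) := by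
    intro h w hw hb
    have hex : ∃ w ∈ U, bad (w⁻¹ * h * w) := ⟨w, hw, hb⟩
    simp only [X₀fun, dif_pos hex]
    obtain ⟨hw', hb'⟩ := hex.choose_spec
    generalize hex.choose = w' at hw' hb' ⊢
    set r := w⁻¹ * w'
    have hrU : r ∈ U := mul_mem (inv_mem hw) hw'
    have hrc : r * (w'⁻¹ * h * w') * r⁻¹ = w⁻¹ * h * w := by simp only [r]; group
    have hrN : r ∈ Subgroup.normalizer (V : Set G) := by
      have h1 : V.map (MulAut.conj r⁻¹).toMonoidHom ≤ V := by
        rintro _ ⟨v, hv, rfl⟩
        refine hstab _ hb' _ (mul_mem (mul_mem (inv_mem hrU) (hVU hv)) (by simpa using hrU)) ?_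
        have hv' := mem_centralizer_subgroup_iff.1 hb.1 v hv
        show r⁻¹ * v * r⁻¹⁻¹ * (w'⁻¹ * h * w') * (r⁻¹ * v * r⁻¹⁻¹)⁻¹ = w'⁻¹ * h * w'
        calc r⁻¹ * v * r⁻¹⁻¹ * (w'⁻¹ * h * w') * (r⁻¹ * v * r⁻¹⁻¹)⁻¹
            = r⁻¹ * (v * (r * (w'⁻¹ * h * w') * r⁻¹) * v⁻¹) * r := by group
          _ = r⁻¹ * (r * (w'⁻¹ * h * w') * r⁻¹) * r := by rw [hrc, hv', mul_inv_cancel_right]
          _ = _ := by group
      have h2 : r⁻¹ ∈ Subgroup.normalizer (V : Set G) :=
        Fusion.mem_normalizer_of_finite fun y hy => h1 ⟨y, hy, rfl⟩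
      simpa using inv_mem h2
    rw [← hrc, (isPInv_coef hdV₁) r ⟨hrU, hrN⟩]
  have hX₀R : ∀ h, MemLocalRing M (X₀fun h) := fun h => by
    simp only [X₀fun]
    split_ifs
    · exact memLocalRing_coef _ _
    · exact memLocalRing_zero
  set X₀ := ofFun X₀fun hX₀R with hX₀def
  have hX₀U : X₀ ∈ fixV M U 1 := by
    refine mem_fixV.2 ⟨fun v hv => cj_eq_self_iff.2 fun h => ?_, cj_one _⟩
    rw [hX₀def, coef_ofFun]
    by_cases hex : ∃ w ∈ U, bad (w⁻¹ * h * w)
    · obtain ⟨w, hw, hb⟩ := hex
      have e : (v * w)⁻¹ * (v * h * v⁻¹) * (v * w) = w⁻¹ * h * w := by group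
      rw [hX₀ h w hw hb, hX₀ (v * h * v⁻¹) (v * w) (mul_mem hv hw) (by rw [e]; exact hb), e]
    · simp only [X₀fun]
      rw [dif_neg hex, dif_neg]
      rintro ⟨w, hw, hb⟩
      refine hex ⟨v⁻¹ * w, mul_mem (inv_mem hv) hw, ?_⟩
      rwa [show (v⁻¹ * w)⁻¹ * h * (v⁻¹ * w) = w⁻¹ * (v * h * v⁻¹) * w by group]
  have hX₀d : BrZero V (X₀ - d) := by
    intro c hc
    rw [coef_sub, Pi.sub_apply, hX₀def, coef_ofFun]
    by_cases hb : bad c
    · rw [hX₀ c 1 (one_mem U) (by simpa using hb)]
      simpa using memLocalIdeal_zero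
    · have hdc : MemLocalIdeal M (coef d c) := by by_contra h; exact hb ⟨hc, h⟩
      by_cases hex : ∃ w ∈ U, bad (w⁻¹ * c * w)
      · obtain ⟨w, hw, hwb⟩ := hex
        exfalso
        apply hb
        have hwN : w ∈ Subgroup.normalizer (V : Set G) := by
          have h2 : w⁻¹ ∈ Subgroup.normalizer (V : Set G) :=
            Fusion.mem_normalizer_of_finite fun y hy => by
              refine hstab _ hwb _ (mul_mem (mul_mem (inv_mem hw) (hVU hy)) (by simpa using hw)) ?_
              have hy' := mem_centralizer_subgroup_iff.1 hc y hy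
              calc w⁻¹ * y * w⁻¹⁻¹ * (w⁻¹ * c * w) * (w⁻¹ * y * w⁻¹⁻¹)⁻¹
                  = w⁻¹ * (y * c * y⁻¹) * w := by group
                _ = _ := by rw [hy', mul_inv_cancel_right]
          simpa using inv_mem h2
        refine ⟨hc, fun h => hwb.2 ?_⟩
        rw [← (isPInv_coef hdV₁) w ⟨hw, hwN⟩]
        rwa [show w * (w⁻¹ * c * w) * w⁻¹ = c by group]
      · simp only [X₀fun, dif_neg hex]
        simpa using memLocalIdeal_neg hdc
  have hX : avg hM hs X₀ ∈ fixV M U s := avg_mem hM hs hUs hX₀U
  have hXd : BrZero V (avg hM hs X₀ - d) := by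
    have h1 : avg hM hs (X₀ - d) = avg hM hs X₀ - d := by
      rw [eq_sub_iff_add_eq]
      nth_rw 2 [← avg_eq_self hM hs hdV₁]
      rw [← avg_add, sub_add_cancel]
    rw [← h1]
    refine (BrZero.sum _ fun j _ => ?_).smul _
    intro c hc
    rw [coef_cj]
    refine hX₀d _ (mul_mem (mul_mem (inv_mem ?_) hc) ?_) <;> exact pow_mem (hsC hVU) j
  set Y := i * avg hM hs X₀ * i with hY
  have hYU : Y ∈ fixV M U s := mul_mem (mul_mem hi.mem hX) hi.mem
  have hiV := fixV_mono (M := M) hVU s hi.mem
  have hle₁ : fixV M V₁ s ≤ fixV M V s := fixV_mono hV₁lt.le s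
  have hYd : BrZero V (Y - d) := by
    have hD := sub_mem (fixV_mono (M := M) hVU s hX) (hle₁ hdV₁)
    have h1 := (hXd.mul_left hM hVp hiV hD).mul_right hM hVp (mul_mem hiV hD) hiV
    have e : i * (avg hM hs X₀ - d) * i = Y - d := by
      have hidi : i * d * i = d := by
        simp only [hd, mul_sub, sub_mul, hi.idem, ← mul_assoc]
        simp only [mul_assoc, hi.idem]
      rw [mul_sub, sub_mul, hidi]
    rwa [e] at h1
  have hcev : BrZero V (i * eV * i * (i * eV * i) - i * eV * i) := by
    obtain ⟨y, hy, hyy, hyd⟩ := exists_isPiece hM hVp (hsC hVU) hfV hiV hi.idem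
    have hle' : i * eV * i ∈ fixV M V s := mul_mem (mul_mem hiV (hle₁ heV₁)) hiV
    have h2 := ((hyd.mul_left hM hVp hle' (sub_mem hy hle')).add
      (hyd.mul_right hM hVp (sub_mem hy hle') hy)).neg.add hyd
    convert h2 using 1
    rw [mul_sub, sub_mul, hyy]
    abel
  have hYY : BrZero V (Y * Y - Y) := by
    have hdd : BrZero V (d * d - d) := by
      have e : d * d - d = i * eV * i * (i * eV * i) - i * eV * i := by
        have e1 : i * (i * eV * i) = i * eV * i := by simp only [← mul_assoc, hi.idem]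
        have e2 : i * eV * i * i = i * eV * i := by simp only [mul_assoc, hi.idem]
        simp only [hd, mul_sub, sub_mul, hi.idem, e1, e2]
        abel
      rw [e]; exact hcev
    have hD := sub_mem (fixV_mono (M := M) hVU s hYU) (hle₁ hdV₁)
    have h1 := ((hYd.mul_left hM hVp (fixV_mono (M := M) hVU s hYU) hD).add
      (hYd.mul_right hM hVp hD (hle₁ hdV₁))).add (hdd.sub hYd)
    convert h1 using 1
    rw [mul_sub, sub_mul]
    abel
  rcases dichotomy hM hVp hVU hi hYU (by rw [hY, ← mul_assoc, ← mul_assoc, hi.idem])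
    (by rw [hY, mul_assoc _ i i, hi.idem]) hYY with h | h
  · have h' := hYd.sub h
    rw [sub_sub_cancel_left] at h'
    simpa [hd] using h'.add (brZero_zero V)
  · exfalso
    have h' : BrZero V (d - i) := by simpa using hYd.neg.add h
    have h2 : BrZero V₁ (i * eV * i) := by
      have := (h'.mono hV₁lt.le).neg
      simpa [hd] using this
    have h3 : BrZero V₁ i := by simpa using h2.sub hd1
    exact hnzi (h3.mono inf_le_left)

end Cfsg.Agent.Lib.BrauerStar
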