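import Cfsg.Agent.Lib.BrauerStar.GroupRing
import Cfsg.Agent.Lib.Blocks.LocalModel
import Mathlib.LinearAlgebra.Matrix.Kronecker
import Mathlib.LinearAlgebra.Matrix.Charpoly.Eigs
import Mathlib.LinearAlgebra.Matrix.Charpoly.LinearMap
import Mathlib.Algebra.MonoidAlgebra.Lift

/-!
# Trace functions over the local ring on a subgroup
-/

set_option autoImplicit false
set_option linter.unusedSectionVars false
set_option linter.style.haveILetI false

namespace Cfsg.Agent.Lib.BrauerStar

open Cfsg Cfsg.Agent.Lib.Blocks Cfsg.Agent.Lib.Characters Polynomial Matrix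

universe u

variable {G : Type u} [Group G] [Fintype G] {M : Ideal AlgInt} [hMp : M.IsPrime] {p : ℕ}

/-- On `U` the function is the trace of a representation over the local ring times a commuting
matrix. -/
def IsLocTrace (M : Ideal AlgInt) [M.IsPrime] (U : Subgroup G) (f : G → ℂ) : Prop :=
  ∃ (n : ℕ) (T : U →* Matrix (Fin n) (Fin n) (locSubring M))
    (C : Matrix (Fin n) (Fin n) (locSubring M)), (∀ u, Commute (T u) C) ∧
      ∀ u : U, f (u : G) = ((T u * C).trace : ℂ)

theorem isLocTrace_zero (U : Subgroup G) : IsLocTrace M U (0 : G → ℂ) :=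
  ⟨0, 1, 0, fun _ => Commute.zero_right _, fun _ => by simp [Matrix.trace]⟩

theorem IsLocTrace.congr {U : Subgroup G} {f f' : G → ℂ} (h : IsLocTrace M U f)
    (he : ∀ u ∈ U, f' u = f u) : IsLocTrace M U f' := by
  obtain ⟨n, T, C, h1, h2⟩ := h
  exact ⟨n, T, C, h1, fun u => (he u u.2).trans (h2 u)⟩

theorem IsLocTrace.mono {U V : Subgroup G} (hVU : V ≤ U) {f : G → ℂ} (h : IsLocTrace M U f) :
    IsLocTrace M V f := by
  obtain ⟨n, T, C, h1, h2⟩ := h
  exact ⟨n, T.comp (Subgroup.inclusion hVU), C, fun u => h1 _,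
    fun u => h2 (Subgroup.inclusion hVU u)⟩

theorem IsLocTrace.conj_eq {U : Subgroup G} {f : G → ℂ} (h : IsLocTrace M U f) {w v : G}
    (hw : w ∈ U) (hv : v ∈ U) : f (w * v * w⁻¹) = f v := by
  obtain ⟨n, T, C, h1, h2⟩ := h
  rw [show w * v * w⁻¹ = ((⟨w, hw⟩ * ⟨v, hv⟩ * ⟨w, hw⟩⁻¹ : U) : G) from rfl, h2]
  refine Eq.trans ?_ (h2 ⟨v, hv⟩).symm
  rw [map_mul, map_mul]
  congr 1
  rw [mul_assoc, (h1 _).eq, Matrix.trace_mul_comm, mul_assoc, ← mul_assoc (T _) (T _),
    ← map_mul, inv_mul_cancel, map_one, one_mul, (h1 _).eq]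

theorem IsLocTrace.memLocalRing {U : Subgroup G} {f : G → ℂ} (h : IsLocTrace M U f) {u : G}
    (hu : u ∈ U) : MemLocalRing M (f u) := by
  obtain ⟨n, T, C, -, h2⟩ := h
  rw [show u = ((⟨u, hu⟩ : U) : G) from rfl, h2]
  exact ((T _ * C).trace).2

open scoped Kronecker in
theorem IsLocTrace.mul {U : Subgroup G} {f g : G → ℂ} (hf : IsLocTrace M U f)
    (hg : IsLocTrace M U g) : IsLocTrace M U (fun u => f u * g u) := by
  obtain ⟨n, T, C, h1, h2⟩ := hf
  obtain ⟨m, T', C', h1', h2'⟩ := hg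
  let e := (finProdFinEquiv : Fin n × Fin m ≃ Fin (n * m))
  let Φ := Matrix.reindexAlgEquiv (locSubring M) (locSubring M) e
  refine ⟨n * m,
    { toFun := fun u => Φ (T u ⊗ₖ T' u)
      map_one' := by rw [map_one, map_one, Matrix.one_kronecker_one, map_one]
      map_mul' := fun a b => by rw [map_mul, map_mul, Matrix.mul_kronecker_mul, map_mul] },
    Φ (C ⊗ₖ C'), fun u => ?_, fun u => ?_⟩
  · show Φ (T u ⊗ₖ T' u) * Φ (C ⊗ₖ C') = Φ (C ⊗ₖ C') * Φ (T u ⊗ₖ T' u)
    rw [← map_mul, ← map_mul, ← Matrix.mul_kronecker_mul, ← Matrix.mul_kronecker_mul, (h1 u).eq,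
      (h1' u).eq]
  · show f u * g u = _
    rw [h2, h2']
    show _ = (((Φ (T u ⊗ₖ T' u) * Φ (C ⊗ₖ C')).trace : locSubring M) : ℂ)
    rw [← map_mul, ← Matrix.mul_kronecker_mul, ← Subring.coe_mul, ← Matrix.trace_kronecker]
    congr 1
    exact (Fintype.sum_equiv e _ _ fun i => by simp [Φ, Matrix.diag]).symm.trans rfl |>.symm

theorem aeval_mul_idem {A : Type*} [Ring A] [Algebra ℂ A] {c e : A} (h : Commute c e)
    (he : e * e = e) (f : ℂ[X]) : aeval (c * e) (X * f) = aeval c (X * f) * e := by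
  induction f using Polynomial.induction_on with
  | C r =>
    rw [map_mul, map_mul, aeval_X, aeval_X, aeval_C, aeval_C, Algebra.algebraMap_eq_smul_one]
    simp only [mul_smul_comm, mul_one, smul_mul_assoc]
  | add f g hf hg => rw [mul_add, map_add, map_add, hf, hg, add_mul]
  | monomial n r _ =>
    have hpow : (c * e) ^ (n + 2) = c ^ (n + 2) * e := by
      rw [h.mul_pow]
      congr 1
      exact IsIdempotentElem.pow_succ_eq (n + 1) he
    rw [show X * (Polynomial.C r * X ^ (n + 1)) = Polynomial.C r * X ^ (n + 2) by ring, map_mul,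
      map_mul, map_pow, map_pow, aeval_X, aeval_X, aeval_C, aeval_C, hpow, mul_assoc]

/-- **The average of a trace function is local.** -/
theorem IsLocTrace.avg_mem {U : Subgroup G} [Fintype U] {f : G → ℂ} (h : IsLocTrace M U f) :
    MemLocalRing M ((Fintype.card U : ℂ)⁻¹ * ∑ u : U, f (u : G)) := by
  classical
  obtain ⟨n, T, C, h1, h2⟩ := h
  set ι := (locSubring M).subtype
  set T' : U →* Matrix (Fin n) (Fin n) ℂ := ι.mapMatrix.toMonoidHom.comp T
  set C' := ι.mapMatrix C
  set E : Matrix (Fin n) (Fin n) ℂ := (Fintype.card U : ℂ)⁻¹ • ∑ u : U, T' u with hE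
  have hcard : (Fintype.card U : ℂ) ≠ 0 := Nat.cast_ne_zero.2 Fintype.card_ne_zero
  have hTE : ∀ v : U, T' v * E = E := fun v => by
    rw [hE, mul_smul_comm, Finset.mul_sum]
    congr 1
    refine Fintype.sum_equiv (Equiv.mulLeft v) _ _ fun u => ?_
    rw [← map_mul]; rfl
  have hEE : E * E = E := by
    nth_rw 1 [hE]
    rw [smul_mul_assoc, Finset.sum_mul, Finset.sum_congr rfl fun u _ => hTE u, Finset.sum_const,
      Finset.card_univ, ← Nat.cast_smul_eq_nsmul ℂ, smul_smul, inv_mul_cancel₀ hcard, one_smul]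
  have hCE : Commute C' E := by
    rw [hE]
    refine Commute.smul_right (Commute.sum_right _ _ _ fun u _ => ?_) _
    exact (h1 u).symm.map ι.mapMatrix
  have hval : (Fintype.card U : ℂ)⁻¹ * ∑ u : U, f (u : G) = (C' * E).trace := by
    rw [hE, mul_smul_comm, Matrix.trace_smul, Matrix.mul_sum, Matrix.trace_sum, smul_eq_mul]
    congr 1
    refine Finset.sum_congr rfl fun u _ => ?_
    rw [h2 u, Matrix.trace_mul_comm C']
    show ((T u * C).trace : ℂ) = (ι.mapMatrix (T u) * ι.mapMatrix C).trace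
    rw [← map_mul]
    exact AddMonoidHom.map_trace ι.toAddMonoidHom _
  rw [hval]
  set g : (locSubring M)[X] := X * C.charpoly with hg
  have hgmonic : g.Monic := monic_X.mul (Matrix.charpoly_monic C)
  have hzero : aeval (C' * E) (g.map ι) = 0 := by
    rw [hg, Polynomial.map_mul, Polynomial.map_X, aeval_mul_idem hCE hEE, map_mul,
      ← Matrix.charpoly_map, show C.map ι = C' from rfl, Matrix.aeval_self_charpoly, mul_zero,
      zero_mul]
  rw [Matrix.trace_eq_sum_roots_charpoly]
  refine Multiset.sum_induction (fun z => MemLocalRing M z) _ (fun _ _ => memLocalRing_add)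
    memLocalRing_zero fun z hz => ?_
  refine memLocalRing_of_isIntegral_locSubring ⟨g, hgmonic, ?_⟩
  rcases Nat.eq_zero_or_pos n with rfl | hn
  · rw [show (C' * E).charpoly = 1 from Matrix.det_isEmpty] at hz; simp at hz
  haveI : Nonempty (Fin n) := ⟨⟨0, hn⟩⟩
  have hmem : z ∈ spectrum ℂ (C' * E) :=
    (Matrix.mem_spectrum_iff_isRoot_charpoly).2 ((mem_roots'.1 hz).2)
  have h3 := spectrum.subset_polynomial_aeval (C' * E) (g.map ι) ⟨z, hmem, rfl⟩
  rw [hzero, spectrum.zero_eq, Set.mem_singleton_iff] at h3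
  show g.eval₂ ι z = 0
  rw [Polynomial.eval₂_eq_eval_map]
  exact h3

/-- A character gives trace functions along a homomorphism, weighted by a commuting element of
the group ring. -/
theorem isLocTrace_irr {K : Type u} [Group K] [Fintype K] (hM : IsPModular p M)
    (ξ : IrrCharacter K) {U : Subgroup G} (φ : U →* K) {x : RG M K}
    (hx : ∀ u : U, Commute (el (φ u)) x) {f : G → ℂ}
    (hf : ∀ u : U, f (u : G) = ev (ξ : K → ℂ) (el (φ u) * x)) : IsLocTrace M U f := by
  classical
  obtain ⟨n, σ, hσ⟩ := exists_model (M := M) hM ξ.2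
  set L := MonoidAlgebra.lift (locSubring M) (Matrix (Fin n) (Fin n) (locSubring M)) K σ
  have hL : ∀ g : K, L (el g) = σ g := fun g => by
    show MonoidAlgebra.lift _ _ _ σ (MonoidAlgebra.of _ _ g) = σ g
    rw [MonoidAlgebra.lift_of]
  have htr : ∀ y : RG M K, ((L y).trace : ℂ) = ev (ξ : K → ℂ) y := by
    intro y
    show ((MonoidAlgebra.lift _ _ _ σ y).trace : ℂ) = _
    rw [MonoidAlgebra.lift_apply, Finsupp.sum_fintype _ _ (fun g => by simp), Matrix.trace_sum,
      AddSubmonoidClass.coe_finsetSum]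
    refine Finset.sum_congr rfl fun g _ => ?_
    rw [Matrix.trace_smul, smul_eq_mul, Subring.coe_mul, ← hσ g]
    congr 1
    exact AddMonoidHom.map_trace (locSubring M).subtype.toAddMonoidHom (σ g)
  refine ⟨n, σ.comp φ, L x, fun u => ?_, fun u => ?_⟩
  · show σ (φ u) * L x = L x * σ (φ u)
    rw [← hL, ← map_mul, ← map_mul, (hx u).eq]
  · show _ = ((σ (φ u) * L x).trace : ℂ)
    rw [hf, ← hL, ← map_mul, htr]

/-- A homomorphism into the units gives a trace function. -/
theorem isLocTrace_hom {U : Subgroup G} (ν : U →* ℂˣ) {f : G → ℂ}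
    (hf : ∀ u : U, f (u : G) = ((ν u : ℂˣ) : ℂ)) : IsLocTrace M U f := by
  classical
  have hR : ∀ u : U, MemLocalRing M ((ν u : ℂˣ) : ℂ) := fun u =>
    memLocalRing_of_isIntegral' (IsIntegral.of_pow (orderOf_pos u)
      (by rw [← Units.val_pow_eq_pow_val, ← map_pow, pow_orderOf_eq_one, map_one, Units.val_one]
          exact isIntegral_one))
  let ν' : U →* locSubring M :=
    { toFun := fun u => ⟨_, hR u⟩
      map_one' := Subtype.ext (by simp)
      map_mul' := fun a b => Subtype.ext (by simp) }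
  refine ⟨1, (Matrix.scalar (Fin 1)).toMonoidHom.comp ν', 1, fun u => Commute.one_right _,
    fun u => ?_⟩
  rw [hf, mul_one]
  simp [Matrix.trace, ν']

end Cfsg.Agent.Lib.BrauerStar
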