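import Cfsg.Agent.Lib.BrauerStar.ClassWeight
import Cfsg.Agent.Lib.BrauerStar.LocTrace

/-!
# The weight of a character of the defect group is a trace function below every pair
-/

set_option autoImplicit false
set_option linter.unusedSectionVars false
set_option linter.style.haveILetI false

namespace Cfsg.Agent.Lib.BrauerStar

open Cfsg Cfsg.Agent.Lib.Blocks Cfsg.Agent.Lib.Characters Cfsg.Agent.Lib.BrauerPairs

universe u

variable {G : Type u} [Group G] [Fintype G] {M : Ideal AlgInt} [hMp : M.IsPrime] {p : ℕ}
  {B : Set (IrrCharacter G)} {P : Subgroup G}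
  {e : Set (IrrCharacter (Subgroup.centralizer (P : Set G)))} {F : FusionSystem P}

local notation3 "Cz" u:max => Subgroup.centralizer (SetLike.coe (Subgroup.zpowers u))

/-- Below a pair of the block the weight is the trace of a representation of `P`. -/
theorem exists_isLocTrace_cls_of_pair (hM : IsPModular p M) (hmax : IsMaximalBrauerPair p M B P e)
    (hF : IsBlockFusionSystemOn p M B P e F) (hin : IsInnerFusion F) (φ : IrrCharacter P)
    {U : Subgroup G} {c : Set (IrrCharacter (Subgroup.centralizer (U : Set G)))}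
    (hc : IsBrauerPairOf p M B U c) :
    ∃ ν : G → ℂ, IsLocTrace M U ν ∧ ∀ u ∈ U, ∀ f : Set (IrrCharacter (Cz u)),
      SubpairLE p M (Subgroup.zpowers u) f U c →
        clsWeight p M e (φ : P → ℂ) u f = ν u := by
  classical
  obtain ⟨x, hx⟩ := exists_conj_subpairLE hM hmax hc
  let ψ : U →* P :=
    { toFun := fun u => ⟨x * (u : G) * x⁻¹, subpairLE_le hx ⟨u, u.2, rfl⟩⟩
      map_one' := Subtype.ext (by simp)
      map_mul' := fun a b => Subtype.ext (by simp [mul_assoc]) }
  refine ⟨fun g => if hg : g ∈ U then (φ : P → ℂ) (ψ ⟨g, hg⟩) else 0, ?_, fun u hu f hf => ?_⟩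
  · refine isLocTrace_irr hM φ ψ (x := 1) (fun u => Commute.one_right _) fun u => ?_
    rw [dif_pos u.2, mul_one, ev_el]
  · simp only []
    rw [dif_pos hu, clsWeight_eq hF hin (irr_isClassFunction φ)
      (subpairLE_trans (subpairLE_conj hf x) hx)]
    rfl

end Cfsg.Agent.Lib.BrauerStar
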