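import Cfsg.Agent.Lib.BrauerStar.PieceSection
import Cfsg.Agent.Lib.BrauerPairs.Nilpotent
import Cfsg.Agent.Lib.BrauerPairs.Saturation

/-!
# Weights from class functions of the defect group of a nilpotent block
-/

set_option autoImplicit false
set_option linter.unusedSectionVars false
set_option linter.style.haveILetI false

namespace Cfsg.Agent.Lib.BrauerStar

open Cfsg Cfsg.Agent.Lib.Blocks Cfsg.Agent.Lib.Characters Cfsg.Agent.Lib.BrauerPairs
  Cfsg.Agent.Lib.BlockHeights

universe u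

variable {G : Type u} [Group G] [Fintype G] {M : Ideal AlgInt} [hMp : M.IsPrime] {p : ℕ}
  {B : Set (IrrCharacter G)} {P : Subgroup G}
  {e : Set (IrrCharacter (Subgroup.centralizer (P : Set G)))} {F : FusionSystem P}

local notation3 "Cz" u:max => Subgroup.centralizer (SetLike.coe (Subgroup.zpowers u))

open scoped Classical in
/-- A class function of `P` carried to the pairs conjugate to pairs below `(P, e)`. -/
noncomputable def clsWeight (p : ℕ) (M : Ideal AlgInt)
    (e : Set (IrrCharacter (Subgroup.centralizer (P : Set G)))) (φ : P → ℂ) : PairWeight G :=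
  fun u f =>
    if h : ∃ x : G, SubpairLE p M ((Subgroup.zpowers u).map (MulAut.conj x).toMonoidHom)
        (conjBlock (Subgroup.zpowers u) x f) P e then
      if hm : h.choose * u * h.choose⁻¹ ∈ P then φ ⟨_, hm⟩ else 0
    else 0

/-- All maps of the fusion system are inner. -/
def IsInnerFusion (F : FusionSystem P) : Prop :=
  ∀ Q : Subgroup G, F.Hom Q = (innerFusionSystem P).Hom Q

/-- Two conjugates of a pair below `(P, e)` differ by an element of `P`. -/
theorem exists_pconj (hF : IsBlockFusionSystemOn p M B P e F) (hin : IsInnerFusion F) {u x y : G}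
    {f : Set (IrrCharacter (Cz u))}
    (hx : SubpairLE p M ((Subgroup.zpowers u).map (MulAut.conj x).toMonoidHom)
      (conjBlock (Subgroup.zpowers u) x f) P e)
    (hy : SubpairLE p M ((Subgroup.zpowers u).map (MulAut.conj y).toMonoidHom)
      (conjBlock (Subgroup.zpowers u) y f) P e) :
    ∃ g ∈ P, g * (x * u * x⁻¹) * g⁻¹ = y * u * y⁻¹ := by
  have hg : SubpairLE p M
      (((Subgroup.zpowers u).map (MulAut.conj x).toMonoidHom).map
        (MulAut.conj (y * x⁻¹)).toMonoidHom)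
      (conjBlock ((Subgroup.zpowers u).map (MulAut.conj x).toMonoidHom) (y * x⁻¹)
        (conjBlock (Subgroup.zpowers u) x f)) P e := by
    show Relation.ReflTransGen (NormalSubpairRel p M)
      (conjPair (y * x⁻¹) (conjPair x ⟨Subgroup.zpowers u, f⟩)) ⟨P, e⟩
    rw [← conjPair_mul, show y * x⁻¹ * x = y by group]
    exact hy
  have hmem : x * u * x⁻¹ ∈ (Subgroup.zpowers u).map (MulAut.conj x).toMonoidHom :=
    ⟨u, Subgroup.mem_zpowers u, rfl⟩
  have h1 : conjHom ((Subgroup.zpowers u).map (MulAut.conj x).toMonoidHom) (y * x⁻¹) ∈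
      F.Hom ((Subgroup.zpowers u).map (MulAut.conj x).toMonoidHom) :=
    (hF.2 _ _).2 ⟨subpairLE_le hx, y * x⁻¹, fun v => rfl, subpairLE_le hg, _, hx, hg⟩
  rw [hin] at h1
  obtain ⟨-, g, hg', he⟩ := h1
  refine ⟨g, hg', ?_⟩
  have h2 := he ⟨_, hmem⟩
  rw [← h2]
  show (y * x⁻¹) * (x * u * x⁻¹) * (y * x⁻¹)⁻¹ = _
  group

/-- The weight is the value at any conjugate below `(P, e)`. -/
theorem clsWeight_eq (hF : IsBlockFusionSystemOn p M B P e F) (hin : IsInnerFusion F) {φ : P → ℂ}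
    (hφ : IsClassFunction P φ) {u x : G} {f : Set (IrrCharacter (Cz u))}
    (hx : SubpairLE p M ((Subgroup.zpowers u).map (MulAut.conj x).toMonoidHom)
      (conjBlock (Subgroup.zpowers u) x f) P e) :
    clsWeight p M e φ u f = φ ⟨x * u * x⁻¹, conj_mem_of_subpairLE hx⟩ := by
  classical
  have h : ∃ x : G, SubpairLE p M ((Subgroup.zpowers u).map (MulAut.conj x).toMonoidHom)
      (conjBlock (Subgroup.zpowers u) x f) P e := ⟨x, hx⟩
  unfold clsWeight
  rw [dif_pos h, dif_pos (conj_mem_of_subpairLE h.choose_spec)]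
  obtain ⟨g, hg, he⟩ := exists_pconj hF hin h.choose_spec hx
  rw [← hφ ⟨_, conj_mem_of_subpairLE h.choose_spec⟩ ⟨g, hg⟩]
  exact congrArg φ (Subtype.ext he)

theorem clsWeight_eq_zero {φ : P → ℂ} {u : G} {f : Set (IrrCharacter (Cz u))}
    (h : ¬ ∃ x : G, SubpairLE p M ((Subgroup.zpowers u).map (MulAut.conj x).toMonoidHom)
      (conjBlock (Subgroup.zpowers u) x f) P e) :
    clsWeight p M e φ u f = 0 :=
  dif_neg h

theorem clsWeight_eq_zero_of_not_pair (hM : IsPModular p M)
    (hmax : IsMaximalBrauerPair p M B P e) {φ : P → ℂ} {u : G} {f : Set (IrrCharacter (Cz u))}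
    (h : ¬ IsBrauerPairOf p M B (Subgroup.zpowers u) f) : clsWeight p M e φ u f = 0 :=
  clsWeight_eq_zero fun hx => h (isBrauerPairOf_of_exists hM hmax hx)

/-- The weight is constant on conjugacy classes of pairs. -/
theorem clsWeight_conj (hF : IsBlockFusionSystemOn p M B P e F) (hin : IsInnerFusion F) {φ : P → ℂ}
    (hφ : IsClassFunction P φ) (u a : G) (f : Set (IrrCharacter (Cz u)))
    (f' : Set (IrrCharacter (Cz (a * u * a⁻¹))))
    (h : subgroupBlockCoeff (Cz (a * u * a⁻¹)) f' = gconj a (subgroupBlockCoeff (Cz u) f)) :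
    clsWeight p M e φ (a * u * a⁻¹) f' = clsWeight p M e φ u f := by
  classical
  have key : ∀ y : G,
      (SubpairLE p M ((Subgroup.zpowers (a * u * a⁻¹)).map (MulAut.conj y).toMonoidHom)
        (conjBlock (Subgroup.zpowers (a * u * a⁻¹)) y f') P e ↔
      SubpairLE p M ((Subgroup.zpowers u).map (MulAut.conj (y * a)).toMonoidHom)
        (conjBlock (Subgroup.zpowers u) (y * a) f) P e) := by
    intro y
    show Relation.ReflTransGen (NormalSubpairRel p M)
      (conjPair y ⟨Subgroup.zpowers (a * u * a⁻¹), f'⟩) ⟨P, e⟩ ↔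
      Relation.ReflTransGen (NormalSubpairRel p M)
      (conjPair (y * a) ⟨Subgroup.zpowers u, f⟩) ⟨P, e⟩
    rw [mk_eq_conjPair h, conjPair_mul]
  by_cases hex : ∃ y : G, SubpairLE p M
      ((Subgroup.zpowers (a * u * a⁻¹)).map (MulAut.conj y).toMonoidHom)
      (conjBlock (Subgroup.zpowers (a * u * a⁻¹)) y f') P e
  · obtain ⟨y, hy⟩ := hex
    rw [clsWeight_eq hF hin hφ hy, clsWeight_eq hF hin hφ ((key y).1 hy)]
    exact congrArg φ (Subtype.ext (by group))
  · rw [clsWeight_eq_zero hex, clsWeight_eq_zero]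
    rintro ⟨x, hx⟩
    refine hex ⟨x * a⁻¹, (key _).2 ?_⟩
    rw [inv_mul_cancel_right]
    exact hx

omit hMp in
theorem exists_pair_mk {a : BrauerPairIdx G} {Q : Subgroup G} (h : a.1 = Q) :
    ∃ f : Set (IrrCharacter (Subgroup.centralizer (Q : Set G))), a = ⟨Q, f⟩ := by
  obtain ⟨A, f⟩ := a
  simp only at h
  subst h
  exact ⟨f, rfl⟩

omit hMp in
theorem conjPair_eq_of_mem_centralizer {Q : Subgroup G} {z : G}
    (hz : z ∈ Subgroup.centralizer (Q : Set G))
    (f : Set (IrrCharacter (Subgroup.centralizer (Q : Set G)))) :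
    conjPair z (⟨Q, f⟩ : BrauerPairIdx G) = ⟨Q, f⟩ := by
  haveI := Fintype.ofFinite (Subgroup.centralizer (Q : Set G))
  refine pair_ext (map_conj_of_mem_normalizer (centralizer_le_normalizer' Q hz))
    ((pairCoeff_conjPair z ⟨Q, f⟩).trans (funext fun g => ?_))
  rw [gconj_apply]
  have h := isPInv_subgroupBlockCoeff_self f z⁻¹ (inv_mem hz) g
  rw [inv_inv] at h
  exact h

/-- The pair of `v` below `(P, e)` is the conjugate of exactly one pair at a representative. -/
theorem existsUnique_pair_rep (hM : IsPModular p M) (hmax : IsMaximalBrauerPair p M B P e)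
    (X : Finset G)
    (hXrep : ∀ g : G, (∃ k : ℕ, orderOf g = p ^ k) → ∃! x, x ∈ X ∧ IsConj g x) {v : G}
    (hv : v ∈ P) :
    ∃ u ∈ X, ∃ f : Bl M (Cz u), ∀ (u' : G) (f' : Bl M (Cz u')),
      (u' ∈ X ∧ ∃ x : G, x * u' * x⁻¹ = v ∧
        SubpairLE p M ((Subgroup.zpowers u').map (MulAut.conj x).toMonoidHom)
          (conjBlock (Subgroup.zpowers u') x f'.1) P e) ↔
      (⟨u', f'⟩ : Σ u : G, Bl M (Cz u)) = ⟨u, f⟩ := by
  classical
  haveI := Fact.mk hM.1
  have hpv : ∃ k : ℕ, orderOf v = p ^ k := by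
    obtain ⟨k, hk⟩ := IsPGroup.iff_orderOf.1 hmax.1.1.1 ⟨v, hv⟩
    exact ⟨k, by rw [← hk, Subgroup.orderOf_mk]⟩
  obtain ⟨u, ⟨huX, hvu⟩, huniq⟩ := hXrep v hpv
  obtain ⟨x, hx⟩ := isConj_iff.1 hvu.symm
  obtain ⟨fv, hfv, hle⟩ := exists_subpairLE hM hmax.1.1 (Subgroup.zpowers_le.2 hv)
  obtain ⟨f, hf⟩ := exists_pair_mk (a := conjPair x⁻¹ ⟨Subgroup.zpowers v, fv⟩)
    (Q := Subgroup.zpowers u) (by
      show (Subgroup.zpowers v).map (MulAut.conj x⁻¹).toMonoidHom = _
      rw [map_conj_zpowers, ← hx]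
      congr 1
      group)
  have hfx : conjPair x ⟨Subgroup.zpowers u, f⟩ = (⟨Subgroup.zpowers v, fv⟩ : BrauerPairIdx G) := by
    rw [← hf, conjPair_conjPair_inv]
  have hfB : IsPBlock M f := by
    have h2 : IsBrauerPairOf p M B (conjPair x⁻¹ ⟨Subgroup.zpowers v, fv⟩).1
        (conjPair x⁻¹ ⟨Subgroup.zpowers v, fv⟩).2 :=
      isBrauerPairOf_conj (isBrauerPairOf_of_subpairLE hM hmax hle) x⁻¹
    rw [hf] at h2
    exact h2.1.2
  refine ⟨u, huX, ⟨f, hfB⟩, fun u' f' => ⟨?_, ?_⟩⟩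
  · rintro ⟨hu', y, hy, hyle⟩
    obtain rfl : u' = u := huniq u' ⟨hu', (isConj_iff.2 ⟨y, hy⟩).symm⟩
    refine congrArg (Sigma.mk u') (Subtype.ext ?_)
    have h3 : conjPair y ⟨Subgroup.zpowers u', f'.1⟩ = conjPair x ⟨Subgroup.zpowers u', f⟩ := by
      rw [hfx]
      refine pair_unique hM hmax.1.1 hyle hle ?_
      show (Subgroup.zpowers u').map (MulAut.conj y).toMonoidHom = _
      rw [map_conj_zpowers, hy]
    have h4 : conjPair (x⁻¹ * y) ⟨Subgroup.zpowers u', f'.1⟩ =
        (⟨Subgroup.zpowers u', f⟩ : BrauerPairIdx G) := by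
      rw [conjPair_mul, h3, conjPair_inv_conjPair]
    rw [conjPair_eq_of_mem_centralizer] at h4
    · exact eq_of_heq (Sigma.mk.inj_iff.1 h4).2
    · rw [mem_Cz_iff]
      show u' * (x⁻¹ * y) = x⁻¹ * y * u'
      have h5 : y * u' * y⁻¹ = x * u' * x⁻¹ := hy.trans hx.symm
      calc u' * (x⁻¹ * y) = x⁻¹ * (x * u' * x⁻¹) * y := by group
        _ = x⁻¹ * (y * u' * y⁻¹) * y := by rw [h5]
        _ = _ := by group
  · intro h
    obtain ⟨rfl, h⟩ := Sigma.mk.inj_iff.1 h
    obtain rfl := eq_of_heq h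
    refine ⟨huX, x, hx, ?_⟩
    show Relation.ReflTransGen (NormalSubpairRel p M) (conjPair x ⟨Subgroup.zpowers u', f⟩) ⟨P, e⟩
    rw [hfx]
    exact hle

/-- The order of the centraliser in `P`. -/
noncomputable def centCard (v : P) : ℕ := Nat.card (Subgroup.centralizer ({v} : Set P))

/-- **A sum over the subsections of a nilpotent block as a sum over the defect group.** -/
theorem sum_pairs_eq (hM : IsPModular p M) (hmax : IsMaximalBrauerPair p M B P e)
    (hF : IsBlockFusionSystemOn p M B P e F) (hin : IsInnerFusion F) (X : Finset G)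
    (hXrep : ∀ g : G, (∃ k : ℕ, orderOf g = p ^ k) → ∃! x, x ∈ X ∧ IsConj g x)
    {w : PairWeight G} (hw : ConjInv M w)
    (h0 : ∀ u ∈ X, ∀ f, IsPBlock M f → ¬ IsBrauerPairOf p M B (Subgroup.zpowers u) f → w u f = 0)
    {c : P → ℂ}
    (hc : ∀ (v : P) (f : Set (IrrCharacter (Cz (v : G)))),
      SubpairLE p M (Subgroup.zpowers (v : G)) f P e → w (v : G) f = c v) [Fintype P] :
    ∑ u ∈ X, ∑ᶠ f : Bl M (Cz u), w u f.1 =
      (Nat.card P : ℂ)⁻¹ * ∑ v : P, (centCard v : ℂ) * c v := by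
  classical
  haveI : ∀ u : G, Fintype (Bl M (Cz u)) := fun u => Fintype.ofFinite _
  set R : (Σ u : G, Bl M (Cz u)) → P → Prop := fun i v =>
    ∃ x : G, x * i.1 * x⁻¹ = (v : G) ∧
      SubpairLE p M ((Subgroup.zpowers i.1).map (MulAut.conj x).toMonoidHom)
        (conjBlock (Subgroup.zpowers i.1) x i.2.1) P e with hR
  set S := X.sigma fun u => (Finset.univ : Finset (Bl M (Cz u))) with hS
  have hwc : ∀ i v, R i v → w i.1 i.2.1 = c v := by
    rintro ⟨u, f⟩ v ⟨x, hx, hle⟩
    obtain ⟨f', hf'⟩ := exists_pair_mk (a := conjPair x ⟨Subgroup.zpowers u, f.1⟩)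
      (Q := Subgroup.zpowers (x * u * x⁻¹)) (map_conj_zpowers u x)
    have hle' : SubpairLE p M (Subgroup.zpowers (x * u * x⁻¹)) f' P e := by
      have : Relation.ReflTransGen (NormalSubpairRel p M)
        (conjPair x ⟨Subgroup.zpowers u, f.1⟩) ⟨P, e⟩ := hle
      rwa [hf'] at this
    have hco : subgroupBlockCoeff (Cz (x * u * x⁻¹)) f' = gconj x (subgroupBlockCoeff (Cz u) f.1) := by
      have := pairCoeff_conjPair x (⟨Subgroup.zpowers u, f.1⟩ : BrauerPairIdx G)
      rw [hf'] at this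
      exact this
    rw [← hw u x f.1 f' f.2 hco]
    have hm : x * u * x⁻¹ ∈ P := conj_mem_of_subpairLE hle
    rw [hc ⟨_, hm⟩ f' hle']
    exact congrArg c (Subtype.ext hx)
  have hcol : ∀ v : P, (∑ i ∈ S, if R i v then (centCard v : ℂ) * c v else 0) =
      (centCard v : ℂ) * c v := by
    intro v
    obtain ⟨u, hu, f, hf⟩ := existsUnique_pair_rep hM hmax X hXrep v.2
    rw [Finset.sum_eq_single (⟨u, f⟩ : Σ u : G, Bl M (Cz u))]
    · rw [if_pos ((hf u f).2 rfl).2]
    · rintro ⟨u', f'⟩ hmem hne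
      exact if_neg fun h => hne ((hf u' f').1 ⟨(Finset.mem_sigma.1 hmem).1, h⟩)
    · intro h
      exact absurd (Finset.mem_sigma.2 ⟨hu, Finset.mem_univ f⟩) h
  have hrow : ∀ i ∈ S, (∑ v : P, if R i v then (centCard v : ℂ) * c v else 0) =
      (Nat.card P : ℂ) * w i.1 i.2.1 := by
    rintro ⟨u, f⟩ hi
    by_cases hex : ∃ v, R ⟨u, f⟩ v
    · obtain ⟨v₀, hv₀⟩ := hex
      have hset : ∀ v, R ⟨u, f⟩ v ↔ IsConj v₀ v := by
        obtain ⟨x, hx, hle⟩ := hv₀
        intro v
        constructor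
        · rintro ⟨y, hy, hyle⟩
          obtain ⟨g, hg, he⟩ := exists_pconj hF hin hle hyle
          refine isConj_iff.2 ⟨⟨g, hg⟩, Subtype.ext ?_⟩
          show g * (v₀ : G) * g⁻¹ = (v : G)
          rw [← hx, ← hy, he]
        · intro h
          obtain ⟨g, rfl⟩ := isConj_iff.1 h
          refine ⟨(g : G) * x, ?_, ?_⟩
          · show (g : G) * x * u * ((g : G) * x)⁻¹ = (g : G) * (v₀ : G) * (g : G)⁻¹
            rw [← hx]; group
          · show Relation.ReflTransGen (NormalSubpairRel p M)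
              (conjPair ((g : G) * x) ⟨Subgroup.zpowers u, f.1⟩) ⟨P, e⟩
            rw [conjPair_mul]
            exact subpairLE_conjPair_self g.2 hle
      have hk : ∀ v, R ⟨u, f⟩ v → (centCard v : ℕ) = centCard v₀ := by
        intro v hv
        have h1 := card_conj_mul_card_centralizer v
        have h2 := card_conj_mul_card_centralizer v₀
        have h3 : Nat.card {a : P // IsConj v a} = Nat.card {a : P // IsConj v₀ a} :=
          Nat.card_congr (Equiv.subtypeEquivRight fun a =>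
            ⟨fun h => ((hset v).1 hv).trans h, fun h => ((hset v).1 hv).symm.trans h⟩)
        rw [h3, ← h2] at h1
        haveI : Nonempty {a : P // IsConj v₀ a} := ⟨⟨v₀, IsConj.refl v₀⟩⟩
        exact Nat.eq_of_mul_eq_mul_left Nat.card_pos h1
      rw [← Finset.sum_filter, Finset.sum_congr rfl
        (g := fun _ => (centCard v₀ : ℂ) * w u f.1) (fun v hv => by
          rw [hk v (Finset.mem_filter.1 hv).2, hwc _ v (Finset.mem_filter.1 hv).2]),
        Finset.sum_const, nsmul_eq_mul, ← mul_assoc]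
      congr 1
      rw [← Nat.cast_mul]
      congr 1
      rw [← card_conj_mul_card_centralizer v₀, centCard]
      congr 1
      rw [Nat.card_eq_fintype_card, Fintype.card_subtype]
      exact congrArg Finset.card (Finset.filter_congr fun v _ => hset v)
    · have hnp : ¬ IsBrauerPairOf p M B (Subgroup.zpowers u) f.1 := fun hp => by
        obtain ⟨x, hx⟩ := exists_conj_subpairLE hM hmax hp
        exact hex ⟨⟨x * u * x⁻¹, conj_mem_of_subpairLE hx⟩, x, rfl, hx⟩
      rw [h0 u (Finset.mem_sigma.1 hi).1 f.1 f.2 hnp, mul_zero]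
      exact Finset.sum_eq_zero fun v _ => if_neg fun h => hex ⟨v, h⟩
  have key : ∑ v : P, (centCard v : ℂ) * c v = (Nat.card P : ℂ) * ∑ i ∈ S, w i.1 i.2.1 := by
    rw [Finset.mul_sum, ← Finset.sum_congr rfl hrow, Finset.sum_comm]
    exact Finset.sum_congr rfl fun v _ => (hcol v).symm
  rw [key, ← mul_assoc, inv_mul_cancel₀ (Nat.cast_ne_zero.2 Nat.card_pos.ne'), one_mul, hS,
    Finset.sum_sigma]
  exact Finset.sum_congr rfl fun u _ => finsum_eq_sum_of_fintype _

end Cfsg.Agent.Lib.BrauerStar
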