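import Cfsg.Agent.Lib.BrauerStar.Prim

/-!
# Counting the components of a relative trace modulo `p`
-/

set_option autoImplicit false
set_option linter.unusedSectionVars false

namespace Cfsg.Agent.Lib.BrauerStar

variable {R : Type*} [CommRing R] [IsLocalRing R]
variable {A : Type*} [Ring A] [Algebra R A] [Module.Finite R A]
variable {S : Subalgebra R A}

/-- An automorphism of `A` carrying `S` onto itself. -/
structure Stabilizes (S : Subalgebra R A) (σ : A ≃ₐ[R] A) : Prop where
  map_mem : ∀ a ∈ S, σ a ∈ S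
  symm_mem : ∀ a ∈ S, σ.symm a ∈ S

variable {σ : A ≃ₐ[R] A}

theorem InCorner.map (hσ : Stabilizes S σ) {i j c : A} (h : InCorner S i j c) :
    InCorner S (σ i) (σ j) (σ c) :=
  ⟨hσ.map_mem c h.1, by rw [← map_mul, h.2.1], by rw [← map_mul, h.2.2]⟩

theorem IsPrimIn.map (hσ : Stabilizes S σ) {i : A} (h : IsPrimIn S i) : IsPrimIn S (σ i) := by
  refine ⟨hσ.map_mem i h.mem, by rw [← map_mul, h.idem],
    fun h0 => h.ne_zero (σ.injective (by rw [h0, map_zero])), fun e he hee hie hei => ?_⟩
  rcases h.eq_or (σ.symm e) (hσ.symm_mem e he) (by rw [← map_mul, hee])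
    (σ.injective (by rw [map_mul, σ.apply_symm_apply, hie]))
    (σ.injective (by rw [map_mul, σ.apply_symm_apply, hei])) with h1 | h1
  · left; rw [← σ.apply_symm_apply e, h1, map_zero]
  · right; rw [← σ.apply_symm_apply e, h1]

theorem IsEquivIn.map (hσ : Stabilizes S σ) {i j : A} (h : IsEquivIn S i j) :
    IsEquivIn S (σ i) (σ j) := by
  obtain ⟨x, y, hx, hy, h1, h2⟩ := h
  exact ⟨σ x, σ y, hx.map hσ, hy.map hσ, by rw [← map_mul, h1], by rw [← map_mul, h2]⟩

theorem Stabilizes.symm (hσ : Stabilizes S σ) : Stabilizes S σ.symm :=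
  ⟨hσ.symm_mem, by simpa using hσ.map_mem⟩

theorem IsEquivIn.of_map (hσ : Stabilizes S σ) {i j : A} (h : IsEquivIn S (σ i) (σ j)) :
    IsEquivIn S i j := by
  simpa using h.map hσ.symm

open scoped Classical in
theorem IsDecomp.map (hσ : Stabilizes S σ) {T : Finset A} (h : IsDecomp S 1 T) :
    IsDecomp S 1 (T.image σ) := by
  refine ⟨fun l hl => ?_, fun l hl m hm hne => ?_, ?_⟩
  · obtain ⟨l, hl', rfl⟩ := Finset.mem_image.1 hl
    exact (h.prim l hl').map hσ
  · obtain ⟨l, hl', rfl⟩ := Finset.mem_image.1 hl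
    obtain ⟨m, hm', rfl⟩ := Finset.mem_image.1 hm
    rw [← map_mul, h.orth l hl' m hm' (fun e => hne (e ▸ rfl)), map_zero]
  · rw [Finset.sum_image σ.injective.injOn, ← map_sum, h.sum, map_one]

theorem rho_map (hR : MonicSplits R) (hσ : Stabilizes S σ) {i c : A} (hi : IsPrimIn S i)
    (hc : InCorner S i i c) : rho S (σ i) (σ c) = rho S i c := by
  obtain ⟨r, hr⟩ := exists_residue hR hi hc
  rw [rho_eq hR hi hc hr]
  refine rho_eq hR (hi.map hσ) (hc.map hσ) ?_
  rintro ⟨a, ha, hal, har, h1, h2⟩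
  refine hr ⟨σ.symm a, hσ.symm_mem a ha, σ.injective ?_, σ.injective ?_, σ.injective ?_,
    σ.injective ?_⟩ <;> simp only [map_mul, map_sub, map_smul, σ.apply_symm_apply] <;> assumption

theorem rho_conj (hR : MonicSplits R) {i j c x y : A} (hi : IsPrimIn S i) (hj : IsPrimIn S j)
    (hx : InCorner S i j x) (hy : InCorner S j i y) (h1 : x * y = i) (h2 : y * x = j)
    (hc : InCorner S i i c) : rho S j (y * c * x) = rho S i c := by
  obtain ⟨r, hr⟩ := exists_residue hR hi hc
  rw [rho_eq hR hi hc hr]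
  refine rho_eq hR hj ((hy.mul hc).mul hx) ?_
  rintro ⟨a, ha, hal, har, ha1, ha2⟩
  set z := c - r • i with hz
  have hzc : InCorner S i i z := hc.sub (inCorner_smul hi r)
  have e : y * z * x = y * c * x - r • j := by
    rw [hz, mul_sub, sub_mul, mul_smul_comm, smul_mul_assoc, hy.2.2, h2]
  rw [← e] at ha1 ha2
  have hac : InCorner S i i (x * a * y) := (hx.mul ⟨ha, hal, har⟩).mul hy
  refine hr ⟨x * a * y, hac.1, hac.2.1, hac.2.2, ?_, ?_⟩
  · calc z * (x * a * y) = (x * y) * z * (x * a * y) := by rw [h1, hzc.2.1]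
      _ = x * ((y * z * x) * a) * y := by simp only [mul_assoc]
      _ = i := by rw [ha1, hx.2.2, h1]
  · calc x * a * y * z = x * a * y * (z * (x * y)) := by rw [h1, hzc.2.2]
      _ = x * (a * (y * z * x)) * y := by simp only [mul_assoc]
      _ = i := by rw [ha2, hx.2.2, h1]

/-- The trace depends only on the class of the reference idempotent. -/
theorem tau_equiv (hR : MonicSplits R) {T : Finset A} (hT : IsDecomp S 1 T) {i j a : A}
    (hi : IsPrimIn S i) (hj : IsPrimIn S j) (h : IsEquivIn S i j) (ha : a ∈ S) :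
    tau S j T a = tau S i T a := by
  classical
  obtain ⟨x, y, hx, hy, h1, h2⟩ := h
  refine Finset.sum_congr rfl fun l hl => ?_
  by_cases hli : IsEquivIn S l i
  · obtain ⟨x', y', hx', hy', h1', h2'⟩ := hli
    have e1 : (x' * x) * (y * y') = l := by
      rw [show (x' * x) * (y * y') = x' * (x * y) * y' by simp only [mul_assoc], h1, hx'.2.2, h1']
    have e2 : (y * y') * (x' * x) = j := by
      rw [show (y * y') * (x' * x) = y * (y' * x') * x by simp only [mul_assoc], h2', hy.2.2, h2]
    rw [tauTerm_eq hR hi ha (hT.prim l hl) hx' hy' h1' h2',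
      tauTerm_eq hR hj ha (hT.prim l hl) (hx'.mul hx) (hy.mul hy') e1 e2,
      show y * y' * a * (x' * x) = y * (y' * a * x') * x by simp only [mul_assoc]]
    refine rho_conj hR hi hj hx hy h1 h2 ⟨S.mul_mem (S.mul_mem hy'.1 ha) hx'.1, ?_, ?_⟩
    · rw [← mul_assoc, ← mul_assoc, hy'.2.1]
    · rw [mul_assoc, hx'.2.2]
  · have hlj : ¬ IsEquivIn S l j := fun hh =>
      hli (hh.trans (IsEquivIn.symm ⟨x, y, hx, hy, h1, h2⟩))
    rw [tauTerm, tauTerm, dif_neg hli, dif_neg hlj]

open scoped Classical in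
theorem tau_map (hR : MonicSplits R) (hσ : Stabilizes S σ) {T : Finset A} (hT : IsDecomp S 1 T)
    {i a : A} (hi : IsPrimIn S i) (ha : a ∈ S) :
    tau S (σ i) (T.image σ) (σ a) = tau S i T a := by
  classical
  rw [tau, tau, Finset.sum_image σ.injective.injOn]
  refine Finset.sum_congr rfl fun l hl => ?_
  by_cases h : IsEquivIn S l i
  · obtain ⟨x, y, hx, hy, h1, h2⟩ := h
    rw [tauTerm_eq hR hi ha (hT.prim l hl) hx hy h1 h2,
      tauTerm_eq hR (hi.map hσ) (hσ.map_mem a ha) ((hT.prim l hl).map hσ) (hx.map hσ) (hy.map hσ)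
        (by rw [← map_mul, h1]) (by rw [← map_mul, h2]), ← map_mul, ← map_mul]
    refine rho_map hR hσ hi ⟨S.mul_mem (S.mul_mem hy.1 ha) hx.1, ?_, ?_⟩
    · rw [← mul_assoc, ← mul_assoc, hy.2.1]
    · rw [mul_assoc, hx.2.2]
  · rw [tauTerm, tauTerm, dif_neg h, dif_neg fun hh => h (hh.of_map hσ)]

theorem tau_sum (hR : MonicSplits R) {l₀ : A} (h₀ : IsPrimIn S l₀) (T : Finset A) {ι : Type*}
    (s : Finset ι) (f : ι → A) (hf : ∀ t ∈ s, f t ∈ S) :
    tau S l₀ T (∑ t ∈ s, f t) = ∑ t ∈ s, tau S l₀ T (f t) := by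
  classical
  induction s using Finset.induction_on with
  | empty =>
    rw [Finset.sum_empty, Finset.sum_empty]
    have h := tau_add (T := T) hR h₀ S.zero_mem S.zero_mem
    rwa [add_zero, eq_comm, add_eq_left] at h
  | insert a s ha ih =>
    have hf' := fun j hj => hf j (Finset.mem_insert_of_mem hj)
    rw [Finset.sum_insert ha, Finset.sum_insert ha,
      tau_add hR h₀ (hf a (Finset.mem_insert_self a s)) (S.sum_mem hf'), ih hf']

open scoped Classical in
/-- **Components of a relative trace, counted with invariant weights, vanish modulo `p`.** -/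
theorem sum_weight_eq_zero [IsDomain R] (hR : MonicSplits R) {p : ℕ} [Fact p.Prime]
    [CharP (IsLocalRing.ResidueField R) p] (hσ : Stabilizes S σ)
    (hσp : ∀ a ∈ S, (σ : A → A)^[p] a = a)
    {T J : Finset A} (hT : IsDecomp S 1 T) (hJ : J ⊆ T) {a : A} (ha : a ∈ S)
    (htr : ∑ l ∈ J, l = ∑ t ∈ Finset.range p, (σ : A → A)^[t] a)
    {V : Type*} [CommRing V] [CharP V p] (ψ : A → V)
    (hψe : ∀ l m, IsPrimIn S l → IsPrimIn S m → IsEquivIn S l m → ψ l = ψ m)
    (hψσ : ∀ l, IsPrimIn S l → ψ (σ l) = ψ l) :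
    ∑ l ∈ J, ψ l = 0 := by
  classical
  set i := ∑ l ∈ J, l with hi
  have hiS : i ∈ S := S.sum_mem fun l hl => (hT.prim l (hJ hl)).mem
  have hitS : ∀ t, (σ : A → A)^[t] a ∈ S := fun t => by
    induction t with
    | zero => exact ha
    | succ t ih => rw [Function.iterate_succ_apply']; exact hσ.map_mem _ ih
  have hσi : σ i = i := by
    have h1 := Finset.sum_range_succ' (fun t => (σ : A → A)^[t] a) p
    rw [Finset.sum_range_succ] at h1
    simp only [Function.iterate_zero, id_eq, hσp a ha] at h1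
    rw [htr, map_sum]
    refine Eq.trans (Finset.sum_congr rfl fun t _ => ?_) (add_right_cancel h1).symm
    exact (Function.iterate_succ_apply' (σ : A → A) t a).symm
  letI st : Setoid T := ⟨fun l m => IsEquivIn S (l : A) m,
    fun l => .refl (hT.prim l l.2), fun h => h.symm, fun h h' => h.trans h'⟩
  have hex : ∀ l : T, ∃ m : T, IsEquivIn S (σ (l : A)) m := by
    intro l
    have hp := (hT.prim l l.2).map hσ
    have hu : IsUnitIn S (σ (l : A)) (∑ m ∈ T, σ (l : A) * m * σ (l : A)) := by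
      rw [← Finset.sum_mul, ← Finset.mul_sum, hT.sum, mul_one, hp.idem]
      exact ⟨_, hp.mem, hp.idem, hp.idem, hp.idem, hp.idem⟩
    obtain ⟨m, hm, hm'⟩ := hp.exists_isUnitIn_of_sum hR T (fun m => σ (l : A) * m * σ (l : A))
      (fun m hm => ⟨S.mul_mem (S.mul_mem hp.mem (hT.prim m hm).mem) hp.mem,
        by rw [← mul_assoc, ← mul_assoc, hp.idem], by rw [mul_assoc, hp.idem]⟩) hu
    have hmp := hT.prim m hm
    refine ⟨⟨m, hm⟩, isEquivIn_of_isUnitIn (x := σ (l : A) * m) (y := m * σ (l : A)) hp hmp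
      ⟨S.mul_mem hp.mem hmp.mem, by rw [← mul_assoc, hp.idem], by rw [mul_assoc, hmp.idem]⟩
      ⟨S.mul_mem hmp.mem hp.mem, by rw [← mul_assoc, hmp.idem], by rw [mul_assoc, hp.idem]⟩ ?_⟩
    rwa [show σ (l : A) * m * (m * σ (l : A)) = σ (l : A) * (m * m) * σ (l : A) by
      simp only [mul_assoc], hmp.idem]
  choose s hs using hex
  let cnt : A → ℕ := fun l => (J.filter fun m => IsEquivIn S m l).card
  have hcnt : ∀ l m, IsEquivIn S l m → cnt l = cnt m := fun l m h =>
    congrArg Finset.card (Finset.filter_congr fun x _ => ⟨fun hh => hh.trans h, fun hh => hh.trans h.symm⟩)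
  -- the count is invariant modulo `p`
  have hinv : ∀ l : T, (cnt (s l : A) : V) = (cnt (l : A) : V) := by
    intro l
    have hp := hT.prim l l.2
    have h1 := tau_map hR hσ hT hp hiS
    rw [hσi, tau_congr hR (hp.map hσ) (hT.map hσ) hT hiS, hi, tau_subsum hR (hp.map hσ) hT hJ,
      tau_subsum hR hp hT hJ] at h1
    rw [CharP.natCast_eq_natCast V p, ← CharP.natCast_eq_natCast (IsLocalRing.ResidueField R) p]
    rw [hcnt _ _ (hs l).symm]
    exact h1
  have hfix : ∀ l : T, IsEquivIn S (σ (l : A)) l → (cnt (l : A) : V) = 0 := by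
    intro l hl
    have hp := hT.prim l l.2
    have hstep : ∀ x ∈ S, tau S (l : A) T (σ x) = tau S (l : A) T x := by
      intro x hx
      rw [tau_equiv hR hT (hp.map hσ) hp hl (hσ.map_mem x hx),
        tau_congr hR (hp.map hσ) hT (hT.map hσ) (hσ.map_mem x hx), tau_map hR hσ hT hp hx]
    have hall : ∀ t, tau S (l : A) T ((σ : A → A)^[t] a) = tau S (l : A) T a := fun t => by
      induction t with
      | zero => rfl
      | succ t ih => rw [Function.iterate_succ_apply', hstep _ (hitS t), ih]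
    have h1 := congrArg (tau S (l : A) T) htr
    rw [tau_subsum hR hp hT hJ, tau_sum hR hp T _ _ (fun t _ => hitS t),
      Finset.sum_congr rfl fun t _ => hall t, Finset.sum_const, Finset.card_range, nsmul_eq_mul,
      CharP.cast_eq_zero (IsLocalRing.ResidueField R) p, zero_mul] at h1
    rw [CharP.cast_eq_zero_iff V p]
    exact (CharP.cast_eq_zero_iff (IsLocalRing.ResidueField R) p _).1 h1
  haveI : Fintype (Quotient st) := Fintype.ofFinite _
  let F : Quotient st → V := Quotient.lift (fun l : T => (cnt (l : A) : V) * ψ l)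
    (fun l m (h : IsEquivIn S (l : A) m) => by
      show _ * _ = _ * _
      rw [hcnt _ _ h, hψe _ _ (hT.prim l l.2) (hT.prim m m.2) h])
  have hsum : ∑ l ∈ J, ψ l = ∑ q, F q := by
    let c : J → Quotient st := fun l => ⟦⟨l, hJ l.2⟩⟧
    rw [← Finset.sum_attach, ← Finset.sum_fiberwise J.attach c fun l => ψ (l : A)]
    refine Finset.sum_congr rfl fun q _ => ?_
    induction q using Quotient.inductionOn with
    | h l =>
      show _ = (cnt (l : A) : V) * ψ (l : A)
      rw [Finset.sum_congr rfl (g := fun _ => ψ (l : A)) (fun (m : J) hm => hψe _ _ (hT.prim m (hJ m.2))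
        (hT.prim l l.2) (Quotient.exact (Finset.mem_filter.1 hm).2)), Finset.sum_const, nsmul_eq_mul]
      congr 2
      refine Finset.card_bij (fun m _ => (m : A)) (fun m hm => Finset.mem_filter.2
        ⟨m.2, Quotient.exact (Finset.mem_filter.1 hm).2⟩) (fun _ _ _ _ h => Subtype.ext h)
        (fun m hm => ?_)
      obtain ⟨hmJ, hm'⟩ := Finset.mem_filter.1 hm
      exact ⟨⟨m, hmJ⟩, Finset.mem_filter.2 ⟨Finset.mem_attach _ _, Quotient.sound hm'⟩, rfl⟩
  let step : Quotient st → Quotient st := Quotient.lift (fun l => ⟦s l⟧)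
    (fun l m (h : IsEquivIn S (l : A) m) => Quotient.sound
      (((hs l).symm.trans (h.map hσ)).trans (hs m)))
  have hiter : ∀ (t : ℕ) (l : T), ∃ m : T, step^[t] ⟦l⟧ = ⟦m⟧ ∧
      IsEquivIn S ((σ : A → A)^[t] (l : A)) m := by
    intro t l
    induction t with
    | zero => exact ⟨l, rfl, .refl (hT.prim l l.2)⟩
    | succ t ih =>
      obtain ⟨m, hm, hm'⟩ := ih
      refine ⟨s m, by rw [Function.iterate_succ_apply', hm]; rfl, ?_⟩
      rw [Function.iterate_succ_apply']
      exact (hm'.map hσ).trans (hs m)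
  have hstepp : step^[p] = id := funext fun q => Quotient.inductionOn q fun l => by
    obtain ⟨m, hm, hm'⟩ := hiter p l
    rw [hσp _ (hT.prim l l.2).mem] at hm'
    rw [hm]
    exact Quotient.sound hm'.symm
  have hp0 : p ≠ 0 := (Fact.out : p.Prime).ne_zero
  have hbij : Function.Bijective step := by
    obtain ⟨n, rfl⟩ := Nat.exists_eq_succ_of_ne_zero hp0
    exact ⟨Function.LeftInverse.injective (g := step^[n]) fun q => by
        rw [← Function.iterate_succ_apply, hstepp]; rfl,
      Function.RightInverse.surjective (g := step^[n]) fun q => by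
        rw [← Function.iterate_succ_apply' step n, hstepp]; rfl⟩
  rw [hsum]
  refine Blocks.sum_eq_zero_of_perm_invariant p (Equiv.ofBijective step hbij) 1 ?_ F ?_ ?_
  · rw [pow_one]
    refine Equiv.ext fun q => ?_
    show ((Equiv.ofBijective step hbij) ^ p : Equiv.Perm (Quotient st)) q = q
    rw [Equiv.Perm.coe_pow]
    change step^[p] q = q
    rw [hstepp]; rfl
  · intro q
    induction q using Quotient.inductionOn with
    | h l =>
      show (cnt (s l : A) : V) * ψ (s l : A) = (cnt (l : A) : V) * ψ (l : A)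
      rw [hinv l, ← hψe _ _ ((hT.prim l l.2).map hσ) (hT.prim _ (s l).2) (hs l), hψσ _ (hT.prim l l.2)]
  · intro q
    induction q using Quotient.inductionOn with
    | h l =>
      intro hq
      show (cnt (l : A) : V) * ψ (l : A) = 0
      rw [hfix l ((hs l).trans (Quotient.exact hq)), zero_mul]

end Cfsg.Agent.Lib.BrauerStar
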