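import Cfsg.Agent.Lib.BrauerPairs.Basic
import Cfsg.Agent.Lib.Blocks.Sections
import Cfsg.Agent.Lib.Characters.Brauer
import Cfsg.Prelude.Def_BlockFusion

/-!
# The star product of a linear character of a defect group with a character of the block
-/

set_option autoImplicit false
set_option linter.unusedSectionVars false

namespace Cfsg.Agent.Lib.BrauerStar

open Cfsg Cfsg.Agent.Lib.Blocks Cfsg.Agent.Lib.Characters Cfsg.Agent.Lib.BrauerPairs

universe u

variable {G : Type u} [Group G] [Fintype G]

/-- Weights on the blocks of the centralizers of elements. -/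
abbrev PairWeight (G : Type u) [Group G] : Type u :=
  (u : G) → Set (IrrCharacter (Subgroup.centralizer (Subgroup.zpowers u : Set G))) → ℂ

open scoped Classical in
/-- The `p`-part of an element. -/
noncomputable def pElt (p : ℕ) (g : G) : G :=
  if h : ∃ x, IsPPart p g x then h.choose else 1

/-- The part of `χ` at `g` belonging to the block `f` of the centralizer of `u`: it is
`∑ c, e_f c * χ (g * c)`. -/
noncomputable def pieceVal (u : G)
    (f : Set (IrrCharacter (Subgroup.centralizer (Subgroup.zpowers u : Set G))))
    (χ : G → ℂ) (g : G) : ℂ :=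
  ∑ c : G, subgroupBlockCoeff (Subgroup.centralizer (Subgroup.zpowers u : Set G)) f c * χ (g * c)

/-- The sum of the parts of `χ` weighted by `η`. -/
noncomputable def starFun (p : ℕ) (M : Ideal AlgInt) (η : PairWeight G) (χ : G → ℂ) : G → ℂ :=
  fun g => ∑ᶠ f : Bl M (Subgroup.centralizer (Subgroup.zpowers (pElt p g) : Set G)),
    η (pElt p g) f.1 * pieceVal (pElt p g) f.1 χ g

variable {P : Subgroup G}

open scoped Classical in
/-- A linear character of `P` carried to the pairs conjugate to pairs below `(P, e)`. -/
noncomputable def linWeight (p : ℕ) (M : Ideal AlgInt)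
    (e : Set (IrrCharacter (Subgroup.centralizer (P : Set G)))) (lam : P →* ℂˣ) :
    PairWeight G :=
  fun u f =>
    if h : ∃ x : G, SubpairLE p M ((Subgroup.zpowers u).map (MulAut.conj x).toMonoidHom)
        (conjBlock (Subgroup.zpowers u) x f) P e then
      if hm : h.choose * u * h.choose⁻¹ ∈ P then ((lam ⟨_, hm⟩ : ℂˣ) : ℂ) else 0
    else 0

/-- The linear character is trivial on the focal subgroup. -/
def IsFocTrivial (F : FusionSystem P) (lam : P →* ℂˣ) : Prop :=
  ∀ y : P, (y : G) ∈ F.focalSubgroup → lam y = 1

end Cfsg.Agent.Lib.BrauerStar
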