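import Cfsg.Agent.Lib.BrauerStar.Count
import Cfsg.Agent.Lib.Blocks.Valuation
import Cfsg.Agent.Lib.Blocks.FixedSum
import Cfsg.Agent.Lib.Characters.Basic
import Mathlib.Algebra.MonoidAlgebra.Basic
import Mathlib.Analysis.Complex.Polynomial.Basic

/-!
# The group ring over the local ring: fixed points, the Brauer congruence, values of class functions
-/

set_option autoImplicit false
set_option linter.unusedSectionVars false
set_option linter.style.haveILetI false

namespace Cfsg.Agent.Lib.BrauerStar

open Cfsg Cfsg.Agent.Lib.Blocks Cfsg.Agent.Lib.Characters Polynomial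

universe u

variable {G : Type u} [Group G] [Fintype G] {M : Ideal AlgInt} [hMp : M.IsPrime] {p : ℕ}

/-- Monic polynomials split over the local ring. -/
theorem monicSplits_locSubring : MonicSplits (locSubring M) := by
  intro f hf
  set ι := (locSubring M).subtype
  have hsplit : f.map ι = ((f.map ι).roots.map fun z => X - C z).prod :=
    (IsAlgClosed.splits (f.map ι)).eq_prod_roots_of_monic (hf.map ι)
  have hmem : ∀ z ∈ (f.map ι).roots, MemLocalRing M z := by
    intro z hz
    refine memLocalRing_of_isIntegral_locSubring ⟨f, hf, ?_⟩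
    have := (mem_roots'.1 hz).2
    rwa [IsRoot, eval_map] at this
  classical
  refine ⟨(f.map ι).roots.map (fun z => if h : MemLocalRing M z then (⟨z, h⟩ : locSubring M) else 0),
    ?_⟩
  apply Polynomial.map_injective ι Subtype.val_injective
  rw [Polynomial.map_multiset_prod, Multiset.map_map, Multiset.map_map]
  conv_lhs => rw [hsplit]
  congr 1
  refine Multiset.map_congr rfl fun z hz => ?_
  simp [ι, hmem z hz]

/-- The group ring over the local ring. -/
abbrev RG (M : Ideal AlgInt) [M.IsPrime] (G : Type u) [Group G] : Type u :=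
  MonoidAlgebra (locSubring M) G

/-- A coefficient, as a complex number. -/
def coef (x : RG M G) (g : G) : ℂ := (x.coeff g : ℂ)

theorem memLocalRing_coef (x : RG M G) (g : G) : MemLocalRing M (coef x g) := (x.coeff g).2

theorem coef_add (x y : RG M G) : coef (x + y) = coef x + coef y := by
  funext g; simp [coef]

theorem coef_sub (x y : RG M G) : coef (x - y) = coef x - coef y := by
  funext g; simp [coef]

theorem coef_zero : coef (0 : RG M G) = 0 := by funext g; simp [coef]

theorem coef_smul (r : locSubring M) (x : RG M G) : coef (r • x) = (r : ℂ) • coef x := by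
  funext g; simp [coef]

theorem coef_sum {ι : Type*} (t : Finset ι) (f : ι → RG M G) :
    coef (∑ j ∈ t, f j) = ∑ j ∈ t, coef (f j) := by
  classical
  induction t using Finset.induction_on with
  | empty => simp [coef_zero]
  | insert a t ha ih => rw [Finset.sum_insert ha, Finset.sum_insert ha, coef_add, ih]

theorem coef_injective : Function.Injective (coef : RG M G → G → ℂ) := fun x y h => by
  apply MonoidAlgebra.coeff_injective
  ext g
  exact congrFun h g

theorem coef_mul (x y : RG M G) : coef (x * y) = conv (coef x) (coef y) := by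
  classical
  funext g
  rw [coef, MonoidAlgebra.coeff_mul_apply_left, Finsupp.sum_fintype _ _ (fun h => by simp),
    AddSubmonoidClass.coe_finsetSum]
  rfl

open scoped Classical in
theorem coef_single (g : G) (r : locSubring M) (h : G) :
    coef (MonoidAlgebra.single g r) h = if g = h then (r : ℂ) else 0 := by
  rw [coef, MonoidAlgebra.coeff_single, Finsupp.single_apply]
  split_ifs <;> rfl

/-- The group element `g` in the group ring. -/
noncomputable def el (g : G) : RG M G := MonoidAlgebra.of (locSubring M) G g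

theorem el_mul (g h : G) : (el (g * h) : RG M G) = el g * el h :=
  map_mul (MonoidAlgebra.of (locSubring M) G) g h

theorem el_one : (el (1 : G) : RG M G) = 1 := map_one (MonoidAlgebra.of (locSubring M) G)

theorem el_pow (g : G) (n : ℕ) : (el (g ^ n) : RG M G) = el g ^ n :=
  map_pow (MonoidAlgebra.of (locSubring M) G) g n

theorem coef_el_mul (g : G) (x : RG M G) (h : G) : coef (el g * x) h = coef x (g⁻¹ * h) := by
  rw [coef, el, MonoidAlgebra.of_apply, MonoidAlgebra.coeff_single_mul_apply, one_mul]; rfl

theorem coef_mul_el (x : RG M G) (g : G) (h : G) : coef (x * el g) h = coef x (h * g⁻¹) := by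
  rw [coef, el, MonoidAlgebra.of_apply, MonoidAlgebra.coeff_mul_single_apply, mul_one]; rfl

/-- The element with given coefficients. -/
noncomputable def ofFun (β : G → ℂ) (hβ : ∀ g, MemLocalRing M (β g)) : RG M G :=
  ∑ g : G, MonoidAlgebra.single g (⟨β g, hβ g⟩ : locSubring M)

theorem coef_ofFun (β : G → ℂ) (hβ : ∀ g, MemLocalRing M (β g)) : coef (ofFun β hβ) = β := by
  classical
  funext h
  rw [ofFun, coef_sum, Finset.sum_apply]
  simp [coef_single]

theorem smul_eq_zero' (r : locSubring M) (x : RG M G) (h : r • x = 0) : r = 0 ∨ x = 0 := by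
  by_cases hr : r = 0
  · exact Or.inl hr
  refine Or.inr (coef_injective ?_)
  funext g
  have h1 := congrFun (congrArg coef h) g
  rw [coef_smul, coef_zero] at h1
  rw [coef_zero]
  simpa [hr] using h1

/-! ### Conjugation -/

/-- Conjugation by a group element. -/
noncomputable def cj (g : G) : RG M G ≃ₐ[locSubring M] RG M G where
  toFun x := el g * x * el g⁻¹
  invFun x := el g⁻¹ * x * el g
  left_inv x := by
    simp only [← mul_assoc, ← el_mul, inv_mul_cancel, el_one, one_mul]
    simp only [mul_assoc, ← el_mul, inv_mul_cancel, el_one, mul_one]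
  right_inv x := by
    simp only [← mul_assoc, ← el_mul, mul_inv_cancel, el_one, one_mul]
    simp only [mul_assoc, ← el_mul, mul_inv_cancel, el_one, mul_one]
  map_mul' x y := by
    rw [show el g * x * el g⁻¹ * (el g * y * el g⁻¹) = el g * x * (el g⁻¹ * el g) * y * el g⁻¹ by
      simp only [mul_assoc], ← el_mul, inv_mul_cancel, el_one, mul_one]
    simp only [mul_assoc]
  map_add' x y := by simp only [mul_add, add_mul]
  commutes' r := by
    rw [Algebra.algebraMap_eq_smul_one, mul_smul_comm, mul_one, smul_mul_assoc, ← el_mul,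
      mul_inv_cancel, el_one]

theorem cj_apply (g : G) (x : RG M G) : cj g x = el g * x * el g⁻¹ := rfl

theorem cj_mul (g h : G) (x : RG M G) : cj (g * h) x = cj g (cj h x) := by
  simp only [cj_apply, el_mul, mul_inv_rev, mul_assoc]

theorem cj_one (x : RG M G) : cj (1 : G) x = x := by
  rw [cj_apply, inv_one, el_one, one_mul, mul_one]

theorem cj_iterate (g : G) (t : ℕ) (x : RG M G) :
    (cj (M := M) g : RG M G → RG M G)^[t] x = cj (g ^ t) x := by
  induction t with
  | zero => rw [Function.iterate_zero, id_eq, pow_zero, cj_one]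
  | succ t ih => rw [Function.iterate_succ_apply', ih, ← cj_mul, pow_succ']

theorem coef_cj (g : G) (x : RG M G) (h : G) : coef (cj g x) h = coef x (g⁻¹ * h * g) := by
  rw [cj_apply, coef_mul_el, coef_el_mul, inv_inv, mul_assoc]

theorem cj_eq_self_iff {g : G} {x : RG M G} :
    cj g x = x ↔ ∀ h, coef x (g * h * g⁻¹) = coef x h := by
  constructor
  · intro e h
    conv_lhs => rw [← e]
    rw [coef_cj]
    congr 1
    group
  · intro e
    refine coef_injective (funext fun h => ?_)
    rw [coef_cj, ← e (g⁻¹ * h * g)]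
    congr 1
    group

theorem commute_el_iff {g : G} {x : RG M G} : Commute (el g) x ↔ cj g x = x := by
  constructor
  · intro h
    rw [cj_apply, h.eq, mul_assoc, ← el_mul, mul_inv_cancel, el_one, mul_one]
  · intro h
    show el g * x = x * el g
    conv_rhs => rw [← h, cj_apply, mul_assoc, ← el_mul, inv_mul_cancel, el_one, mul_one]

/-- The elements fixed by `V` and by `s`. -/
noncomputable def fixV (M : Ideal AlgInt) [M.IsPrime] (V : Subgroup G) (s : G) :
    Subalgebra (locSubring M) (RG M G) :=
  Subalgebra.centralizer (locSubring M) (el '' ((V : Set G) ∪ {s}))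

theorem mem_fixV {V : Subgroup G} {s : G} {x : RG M G} :
    x ∈ fixV M V s ↔ (∀ v ∈ V, cj v x = x) ∧ cj s x = x := by
  rw [fixV, Subalgebra.mem_centralizer_iff]
  constructor
  · intro h
    exact ⟨fun v hv => commute_el_iff.1 (h _ ⟨v, Or.inl hv, rfl⟩),
      commute_el_iff.1 (h _ ⟨s, Or.inr rfl, rfl⟩)⟩
  · rintro ⟨h1, h2⟩ _ ⟨v, hv | hv, rfl⟩
    · exact commute_el_iff.2 (h1 v hv)
    · rw [Set.mem_singleton_iff] at hv
      subst hv
      exact commute_el_iff.2 h2

theorem fixV_mono {V W : Subgroup G} (h : V ≤ W) (s : G) : fixV M W s ≤ fixV M V s := fun x hx => by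
  rw [mem_fixV] at hx ⊢
  exact ⟨fun v hv => hx.1 v (h hv), hx.2⟩

theorem isPInv_coef {V : Subgroup G} {s : G} {x : RG M G} (hx : x ∈ fixV M V s) :
    IsPInv V (coef x) := fun a ha => cj_eq_self_iff.1 ((mem_fixV.1 hx).1 a ha)

theorem cj_mem_fixV {V : Subgroup G} {s g : G} (hg : g ∈ Subgroup.normalizer (V : Set G))
    (hgs : Commute g s) {x : RG M G} (hx : x ∈ fixV M V s) : cj g x ∈ fixV M V s := by
  rw [mem_fixV] at hx ⊢
  refine ⟨fun v hv => ?_, ?_⟩
  · have hv' : g⁻¹ * v * g ∈ V := by
      refine (Subgroup.mem_normalizer_iff.1 hg _).2 ?_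
      rwa [show g * (g⁻¹ * v * g) * g⁻¹ = v by group]
    conv_rhs => rw [← hx.1 _ hv']
    rw [← cj_mul, ← cj_mul]
    congr 2
    group
  · rw [← cj_mul, show s * g = g * s from hgs.eq.symm, cj_mul, hx.2]

theorem stabilizes_cj {V : Subgroup G} {s g : G} (hg : g ∈ Subgroup.normalizer (V : Set G))
    (hgs : Commute g s) : Stabilizes (fixV M V s) (cj (M := M) g) := by
  refine ⟨fun x hx => cj_mem_fixV hg hgs hx, fun x hx => ?_⟩
  have e : (cj (M := M) g).symm x = cj g⁻¹ x := by
    show el g⁻¹ * x * el g = el g⁻¹ * x * el (g⁻¹)⁻¹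
    rw [inv_inv]
  rw [e]
  exact cj_mem_fixV (inv_mem hg) hgs.inv_left hx

/-! ### The Brauer congruence -/

/-- The coefficients at `C(V)` are in the local ideal. -/
def BrZero (V : Subgroup G) (x : RG M G) : Prop :=
  ∀ g ∈ Subgroup.centralizer (V : Set G), MemLocalIdeal M (coef x g)

theorem BrZero.mono {V W : Subgroup G} (h : V ≤ W) {x : RG M G} (hx : BrZero V x) : BrZero W x :=
  fun g hg => hx g (Subgroup.centralizer_le h hg)

theorem brZero_zero (V : Subgroup G) : BrZero V (0 : RG M G) := fun g _ => by
  rw [coef_zero]; exact memLocalIdeal_zero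

theorem BrZero.add {V : Subgroup G} {x y : RG M G} (hx : BrZero V x) (hy : BrZero V y) :
    BrZero V (x + y) := fun g hg => by
  rw [coef_add]; exact memLocalIdeal_add (hx g hg) (hy g hg)

theorem BrZero.sub {V : Subgroup G} {x y : RG M G} (hx : BrZero V x) (hy : BrZero V y) :
    BrZero V (x - y) := fun g hg => by
  rw [coef_sub]; exact memLocalIdeal_sub (hx g hg) (hy g hg)

theorem BrZero.neg {V : Subgroup G} {x : RG M G} (hx : BrZero V x) : BrZero V (-x) := by
  simpa using (brZero_zero V).sub hx

theorem BrZero.smul {V : Subgroup G} {x : RG M G} (hx : BrZero V x) (r : locSubring M) :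
    BrZero V (r • x) := fun g hg => by
  rw [coef_smul]; exact memLocalIdeal_mul_left r.2 (hx g hg)

theorem BrZero.sum {V : Subgroup G} {ι : Type*} (t : Finset ι) {f : ι → RG M G}
    (h : ∀ j ∈ t, BrZero V (f j)) : BrZero V (∑ j ∈ t, f j) := fun g hg => by
  rw [coef_sum, Finset.sum_apply]; exact memLocalIdeal_sum _ fun j hj => h j hj g hg

theorem BrZero.mul_right (hM : IsPModular p M) {V : Subgroup G} (hV : IsPGroup p V) {s : G}
    {x y : RG M G} (hx : x ∈ fixV M V s) (hy : y ∈ fixV M V s) (h : BrZero V x) :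
    BrZero V (x * y) := fun g hg => by
  rw [coef_mul]
  have h1 := trunc_conv_congr hM V hV (memLocalRing_coef x) (memLocalRing_coef y) (isPInv_coef hx)
    (isPInv_coef hy) g
  rw [trunc_of_mem hg] at h1
  have h2 : MemLocalIdeal M (conv (trunc V (coef x)) (trunc V (coef y)) g) :=
    memLocalIdeal_sum _ fun c _ => by
      refine memLocalIdeal_mul_right ?_ (memLocalRing_trunc (memLocalRing_coef y) _)
      by_cases hc : c ∈ Subgroup.centralizer (V : Set G)
      · rw [trunc_of_mem hc]; exact h c hc
      · rw [trunc_of_notMem hc]; exact memLocalIdeal_zero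
  simpa using memLocalIdeal_add h1 h2

theorem BrZero.mul_left (hM : IsPModular p M) {V : Subgroup G} (hV : IsPGroup p V) {s : G}
    {x y : RG M G} (hx : x ∈ fixV M V s) (hy : y ∈ fixV M V s) (h : BrZero V y) :
    BrZero V (x * y) := fun g hg => by
  rw [coef_mul]
  have h1 := trunc_conv_congr hM V hV (memLocalRing_coef x) (memLocalRing_coef y) (isPInv_coef hx)
    (isPInv_coef hy) g
  rw [trunc_of_mem hg] at h1
  have h2 : MemLocalIdeal M (conv (trunc V (coef x)) (trunc V (coef y)) g) :=
    memLocalIdeal_sum _ fun c _ => by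
      refine memLocalIdeal_mul_left (memLocalRing_trunc (memLocalRing_coef x) _) ?_
      by_cases hc : c⁻¹ * g ∈ Subgroup.centralizer (V : Set G)
      · rw [trunc_of_mem hc]; exact h _ hc
      · rw [trunc_of_notMem hc]; exact memLocalIdeal_zero
  simpa using memLocalIdeal_add h1 h2

/-- All coefficients are in the local ideal. -/
theorem brZero_bot_iff {x : RG M G} : BrZero ⊥ x ↔ ∀ g, MemLocalIdeal M (coef x g) :=
  ⟨fun h g => h g (Subgroup.mem_centralizer_iff.2 fun a ha => by
    rw [SetLike.mem_coe, Subgroup.mem_bot] at ha; simp [ha]), fun h g _ => h g⟩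

/-- Small elements form an ideal. -/
theorem BrZero.bot_mul {x : RG M G} (h : BrZero ⊥ x) (y : RG M G) : BrZero ⊥ (x * y) := by
  rw [brZero_bot_iff] at h ⊢
  intro g
  rw [coef_mul]
  exact memLocalIdeal_sum _ fun c _ => memLocalIdeal_mul_right (h c) (memLocalRing_coef y _)

theorem BrZero.mul_bot {y : RG M G} (x : RG M G) (h : BrZero ⊥ y) : BrZero ⊥ (x * y) := by
  rw [brZero_bot_iff] at h ⊢
  intro g
  rw [coef_mul]
  exact memLocalIdeal_sum _ fun c _ => memLocalIdeal_mul_left (memLocalRing_coef x _) (h _)

/-- An idempotent with all coefficients in the local ideal is zero. -/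
theorem eq_zero_of_idem_small (hM : IsPModular p M) {e : RG M G} (he : e * e = e)
    (h : BrZero ⊥ e) : e = 0 := by
  classical
  by_contra hne
  rw [brZero_bot_iff] at h
  obtain ⟨g₀, hg₀, hsc⟩ := exists_scaling hM (coef e)
    (fun g => by
      obtain ⟨a, b, -, hab⟩ := memLocalRing_coef e g
      rw [← hab]; exact a.2.isAlgebraic.mul b.2.isAlgebraic.inv) (by
    by_contra hall
    push Not at hall
    exact hne (coef_injective (by rw [coef_zero]; exact funext hall)))
  let e₀ : RG M G := ofFun (fun g => (coef e g₀)⁻¹ * coef e g) hsc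
  have he0 : e = (⟨coef e g₀, memLocalRing_coef e g₀⟩ : locSubring M) • e₀ := by
    refine coef_injective (funext fun g => ?_)
    rw [coef_smul, coef_ofFun, Pi.smul_apply, smul_eq_mul, ← mul_assoc, mul_inv_cancel₀ hg₀, one_mul]
  have h2 := congrFun (congrArg coef he) g₀
  have hbig : coef e₀ g₀ = 1 := by rw [coef_ofFun]; exact inv_mul_cancel₀ hg₀
  rw [he0, smul_mul_smul_comm, coef_smul, coef_smul, Pi.smul_apply, Pi.smul_apply, smul_eq_mul,
    smul_eq_mul, Subring.coe_mul, mul_assoc, hbig, mul_one] at h2
  have h3 : coef e g₀ * coef (e₀ * e₀) g₀ = 1 :=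
    mul_left_cancel₀ hg₀ (by rw [mul_one]; exact h2)
  exact not_memLocalIdeal_one (M := M)
    (h3 ▸ memLocalIdeal_mul_right (h g₀) (memLocalRing_coef _ g₀))

/-- Evaluating a polynomial at an element idempotent modulo the Brauer congruence. -/
theorem brZero_aeval (hM : IsPModular p M) {V : Subgroup G} (hV : IsPGroup p V) {s : G}
    {c : RG M G} (hc : c ∈ fixV M V s) (hcc : BrZero V (c * c - c)) (P : (locSubring M)[X]) :
    BrZero V (aeval c P - (P.eval 0 • (1 : RG M G) + (P.eval 1 - P.eval 0) • c)) := by
  induction P using Polynomial.induction_on with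
  | C r =>
    rw [aeval_C, eval_C, eval_C, sub_self, zero_smul, add_zero, Algebra.algebraMap_eq_smul_one,
      sub_self]
    exact brZero_zero V
  | add f g hf hg =>
    have := hf.add hg
    convert this using 1
    simp only [map_add, eval_add, add_smul, sub_smul]
    abel
  | monomial n r _ =>
    have hpow : ∀ n : ℕ, BrZero V (c ^ (n + 1) - c) := by
      intro n
      induction n with
      | zero => simpa using brZero_zero V
      | succ n ih =>
        have h1 := BrZero.mul_right hM hV
          (sub_mem (pow_mem hc (n + 1)) hc) hc ih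
        have := h1.add hcc
        convert this using 1
        rw [sub_mul, pow_succ c (n + 1)]
        abel
    have := (hpow n).smul r
    convert this using 1
    rw [map_mul, aeval_C, map_pow, aeval_X, eval_mul, eval_mul, eval_C, eval_pow, eval_pow, eval_X,
      eval_X, one_pow, mul_one, zero_pow (Nat.succ_ne_zero n), mul_zero, zero_smul, zero_add,
      sub_zero, ← Algebra.smul_def, smul_sub, eval_C]

/-! ### Values of class functions -/

/-- A class function evaluated on the group ring. -/
noncomputable def ev (χ : G → ℂ) (x : RG M G) : ℂ := ∑ g : G, coef x g * χ g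

theorem ev_add (χ : G → ℂ) (x y : RG M G) : ev χ (x + y) = ev χ x + ev χ y := by
  simp only [ev, coef_add, Pi.add_apply, add_mul, Finset.sum_add_distrib]

theorem ev_sub (χ : G → ℂ) (x y : RG M G) : ev χ (x - y) = ev χ x - ev χ y := by
  simp only [ev, coef_sub, Pi.sub_apply, sub_mul, Finset.sum_sub_distrib]

theorem ev_smul (χ : G → ℂ) (r : locSubring M) (x : RG M G) :
    ev χ (r • x) = (r : ℂ) * ev χ x := by
  simp only [ev, coef_smul, Pi.smul_apply, smul_eq_mul, Finset.mul_sum, mul_assoc]

theorem ev_zero (χ : G → ℂ) : ev χ (0 : RG M G) = 0 := by simp [ev, coef_zero]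

theorem ev_sum (χ : G → ℂ) {ι : Type*} (t : Finset ι) (f : ι → RG M G) :
    ev χ (∑ j ∈ t, f j) = ∑ j ∈ t, ev χ (f j) := by
  simp only [ev, coef_sum, Finset.sum_apply, Finset.sum_mul]
  exact Finset.sum_comm

theorem ev_mul_comm {χ : G → ℂ} (hχ : IsClassFunction G χ) (x y : RG M G) :
    ev χ (x * y) = ev χ (y * x) := by
  simp only [ev, coef_mul, conv, Finset.sum_mul]
  rw [Finset.sum_comm]
  calc ∑ a, ∑ g, coef x a * coef y (a⁻¹ * g) * χ g
      = ∑ a, ∑ b, coef x a * coef y b * χ (a * b) := Finset.sum_congr rfl fun a _ =>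
        (Fintype.sum_equiv (Equiv.mulLeft a) _ _ fun b => by simp).symm
    _ = ∑ b, ∑ a, coef y b * coef x a * χ (b * a) := by
        rw [Finset.sum_comm]
        refine Finset.sum_congr rfl fun b _ => Finset.sum_congr rfl fun a _ => ?_
        rw [mul_comm (coef x a), show b * a = b * (a * b) * b⁻¹ by group, hχ]
    _ = ∑ b, ∑ g, coef y b * coef x (b⁻¹ * g) * χ g := Finset.sum_congr rfl fun b _ =>
        Fintype.sum_equiv (Equiv.mulLeft b) _ _ fun a => by simp
    _ = _ := Finset.sum_comm

theorem ev_el_mul (χ : G → ℂ) (g : G) (x : RG M G) :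
    ev χ (el g * x) = ∑ h, coef x h * χ (g * h) := by
  simp only [ev, coef_el_mul]
  exact (Fintype.sum_equiv (Equiv.mulLeft g) _ _ fun h => by simp).symm

theorem ev_el (χ : G → ℂ) (g : G) : ev χ (el g : RG M G) = χ g := by
  classical
  rw [← mul_one (el g : RG M G), ev_el_mul, Finset.sum_eq_single (1 : G)]
  · rw [← el_one, el, MonoidAlgebra.of_apply, coef_single, if_pos rfl]; simp
  · intro h _ hne
    rw [← el_one, el, MonoidAlgebra.of_apply, coef_single, if_neg (Ne.symm hne), zero_mul]
  · simp

theorem memLocalRing_ev {χ : G → ℂ} (hχ : ∀ g, MemLocalRing M (χ g)) (x : RG M G) :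
    MemLocalRing M (ev χ x) :=
  memLocalRing_sum _ fun g _ => memLocalRing_mul (memLocalRing_coef x g) (hχ g)

theorem memLocalIdeal_ev {χ : G → ℂ} (hχ : ∀ g, MemLocalRing M (χ g)) {x : RG M G}
    (h : BrZero ⊥ x) : MemLocalIdeal M (ev χ x) :=
  memLocalIdeal_sum _ fun g _ => memLocalIdeal_mul_right (brZero_bot_iff.1 h g) (hχ g)

end Cfsg.Agent.Lib.BrauerStar
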