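import Cfsg.Agent.Lib.BrauerStar.Vanish
import Cfsg.Agent.Lib.Blocks.SecondMain

/-!
# Values of class functions at idempotents: vanishing, congruence and additivity
-/

set_option autoImplicit false
set_option linter.unusedSectionVars false
set_option linter.style.haveILetI false

namespace Cfsg.Agent.Lib.BrauerStar

open Cfsg Cfsg.Agent.Lib.Blocks Cfsg.Agent.Lib.Characters Polynomial

universe u

variable {G : Type u} [Group G] [Fintype G] {M : Ideal AlgInt} [hMp : M.IsPrime] {p : ℕ}

/-- The setting of a section: a `p`-element and a commuting `p'`-element. -/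
structure SecData (p : ℕ) (u s : G) : Prop where
  pow : ∃ k : ℕ, orderOf u = p ^ k
  reg : ¬ p ∣ orderOf s
  comm : Commute u s

variable {u s : G}

theorem SecData.commute_zpowers (h : SecData p u s) :
    ∀ w ∈ Subgroup.zpowers u, Commute w s := by
  rintro w ⟨n, rfl⟩
  exact h.comm.zpow_left n

theorem SecData.isPGroup (h : SecData p u s) : IsPGroup p (Subgroup.zpowers u) :=
  isPGroup_zpowers_of_orderOf h.pow

theorem memLocalIdeal_pow_root_sub_one (hM : IsPModular p M) {ζ : ℂ} (hζ : ζ ^ p = 1) (t : ℕ) :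
    MemLocalIdeal M (ζ ^ t - 1) := by
  haveI := Fact.mk hM.1
  haveI := resField_charP (M := M) hM
  have h1 : (ζ ^ t) ^ p = 1 := by rw [← pow_mul, mul_comm, pow_mul, hζ, one_pow]
  have hR : MemLocalRing M (ζ ^ t) :=
    memLocalRing_of_isIntegral' (IsIntegral.of_pow hM.1.pos (by rw [h1]; exact isIntegral_one))
  have h2 : red M (⟨ζ ^ t, hR⟩ - 1) = 0 := by
    have h3 : red M (⟨ζ ^ t, hR⟩ : locSubring M) ^ p = 1 := by
      rw [← map_pow, show ((⟨ζ ^ t, hR⟩ : locSubring M) ^ p) = 1 from Subtype.ext (by simpa using h1),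
        map_one]
    rw [map_sub, map_one]
    apply (pow_eq_zero_iff hM.1.ne_zero).1
    rw [sub_pow_char, h3, one_pow, sub_self]
  simpa using (red_eq_zero_iff).1 h2

theorem cj_el_mem_fixV {u s : G} (h : Commute u s) :
    (el u : RG M G) ∈ fixV M (Subgroup.zpowers u) s := by
  refine mem_fixV.2 ⟨?_, commute_el_iff.1 (by
    show el s * el u = el u * el s
    rw [← el_mul, ← el_mul, h.eq])⟩
  rintro w ⟨n, rfl⟩
  refine commute_el_iff.1 ?_
  show el (u ^ n) * el u = el u * el (u ^ n)
  rw [← el_mul, ← el_mul, ((Commute.refl u).zpow_left n).eq]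

set_option maxHeartbeats 1000000 in
/-- **Vanishing**: an idempotent killed by the Brauer congruence at `u` has value zero on the
section of `u`. -/
theorem ev_eq_zero_of_brZero (hM : IsPModular p M) (hd : SecData p u s) {χ : G → ℂ}
    (hχ : IsClassFunction G χ) {x : RG M G} (hx : x ∈ fixV M (Subgroup.zpowers u) s)
    (hxx : x * x = x) (h0 : BrZero (Subgroup.zpowers u) x) :
    ev χ (el (u * s) * x) = 0 := by
  classical
  haveI := Fact.mk hM.1
  by_cases hu1 : u = 1
  · have hx0 : x = 0 := eq_zero_of_idem_small hM hxx (brZero_bot_iff.2 fun g => h0 g (by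
      rw [mem_centralizer_zpowers_iff, hu1]; exact Commute.one_left g))
    rw [hx0, mul_zero, ev_zero]
  obtain ⟨k, hk⟩ := hd.pow
  have hk0 : k ≠ 0 := fun h => hu1 (orderOf_eq_one_iff.1 (by rw [hk, h, pow_zero]))
  have hnot : u ∉ Subgroup.zpowers (u ^ p) := by
    rintro ⟨n, hn⟩
    have hord : orderOf u ∣ p ^ (k - 1) := by
      have hup : (u ^ p) ^ p ^ (k - 1) = 1 := by
        rw [← pow_mul, mul_comm, ← pow_succ, Nat.sub_add_cancel (Nat.pos_of_ne_zero hk0), ← hk,
          pow_orderOf_eq_one]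
      refine orderOf_dvd_of_pow_eq_one ?_
      rw [← hn, ← zpow_natCast, ← zpow_mul, mul_comm, zpow_mul, zpow_natCast, hup, one_zpow]
    rw [hk] at hord
    have := Nat.pow_dvd_pow_iff_le_right hM.1.one_lt |>.1 hord
    omega
  have hstep : MaxStep p (Subgroup.zpowers u) (Subgroup.zpowers (u ^ p)) u := by
    refine ⟨Subgroup.zpowers_le.2 (pow_mem (Subgroup.mem_zpowers u) p), Subgroup.mem_zpowers u, hnot,
      Subgroup.mem_zpowers _, ?_, ?_⟩
    · rw [Subgroup.mem_normalizer_iff]
      intro h
      have key : ∀ y ∈ Subgroup.zpowers (u ^ p), u * y * u⁻¹ = y := by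
        rintro y ⟨n, rfl⟩
        rw [(((Commute.refl u).pow_right p).zpow_right n).eq, mul_inv_cancel_right]
      refine ⟨fun hh => by rwa [key h hh], fun hh => ?_⟩
      have := key _ hh
      have e : u * h * u⁻¹ = h := by
        have h2 := congrArg (fun y => u⁻¹ * y * u) this
        simpa [mul_assoc] using h2
      rwa [e] at hh
    · rintro w ⟨n, rfl⟩
      have hp0 : (0 : ℤ) < (p : ℤ) := by exact_mod_cast hM.1.pos
      refine ⟨(n % p).toNat, ?_, _, zpow_mem (Subgroup.mem_zpowers (u ^ p)) (n / p), ?_⟩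
      · have h1 := Int.emod_lt_of_pos n hp0
        have h2 := Int.emod_nonneg n hp0.ne'
        omega
      · rw [← zpow_natCast u, Int.toNat_of_nonneg (Int.emod_nonneg n hp0.ne'), ← zpow_natCast u p,
          ← zpow_mul, ← zpow_add, Int.emod_add_mul_ediv]
  obtain ⟨a, ha, hxa⟩ : ∃ a ∈ fixV M (Subgroup.zpowers (u ^ p)) s,
      BrZero ⊥ (x - trU p u a) := by
    refine trace_induction hM hd.reg hd.isPGroup hd.commute_zpowers
      (fun Q u' => Q = Subgroup.zpowers (u ^ p) ∧ u' = u) ?_
      (fun y => ∃ a ∈ fixV M (Subgroup.zpowers (u ^ p)) s, BrZero ⊥ (y - trU p u a))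
      ?_ ?_ ?_ hx h0
    · intro g hg
      refine ⟨_, u, hstep, ?_, rfl, rfl⟩
      rintro w ⟨n, rfl⟩ hw
      obtain ⟨t, ht, q, ⟨m, hq⟩, he⟩ := hstep.cover _ ⟨n, rfl⟩
      by_cases ht0 : t = 0
      · rw [he, ht0, pow_zero, one_mul]; exact ⟨m, hq⟩
      exfalso
      apply hg
      rw [mem_centralizer_zpowers_iff]
      have hwg : Commute (u ^ n) g := mul_inv_eq_iff_eq_mul.1 hw
      have hn : ¬ (p : ℤ) ∣ n := by
        rintro ⟨d, rfl⟩
        have h1 : u ^ t ∈ Subgroup.zpowers (u ^ p) := by
          have h2 : u ^ t = u ^ ((p : ℤ) * d) * q⁻¹ := by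
            rw [show u ^ ((p : ℤ) * d) = u ^ t * q from he, mul_inv_cancel_right]
          rw [h2]
          exact mul_mem ⟨d, by simp [zpow_mul]⟩ (inv_mem ⟨m, hq⟩)
        have := Nat.le_of_dvd (Nat.pos_of_ne_zero ht0)
          (dvd_of_pow_mem hM.1 hnot (Subgroup.mem_zpowers _) h1)
        omega
      obtain ⟨c, d, hcd⟩ : IsCoprime n ((orderOf u : ℕ) : ℤ) := by
        rw [hk]
        push_cast
        refine (IsCoprime.pow_right ?_)
        rw [Int.isCoprime_iff_nat_coprime, Int.natAbs_natCast, Nat.coprime_comm,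
          hM.1.coprime_iff_not_dvd]
        exact fun hh => hn (Int.natCast_dvd.2 hh)
      have : u = (u ^ n) ^ c := by
        rw [← zpow_mul]
        have h1 : (n * c : ℤ) = 1 - d * (orderOf u : ℕ) := by linarith [mul_comm n c]
        rw [h1, zpow_sub, zpow_one, mul_comm d, zpow_mul, zpow_natCast, pow_orderOf_eq_one,
          one_zpow, inv_one, mul_one]
      rw [this]
      exact hwg.zpow_left c
    · intro y _ hy
      exact ⟨0, Subalgebra.zero_mem _, by simpa [trU] using hy⟩
    · rintro Q u' - ⟨rfl, rfl⟩ a ha -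
      exact ⟨a, ha, by rw [sub_self]; exact brZero_zero _⟩
    · rintro y z - - ⟨a, ha, h1⟩ ⟨b, hb, h2⟩
      refine ⟨a + b, Subalgebra.add_mem _ ha hb, ?_⟩
      convert h1.add h2 using 1
      rw [trU, trU, trU, Finset.sum_congr rfl fun t _ => map_add (cj (u ^ t)) a b,
        Finset.sum_add_distrib]
      abel
  -- an eigenvector congruent to `x`
  set ζ : ℂ := Complex.exp (2 * Real.pi * Complex.I / p) with hζdef
  have hζ : IsPrimitiveRoot ζ p := Complex.isPrimitiveRoot_exp p hM.1.ne_zero
  have hζR : MemLocalRing M ζ := memLocalRing_of_isIntegral' (hζ.isIntegral hM.1.pos)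
  set ζR : locSubring M := ⟨ζ, hζR⟩
  have hζp : ζR ^ p = 1 := Subtype.ext (by simpa [ζR] using hζ.pow_eq_one)
  set a' := x * a * x with ha'
  have hxV : ∀ t : ℕ, cj (u ^ t) x = x := fun t =>
    (mem_fixV.1 hx).1 _ (pow_mem (Subgroup.mem_zpowers u) t)
  have hx' : x ∈ fixV M (Subgroup.zpowers (u ^ p)) s :=
    fixV_mono (Subgroup.zpowers_le.2 (pow_mem (Subgroup.mem_zpowers u) p)) s hx
  have ha'S : a' ∈ fixV M (Subgroup.zpowers (u ^ p)) s :=
    Subalgebra.mul_mem _ (Subalgebra.mul_mem _ hx' ha) hx'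
  have ha'p : cj (u ^ p) a' = a' := (mem_fixV.1 ha'S).1 _ (Subgroup.mem_zpowers _)
  set z := ∑ t ∈ Finset.range p, ζR ^ t • cj (u ^ t) a' with hz
  have hxl : x * z = z := by
    rw [hz, Finset.mul_sum]
    refine Finset.sum_congr rfl fun t _ => ?_
    rw [mul_smul_comm]
    congr 1
    conv_lhs => rw [← hxV t]
    rw [← map_mul, ha', ← mul_assoc, ← mul_assoc, hxx]
  have hxr : z * x = z := by
    rw [hz, Finset.sum_mul]
    refine Finset.sum_congr rfl fun t _ => ?_
    rw [smul_mul_assoc]
    congr 1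
    conv_lhs => rw [← hxV t]
    rw [← map_mul, ha', mul_assoc _ x x, hxx]
  have hzx : BrZero ⊥ (z - x) := by
    have h1 : BrZero ⊥ (x * (x - trU p u a) * x) := (hxa.mul_bot x).bot_mul x
    have h2 : x * (x - trU p u a) * x = x - ∑ t ∈ Finset.range p, cj (u ^ t) a' := by
      rw [mul_sub, sub_mul, hxx, hxx, trU, Finset.mul_sum, Finset.sum_mul]
      refine congrArg (fun y => x - y) (Finset.sum_congr rfl fun t _ => ?_)
      rw [ha', map_mul, map_mul, hxV t]
    rw [h2] at h1
    have h3 : BrZero ⊥ (∑ t ∈ Finset.range p, (ζR ^ t - 1) • cj (u ^ t) a') := by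
      refine BrZero.sum _ fun t _ => brZero_bot_iff.2 fun g => ?_
      rw [coef_smul]
      refine memLocalIdeal_mul_right ?_ (memLocalRing_coef _ g)
      simpa [ζR] using memLocalIdeal_pow_root_sub_one hM hζ.pow_eq_one t
    convert h3.sub h1 using 1
    simp only [hz, sub_smul, one_smul, Finset.sum_sub_distrib]
    abel
  obtain ⟨P, S', T, hP0, hP1, hid, hS, -⟩ := exists_fitting (monicSplits_locSubring (M := M)) z
  obtain ⟨hPl, hPr⟩ := aeval_corner hxl hxr hP0
  have hE : aeval z P = x := by
    have hzz : BrZero ⊥ (z * z - z) := by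
      have h1 := ((hzx.mul_bot z).add (hzx.bot_mul x)).sub hzx
      convert h1 using 1
      rw [mul_sub, sub_mul, hxr, hxx]
      abel
    have hz1 : z ∈ fixV M (⊥ : Subgroup G) (1 : G) :=
      mem_fixV.2 ⟨fun v hv => by rw [Subgroup.mem_bot.1 hv, cj_one], cj_one z⟩
    have h1 := brZero_aeval hM IsPGroup.of_bot hz1 hzz P
    rw [hP0, hP1, zero_smul, zero_add, sub_zero, one_smul] at h1
    have h2 : BrZero ⊥ (x - aeval z P) := by
      convert (h1.add hzx).neg using 1
      abel
    have h3 : (x - aeval z P) * (x - aeval z P) = x - aeval z P := by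
      rw [mul_sub, sub_mul, sub_mul, hxx, hPr, hPl, hid.eq]
      abel
    exact (sub_eq_zero.1 (eq_zero_of_idem_small hM h3 h2)).symm
  set w := aeval z S'
  have hzw : z * w = x := hS.trans hE
  have hwz : w * z = x := by rw [← (commute_aeval (Commute.refl z) S').eq]; exact hzw
  have hgz : el (u * s) * z = ζR ^ (p - 1) • (z * el (u * s)) := by
    have hzfix : cj s z = z := by
      rw [hz, map_sum]
      refine Finset.sum_congr rfl fun t _ => ?_
      rw [map_smul, ← cj_mul, show s * u ^ t = u ^ t * s from (hd.comm.symm.pow_right t).eq, cj_mul,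
        (mem_fixV.1 ha'S).2]
    have hshift : cj u z = ζR ^ (p - 1) • z := by
      obtain ⟨n, hn⟩ := Nat.exists_eq_succ_of_ne_zero hM.1.ne_zero
      have h1 : ∀ t, cj u (cj (u ^ t) a') = cj (u ^ (t + 1)) a' := fun t => by
        rw [← cj_mul, pow_succ']
      have hpn : p - 1 = n := by omega
      rw [hz, map_sum, Finset.smul_sum, hpn, hn, Finset.sum_range_succ,
        Finset.sum_range_succ' (fun t => ζR ^ n • ζR ^ t • cj (u ^ t) a'), map_smul, h1]
      refine congrArg₂ (· + ·) (Finset.sum_congr rfl fun t _ => ?_) ?_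
      · rw [map_smul, h1, smul_smul]
        congr 1
        rw [← pow_add, show n + (t + 1) = p + t by omega, pow_add, hζp, one_mul]
      · rw [show n + 1 = p from hn.symm, ha'p, pow_zero, pow_zero, cj_one, one_smul]
    have h2 : cj (u * s) z = ζR ^ (p - 1) • z := by rw [cj_mul, hzfix, hshift]
    rw [← smul_mul_assoc, ← h2, cj_apply, mul_assoc, ← el_mul, inv_mul_cancel, el_one, mul_one]
  have hkey : ev χ (el (u * s) * x) = ((ζR ^ (p - 1) : locSubring M) : ℂ) * ev χ (el (u * s) * x) := by
    conv_lhs => rw [← hzw, ← mul_assoc, hgz, smul_mul_assoc, ev_smul, mul_assoc, ev_mul_comm hχ,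
      mul_assoc, hwz]
  have hne : ((ζR ^ (p - 1) : locSubring M) : ℂ) ≠ 1 := by
    have := hM.1.two_le
    simpa [ζR] using hζ.pow_ne_one_of_pos_of_lt (show p - 1 ≠ 0 by omega) (by omega)
  by_contra hne0
  exact hne (mul_right_cancel₀ hne0 (by rw [one_mul]; exact hkey.symm))

set_option maxHeartbeats 1000000 in
/-- **Congruent idempotents have equal values on the section.** -/
theorem ev_eq_of_congr (hM : IsPModular p M) (hd : SecData p u s) {χ : G → ℂ}
    (hχ : IsClassFunction G χ) {x y : RG M G} (hx : x ∈ fixV M (Subgroup.zpowers u) s)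
    (hy : y ∈ fixV M (Subgroup.zpowers u) s) (hxx : x * x = x) (hyy : y * y = y)
    (h0 : BrZero (Subgroup.zpowers u) (x - y)) :
    ev χ (el (u * s) * x) = ev χ (el (u * s) * y) := by
  have hV := hd.isPGroup
  set S := fixV M (Subgroup.zpowers u) s
  set c := x * y * x with hcdef
  have hc : c ∈ S := mul_mem (mul_mem hx hy) hx
  have hcx : BrZero (Subgroup.zpowers u) (c - x) := by
    have h1 : BrZero (Subgroup.zpowers u) (x * (x - y) * x) :=
      (h0.mul_left hM hV hx (sub_mem hx hy)).mul_right hM hV (mul_mem hx (sub_mem hx hy)) hx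
    have h2 := h1.neg
    convert h2 using 1
    rw [hcdef, mul_sub, sub_mul, hxx, hxx]
    abel
  obtain ⟨P, S', T, hP0, hP1, hid, hS, -⟩ := exists_fitting (monicSplits_locSubring (M := M)) c
  have hxc : x * c = c := by rw [hcdef, ← mul_assoc, ← mul_assoc, hxx]
  have hcxr : c * x = c := by rw [hcdef, mul_assoc _ x x, hxx]
  obtain ⟨hPl, hPr⟩ := aeval_corner hxc hcxr hP0
  set e := aeval c P with he
  have heS : e ∈ S := aeval_mem hc P
  have hcc : BrZero (Subgroup.zpowers u) (c * c - c) := by
    have h1 := ((hcx.mul_left hM hV hc (sub_mem hc hx)).add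
      (hcx.mul_right hM hV (sub_mem hc hx) hx)).sub hcx
    convert h1 using 1
    rw [mul_sub, sub_mul, hcxr, hxx]
    abel
  have hec : BrZero (Subgroup.zpowers u) (e - c) := by
    have h1 := brZero_aeval hM hV hc hcc P
    rwa [hP0, hP1, zero_smul, zero_add, sub_zero, one_smul] at h1
  have hxe : BrZero (Subgroup.zpowers u) (x - e) := by
    convert (hec.add hcx).neg using 1
    abel
  have h1 : ev χ (el (u * s) * (x - e)) = 0 := ev_eq_zero_of_brZero hM hd hχ (sub_mem hx heS)
    (by rw [mul_sub, sub_mul, sub_mul, hxx, hPr, hPl, hid.eq]; abel) hxe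
  -- transport `e` below `y`
  set w := aeval c S' * x with hwdef
  have hwS : w ∈ S := mul_mem (aeval_mem hc S') hx
  have hcw : c * w = e := by
    rw [hwdef, ← mul_assoc, hS, hPr]
  have hab : (e * y) * (y * (w * e)) = e := by
    have hwc : x * w = w := by
      rw [hwdef, ← mul_assoc, (commute_aeval (hxc.trans hcxr.symm) S').eq, mul_assoc, hxx]
    calc (e * y) * (y * (w * e)) = e * (y * (w * e)) := by
          rw [mul_assoc, ← mul_assoc y y, hyy]
      _ = (e * x) * (y * ((x * w) * e)) := by rw [hwc, hPr]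
      _ = e * (c * w) * e := by simp only [hcdef, mul_assoc]
      _ = e := by rw [hcw, hid.eq, hid.eq]
  set α := e * y
  set β := y * (w * e)
  have hαS : α ∈ S := mul_mem heS hy
  have hβS : β ∈ S := mul_mem hy (mul_mem hwS heS)
  have hy' : β * α ∈ S := mul_mem hβS hαS
  have hββ : β * e = β := by
    show y * (w * e) * e = y * (w * e)
    rw [mul_assoc, mul_assoc, hid.eq]
  have hy'y : y * (β * α) = β * α ∧ β * α * y = β * α := by
    constructor
    · simp only [α, β, ← mul_assoc, hyy]
    · simp only [α, β, mul_assoc, hyy]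
  have hy'y' : β * α * (β * α) = β * α := by
    rw [show β * α * (β * α) = β * (α * β) * α by simp only [mul_assoc], hab, hββ]
  have hyy' : BrZero (Subgroup.zpowers u) (y - β * α) := by
    have hwe : BrZero (Subgroup.zpowers u) (w * e - x) := by
      have h2 : BrZero (Subgroup.zpowers u) ((e - x) * w) :=
        (hxe.neg.mul_right hM hV (by simpa using sub_mem heS hx) hwS) |> fun h => by
          simpa [neg_sub] using h
      have h3 : BrZero (Subgroup.zpowers u) ((c - e) * w) := by
        have := hec.neg.mul_right hM hV (by simpa using sub_mem hc heS) hwS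
        simpa [neg_sub] using this
      have h4 : BrZero (Subgroup.zpowers u) (w * (e - x)) := by
        have := hxe.neg.mul_left hM hV hwS (by simpa using sub_mem heS hx)
        simpa [neg_sub] using this
      have hwc : x * w = w := by
        rw [hwdef, ← mul_assoc, (commute_aeval (hxc.trans hcxr.symm) S').eq, mul_assoc, hxx]
      have hwx : w * x = w := by rw [hwdef, mul_assoc, hxx]
      -- `w ≡ x` and `w * e ≡ w`
      have h5 : BrZero (Subgroup.zpowers u) (w - x) := by
        have h6 := (h2.add h3).add hxe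
        convert (h6.neg) using 1
        rw [sub_mul, sub_mul, hwc, hcw]
        abel
      convert h4.add h5 using 1
      rw [mul_sub, hwx]
      abel
    have hex : BrZero (Subgroup.zpowers u) (e - y) := by
      convert h0.sub hxe using 1
      abel
    have h7 : BrZero (Subgroup.zpowers u) (w * e - y) := by
      convert hwe.add h0 using 1
      abel
    have hβy : BrZero (Subgroup.zpowers u) (β - y) := by
      convert h7.mul_left hM hV hy (sub_mem (mul_mem hwS heS) hy) using 1
      show y * (w * e) - y = y * (w * e - y)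
      rw [mul_sub, hyy]
    have hαy : BrZero (Subgroup.zpowers u) (α - y) := by
      convert hex.mul_right hM hV (sub_mem heS hy) hy using 1
      show e * y - y = (e - y) * y
      rw [sub_mul, hyy]
    have h8 := ((hβy.mul_right hM hV (sub_mem hβS hy) hαS).add
      (hαy.mul_left hM hV hy (sub_mem hαS hy))).neg
    convert h8 using 1
    rw [sub_mul, mul_sub, hyy]
    abel
  have h2 : ev χ (el (u * s) * (y - β * α)) = 0 := ev_eq_zero_of_brZero hM hd hχ
    (sub_mem hy hy') (by rw [mul_sub, sub_mul, sub_mul, hyy, hy'y.1, hy'y.2, hy'y']; abel) hyy'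
  have hcomm : el (u * s) * β = β * el (u * s) := by
    refine (commute_el_iff.2 ?_).eq
    rw [cj_mul, (mem_fixV.1 hβS).2, (mem_fixV.1 hβS).1 u (Subgroup.mem_zpowers u)]
  rw [mul_sub, ev_sub, sub_eq_zero] at h1 h2
  rw [h1, h2]
  conv_lhs => rw [← hab]
  rw [← mul_assoc, ev_mul_comm hχ, ← mul_assoc β, ← hcomm, mul_assoc]

/-- Lifting an idempotent below `x`. -/
theorem exists_piece (hM : IsPModular p M) {V : Subgroup G} (hV : IsPGroup p V) {x e : RG M G}
    (hx : x ∈ fixV M V s) (he : e ∈ fixV M V s) (hxx : x * x = x)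
    (hc : BrZero V (x * e * x * (x * e * x) - x * e * x)) :
    ∃ y ∈ fixV M V s, y * y = y ∧ x * y = y ∧ y * x = y ∧ BrZero V (y - x * e * x) := by
  have hcS : x * e * x ∈ fixV M V s := mul_mem (mul_mem hx he) hx
  obtain ⟨P, S', T, hP0, hP1, hid, -, -⟩ := exists_fitting (monicSplits_locSubring (M := M)) (x * e * x)
  obtain ⟨hPl, hPr⟩ := aeval_corner (i := x) (c := x * e * x)
    (by rw [← mul_assoc, ← mul_assoc, hxx]) (by rw [mul_assoc _ x x, hxx]) hP0
  refine ⟨_, aeval_mem hcS P, hid.eq, hPl, hPr, ?_⟩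
  have h1 := brZero_aeval hM hV hcS hc P
  rwa [hP0, hP1, zero_smul, zero_add, sub_zero, one_smul] at h1

end Cfsg.Agent.Lib.BrauerStar
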