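import Cfsg.Agent.Lib.BlockHeights.SectionValues

/-!
# The ring generated by a root of unity of prime power order, localised at `M`

`ℤ[ζ]` has one prime over `p`, so an element of `ℤ[ζ][1/p]` lying in the local ring at `M`
lies in `ℤ[ζ]`.
-/

set_option autoImplicit false
set_option linter.unusedSectionVars false

namespace Cfsg.Agent.Lib.BrauerStar

open Cfsg Cfsg.Agent.Lib.Blocks Cfsg.Agent.Lib.Characters Cfsg.Agent.Lib.BlockHeights
open scoped ComplexConjugate

variable {p : ℕ} {M : Ideal AlgInt} [hMp : M.IsPrime] {a : ℕ}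

/-- `ℤ[ζ]` for a primitive root of order `p ^ (a + 1)`. -/
noncomputable def rootRing (p a : ℕ) : Subring ℂ :=
  Subring.closure {zeta (p ^ (a + 1))}

theorem zeta_mem_rootRing : zeta (p ^ (a + 1)) ∈ rootRing p a :=
  Subring.subset_closure rfl

theorem mem_rootRing_of_pow_eq_one (hp : p.Prime) {z : ℂ} (hz : z ^ p ^ (a + 1) = 1) :
    z ∈ rootRing p a := by
  haveI : NeZero (p ^ (a + 1)) := ⟨pow_ne_zero _ hp.ne_zero⟩
  obtain ⟨i, -, rfl⟩ := (isPrimitiveRoot_zeta (p ^ (a + 1))).eq_pow_of_pow_eq_one hz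
  exact pow_mem zeta_mem_rootRing i

theorem conj_mem_rootRing (hp : p.Prime) {z : ℂ} (hz : z ∈ rootRing p a) :
    conj z ∈ rootRing p a := by
  haveI : NeZero (p ^ (a + 1)) := ⟨pow_ne_zero _ hp.ne_zero⟩
  induction hz using Subring.closure_induction with
  | mem x hx =>
    rw [Set.mem_singleton_iff] at hx
    subst hx
    refine mem_rootRing_of_pow_eq_one hp ?_
    rw [← map_pow, (isPrimitiveRoot_zeta _).pow_eq_one, map_one]
  | zero => rw [map_zero]; exact zero_mem _
  | one => rw [map_one]; exact one_mem _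
  | add x y _ _ hx hy => rw [map_add]; exact add_mem hx hy
  | neg x _ hx => rw [map_neg]; exact neg_mem hx
  | mul x y _ _ hx hy => rw [map_mul]; exact mul_mem hx hy

theorem isIntegral_of_mem_rootRing (hp : p.Prime) {z : ℂ} (hz : z ∈ rootRing p a) :
    IsIntegral ℤ z := by
  haveI : NeZero (p ^ (a + 1)) := ⟨pow_ne_zero _ hp.ne_zero⟩
  induction hz using Subring.closure_induction with
  | mem x hx =>
    rw [Set.mem_singleton_iff] at hx
    subst hx
    exact (isPrimitiveRoot_zeta _).isIntegral (pow_pos hp.pos _)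
  | zero => exact isIntegral_zero
  | one => exact isIntegral_one
  | add x y _ _ hx hy => exact hx.add hy
  | neg x _ hx => exact hx.neg
  | mul x y _ _ hx hy => exact hx.mul hy

theorem mem_cycField_of_mem_rootRing (hp : p.Prime) {z : ℂ} (hz : z ∈ rootRing p a) :
    z ∈ cycField (p ^ (a + 1)) := by
  induction hz using Subring.closure_induction with
  | mem x hx =>
    rw [Set.mem_singleton_iff] at hx
    subst hx
    exact IntermediateField.mem_adjoin_simple_self ℚ _
  | zero => exact zero_mem _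
  | one => exact one_mem _
  | add x y _ _ hx hy => exact add_mem hx hy
  | neg x _ hx => exact neg_mem hx
  | mul x y _ _ hx hy => exact mul_mem hx hy

/-- The generator of the prime over `p`. -/
noncomputable def rootPi (p a : ℕ) : ℂ := zeta (p ^ (a + 1)) - 1

theorem rootPi_mem : rootPi p a ∈ rootRing p a := sub_mem zeta_mem_rootRing (one_mem _)

theorem rootPi_ne_zero (hp : p.Prime) : rootPi p a ≠ 0 := by
  haveI : NeZero (p ^ (a + 1)) := ⟨pow_ne_zero _ hp.ne_zero⟩
  intro h
  have h1 : zeta (p ^ (a + 1)) = 1 := sub_eq_zero.1 h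
  exact (isPrimitiveRoot_zeta (p ^ (a + 1))).ne_one (Nat.one_lt_pow (Nat.succ_ne_zero a) hp.one_lt) h1

theorem memLocalIdeal_rootPi (hM : IsPModular p M) : MemLocalIdeal M (rootPi p a) := by
  haveI : NeZero (p ^ (a + 1)) := ⟨pow_ne_zero _ hM.1.ne_zero⟩
  exact memLocalIdeal_root_sub_one hM (isPrimitiveRoot_zeta _).pow_eq_one

/-- `p` is a multiple of the generator. -/
theorem exists_natCast_eq_rootPi_mul (hp : p.Prime) :
    ∃ w ∈ rootRing p a, (p : ℂ) = rootPi p a * w := by
  haveI : NeZero (p ^ (a + 1)) := ⟨pow_ne_zero _ hp.ne_zero⟩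
  set ζ := zeta (p ^ (a + 1)) with hζ
  have hω : IsPrimitiveRoot (ζ ^ p ^ a) p :=
    (isPrimitiveRoot_zeta (p ^ (a + 1))).pow (pow_pos hp.pos _) (by rw [pow_succ])
  have hsum := hω.geom_sum_eq_zero hp.one_lt
  refine ⟨-(∑ i ∈ Finset.range p, ∑ j ∈ Finset.range (p ^ a * i), ζ ^ j), ?_, ?_⟩
  · exact neg_mem (sum_mem fun i _ => sum_mem fun j _ => pow_mem zeta_mem_rootRing j)
  · rw [mul_neg, Finset.mul_sum]
    have h1 : ∀ i ∈ Finset.range p, rootPi p a * (∑ j ∈ Finset.range (p ^ a * i), ζ ^ j) =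
        (ζ ^ p ^ a) ^ i - 1 := fun i _ => by
      rw [rootPi, ← hζ, mul_comm, geom_sum_mul, ← pow_mul]
    rw [Finset.sum_congr rfl h1, Finset.sum_sub_distrib, hsum]
    simp

/-- Every element is an integer modulo the generator. -/
theorem exists_int_add_rootPi_mul {z : ℂ} (hz : z ∈ rootRing p a) :
    ∃ (n : ℤ) (w : ℂ), w ∈ rootRing p a ∧ z = (n : ℂ) + rootPi p a * w := by
  induction hz using Subring.closure_induction with
  | mem x hx =>
    rw [Set.mem_singleton_iff] at hx
    subst hx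
    exact ⟨1, 1, one_mem _, by simp [rootPi]⟩
  | zero => exact ⟨0, 0, zero_mem _, by simp⟩
  | one => exact ⟨1, 0, zero_mem _, by simp⟩
  | add x y _ _ hx hy =>
    obtain ⟨n, w, hw, rfl⟩ := hx
    obtain ⟨m, v, hv, rfl⟩ := hy
    exact ⟨n + m, w + v, add_mem hw hv, by push_cast; ring⟩
  | neg x _ hx =>
    obtain ⟨n, w, hw, rfl⟩ := hx
    exact ⟨-n, -w, neg_mem hw, by push_cast; ring⟩
  | mul x y _ _ hx hy =>
    obtain ⟨n, w, hw, rfl⟩ := hx
    obtain ⟨m, v, hv, rfl⟩ := hy
    refine ⟨n * m, (n : ℂ) * v + w * (m : ℂ) + rootPi p a * (w * v), ?_, by push_cast; ring⟩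
    exact add_mem (add_mem (mul_mem (intCast_mem _ n) hv) (mul_mem hw (intCast_mem _ m)))
      (mul_mem rootPi_mem (mul_mem hw hv))

/-- Elements of the local ideal are multiples of the generator. -/
theorem exists_eq_rootPi_mul (hM : IsPModular p M) {z : ℂ} (hz : z ∈ rootRing p a)
    (h : MemLocalIdeal M z) : ∃ w ∈ rootRing p a, z = rootPi p a * w := by
  obtain ⟨n, w, hw, rfl⟩ := exists_int_add_rootPi_mul hz
  have hwR : MemLocalRing M w := memLocalRing_of_isIntegral' (isIntegral_of_mem_rootRing hM.1 hw)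
  have hn : MemLocalIdeal M (n : ℂ) := by
    have h1 := memLocalIdeal_sub h (memLocalIdeal_mul_right (memLocalIdeal_rootPi (a := a) hM) hwR)
    simpa using h1
  obtain ⟨k, rfl⟩ := (memLocalIdeal_intCast_iff hM n).1 hn
  obtain ⟨v, hv, hpv⟩ := exists_natCast_eq_rootPi_mul (p := p) (a := a) hM.1
  refine ⟨v * (k : ℂ) + w, add_mem (mul_mem hv (intCast_mem _ k)) hw, ?_⟩
  push_cast
  rw [hpv]
  ring

theorem mem_rootRing_of_div_rootPi_pow (hM : IsPModular p M) (j : ℕ) :
    ∀ z ∈ rootRing p a, MemLocalRing M (z / rootPi p a ^ j) → z / rootPi p a ^ j ∈ rootRing p a := by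
  induction j with
  | zero => intro z hz _; simpa using hz
  | succ j ih =>
    intro z hz h
    have hπ := rootPi_ne_zero (p := p) (a := a) hM.1
    have hπR : MemLocalRing M (rootPi p a) :=
      memLocalRing_of_isIntegral' (isIntegral_of_mem_rootRing hM.1 rootPi_mem)
    have hzI : MemLocalIdeal M z := by
      have h1 := memLocalIdeal_mul_right (memLocalIdeal_rootPi (a := a) hM)
        (memLocalRing_mul (memLocalRing_of_isIntegral'
          (isIntegral_of_mem_rootRing hM.1 (pow_mem (rootPi_mem (p := p) (a := a)) j))) h)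
      have e : rootPi p a * (rootPi p a ^ j * (z / rootPi p a ^ (j + 1))) = z := by
        field_simp
        ring
      rwa [e] at h1
    obtain ⟨w, hw, rfl⟩ := exists_eq_rootPi_mul hM hz hzI
    have e : rootPi p a * w / rootPi p a ^ (j + 1) = w / rootPi p a ^ j := by
      rw [pow_succ', mul_div_mul_left _ _ hπ]
    rw [e] at h ⊢
    exact ih w hw h

/-- A power of the generator is a multiple of `p`. -/
theorem exists_rootPi_pow_eq (hp : p.Prime) :
    ∃ w ∈ rootRing p a, rootPi p a ^ p ^ (a + 1) = (p : ℂ) * w := by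
  haveI : NeZero (p ^ (a + 1)) := ⟨pow_ne_zero _ hp.ne_zero⟩
  let t : rootRing p a := ⟨rootPi p a, rootPi_mem⟩
  obtain ⟨r, hr⟩ := exists_add_pow_prime_pow_eq hp t 1 (a + 1)
  rw [one_pow, mul_one] at hr
  have hr' := congrArg (Subtype.val : rootRing p a → ℂ) hr
  simp only [SubmonoidClass.coe_pow, AddMemClass.coe_add, MulMemClass.coe_mul, OneMemClass.coe_one,
    t] at hr'
  rw [show rootPi p a + 1 = zeta (p ^ (a + 1)) by simp [rootPi],
    (isPrimitiveRoot_zeta _).pow_eq_one] at hr'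
  refine ⟨-(rootPi p a * (r : ℂ)), neg_mem (mul_mem rootPi_mem r.2), ?_⟩
  have hpc : (((p : rootRing p a)) : ℂ) = (p : ℂ) := by simp
  rw [hpc] at hr'
  linear_combination (-1 : ℂ) * hr'

/-- **Local integrality makes elements of `ℤ[ζ][1/p]` integral.** -/
theorem mem_rootRing_of_pow_mul (hM : IsPModular p M) {x : ℂ} (N : ℕ)
    (hx : (p : ℂ) ^ N * x ∈ rootRing p a) (hR : MemLocalRing M x) : x ∈ rootRing p a := by
  obtain ⟨w, hw, hwe⟩ := exists_rootPi_pow_eq (p := p) (a := a) hM.1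
  have hπ := rootPi_ne_zero (p := p) (a := a) hM.1
  have hp0 : (p : ℂ) ≠ 0 := Nat.cast_ne_zero.2 hM.1.ne_zero
  have e : (p : ℂ) ^ N * x * w ^ N / rootPi p a ^ (p ^ (a + 1) * N) = x := by
    rw [pow_mul, hwe, mul_pow]
    have hw0 : w ≠ 0 := by
      rintro rfl
      rw [mul_zero] at hwe
      exact hπ (pow_eq_zero_iff (pow_ne_zero _ hM.1.ne_zero) |>.1 hwe)
    field_simp
  rw [← e]
  refine mem_rootRing_of_div_rootPi_pow hM _ _ (mul_mem hx (pow_mem hw N)) ?_
  rw [e]
  exact hR

end Cfsg.Agent.Lib.BrauerStar
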