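import Cfsg.Agent.Lib.BrauerStar.Defs
import Cfsg.Agent.Lib.BrauerPairs.Fusion

/-!
# The weight attached to a linear character of a defect group
-/

set_option autoImplicit false
set_option linter.unusedSectionVars false

namespace Cfsg.Agent.Lib.BrauerStar

open Cfsg Cfsg.Agent.Lib.Blocks Cfsg.Agent.Lib.Characters Cfsg.Agent.Lib.BrauerPairs

universe u

variable {G : Type u} [Group G] [Fintype G] {M : Ideal AlgInt} [hMp : M.IsPrime] {p : ℕ}
  {B : Set (IrrCharacter G)} {P : Subgroup G}
  {e : Set (IrrCharacter (Subgroup.centralizer (P : Set G)))} {F : FusionSystem P}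

theorem map_conj_zpowers (u x : G) :
    (Subgroup.zpowers u).map (MulAut.conj x).toMonoidHom = Subgroup.zpowers (x * u * x⁻¹) :=
  MonoidHom.map_zpowers (MulAut.conj x).toMonoidHom u

theorem conj_mem_of_subpairLE {u x : G}
    {f : Set (IrrCharacter (Subgroup.centralizer (Subgroup.zpowers u : Set G)))}
    (h : SubpairLE p M ((Subgroup.zpowers u).map (MulAut.conj x).toMonoidHom)
      (conjBlock (Subgroup.zpowers u) x f) P e) : x * u * x⁻¹ ∈ P :=
  subpairLE_le h ⟨u, Subgroup.mem_zpowers u, rfl⟩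

omit hMp in
theorem lam_eq_of_mem_focal {lam : P →* ℂˣ} (hlam : IsFocTrivial F lam) {a b : P}
    (h : (a : G)⁻¹ * (b : G) ∈ F.focalSubgroup) : lam a = lam b := by
  have h1 := hlam (a⁻¹ * b) (by simpa using h)
  rw [map_mul, map_inv, inv_mul_eq_one] at h1
  exact h1

/-- Two conjugates of a pair below `(P, e)` differ by a map of the fusion system. -/
theorem quot_mem_focal (hF : IsBlockFusionSystemOn p M B P e F) {u x y : G}
    {f : Set (IrrCharacter (Subgroup.centralizer (Subgroup.zpowers u : Set G)))}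
    (hx : SubpairLE p M ((Subgroup.zpowers u).map (MulAut.conj x).toMonoidHom)
      (conjBlock (Subgroup.zpowers u) x f) P e)
    (hy : SubpairLE p M ((Subgroup.zpowers u).map (MulAut.conj y).toMonoidHom)
      (conjBlock (Subgroup.zpowers u) y f) P e) :
    (x * u * x⁻¹)⁻¹ * (y * u * y⁻¹) ∈ F.focalSubgroup := by
  have hg : SubpairLE p M
      (((Subgroup.zpowers u).map (MulAut.conj x).toMonoidHom).map
        (MulAut.conj (y * x⁻¹)).toMonoidHom)
      (conjBlock ((Subgroup.zpowers u).map (MulAut.conj x).toMonoidHom) (y * x⁻¹)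
        (conjBlock (Subgroup.zpowers u) x f)) P e := by
    show Relation.ReflTransGen (NormalSubpairRel p M)
      (conjPair (y * x⁻¹) (conjPair x ⟨Subgroup.zpowers u, f⟩)) ⟨P, e⟩
    rw [← conjPair_mul, show y * x⁻¹ * x = y by group]
    exact hy
  have hmem : x * u * x⁻¹ ∈ (Subgroup.zpowers u).map (MulAut.conj x).toMonoidHom :=
    ⟨u, Subgroup.mem_zpowers u, rfl⟩
  refine Subgroup.subset_closure ⟨_, conjHom ((Subgroup.zpowers u).map (MulAut.conj x).toMonoidHom)
    (y * x⁻¹), ⟨_, hmem⟩, (hF.2 _ _).2 ⟨subpairLE_le hx, y * x⁻¹, fun v => rfl,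
      subpairLE_le hg, _, hx, hg⟩, ?_⟩
  show _ = (x * u * x⁻¹)⁻¹ * ((y * x⁻¹) * (x * u * x⁻¹) * (y * x⁻¹)⁻¹)
  group

/-- The weight is the value at any conjugate below `(P, e)`. -/
theorem linWeight_eq (hF : IsBlockFusionSystemOn p M B P e F) {lam : P →* ℂˣ}
    (hlam : IsFocTrivial F lam) {u x : G}
    {f : Set (IrrCharacter (Subgroup.centralizer (Subgroup.zpowers u : Set G)))}
    (hx : SubpairLE p M ((Subgroup.zpowers u).map (MulAut.conj x).toMonoidHom)
      (conjBlock (Subgroup.zpowers u) x f) P e) :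
    linWeight p M e lam u f =
      ((lam ⟨x * u * x⁻¹, conj_mem_of_subpairLE hx⟩ : ℂˣ) : ℂ) := by
  classical
  have h : ∃ x : G, SubpairLE p M ((Subgroup.zpowers u).map (MulAut.conj x).toMonoidHom)
      (conjBlock (Subgroup.zpowers u) x f) P e := ⟨x, hx⟩
  unfold linWeight
  rw [dif_pos h, dif_pos (conj_mem_of_subpairLE h.choose_spec)]
  congr 1
  exact lam_eq_of_mem_focal hlam (quot_mem_focal hF h.choose_spec hx)

theorem linWeight_eq_zero {lam : P →* ℂˣ} {u : G}
    {f : Set (IrrCharacter (Subgroup.centralizer (Subgroup.zpowers u : Set G)))}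
    (h : ¬ ∃ x : G, SubpairLE p M ((Subgroup.zpowers u).map (MulAut.conj x).toMonoidHom)
      (conjBlock (Subgroup.zpowers u) x f) P e) :
    linWeight p M e lam u f = 0 :=
  dif_neg h

/-- The pair of `a * u * a⁻¹` with the conjugate idempotent is the conjugate pair. -/
theorem mk_eq_conjPair {u a : G}
    {f : Set (IrrCharacter (Subgroup.centralizer (Subgroup.zpowers u : Set G)))}
    {f' : Set (IrrCharacter (Subgroup.centralizer (Subgroup.zpowers (a * u * a⁻¹) : Set G)))}
    (h : subgroupBlockCoeff (Subgroup.centralizer (Subgroup.zpowers (a * u * a⁻¹) : Set G)) f' =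
      gconj a (subgroupBlockCoeff (Subgroup.centralizer (Subgroup.zpowers u : Set G)) f)) :
    (⟨Subgroup.zpowers (a * u * a⁻¹), f'⟩ : BrauerPairIdx G) =
      conjPair a ⟨Subgroup.zpowers u, f⟩ :=
  pair_ext (map_conj_zpowers u a).symm (by rw [pairCoeff_conjPair]; exact h)

/-- The weight is constant on conjugacy classes of pairs. -/
theorem linWeight_conj (hF : IsBlockFusionSystemOn p M B P e F) {lam : P →* ℂˣ}
    (hlam : IsFocTrivial F lam) (u a : G)
    (f : Set (IrrCharacter (Subgroup.centralizer (Subgroup.zpowers u : Set G))))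
    (f' : Set (IrrCharacter (Subgroup.centralizer (Subgroup.zpowers (a * u * a⁻¹) : Set G))))
    (h : subgroupBlockCoeff (Subgroup.centralizer (Subgroup.zpowers (a * u * a⁻¹) : Set G)) f' =
      gconj a (subgroupBlockCoeff (Subgroup.centralizer (Subgroup.zpowers u : Set G)) f)) :
    linWeight p M e lam (a * u * a⁻¹) f' = linWeight p M e lam u f := by
  classical
  have key : ∀ y : G,
      (SubpairLE p M ((Subgroup.zpowers (a * u * a⁻¹)).map (MulAut.conj y).toMonoidHom)
        (conjBlock (Subgroup.zpowers (a * u * a⁻¹)) y f') P e ↔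
      SubpairLE p M ((Subgroup.zpowers u).map (MulAut.conj (y * a)).toMonoidHom)
        (conjBlock (Subgroup.zpowers u) (y * a) f) P e) := by
    intro y
    show Relation.ReflTransGen (NormalSubpairRel p M)
      (conjPair y ⟨Subgroup.zpowers (a * u * a⁻¹), f'⟩) ⟨P, e⟩ ↔
      Relation.ReflTransGen (NormalSubpairRel p M)
      (conjPair (y * a) ⟨Subgroup.zpowers u, f⟩) ⟨P, e⟩
    rw [mk_eq_conjPair h, conjPair_mul]
  by_cases hex : ∃ y : G, SubpairLE p M
      ((Subgroup.zpowers (a * u * a⁻¹)).map (MulAut.conj y).toMonoidHom)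
      (conjBlock (Subgroup.zpowers (a * u * a⁻¹)) y f') P e
  · obtain ⟨y, hy⟩ := hex
    rw [linWeight_eq hF hlam hy, linWeight_eq hF hlam ((key y).1 hy)]
    congr 2
    exact Subtype.ext (by group)
  · rw [linWeight_eq_zero hex, linWeight_eq_zero]
    rintro ⟨x, hx⟩
    refine hex ⟨x * a⁻¹, (key _).2 ?_⟩
    rw [inv_mul_cancel_right]
    exact hx

/-- A pair below `(P, e)` after conjugation is a pair of the block. -/
theorem isBrauerPairOf_of_exists (hM : IsPModular p M) (hmax : IsMaximalBrauerPair p M B P e)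
    {Q : Subgroup G} {f : Set (IrrCharacter (Subgroup.centralizer (Q : Set G)))}
    (h : ∃ x : G, SubpairLE p M (Q.map (MulAut.conj x).toMonoidHom) (conjBlock Q x f) P e) :
    IsBrauerPairOf p M B Q f := by
  obtain ⟨x, hx⟩ := h
  have h2 : IsBrauerPairOf p M B (conjPair x⁻¹ (conjPair x ⟨Q, f⟩)).1
      (conjPair x⁻¹ (conjPair x ⟨Q, f⟩)).2 :=
    isBrauerPairOf_conj (isBrauerPairOf_of_subpairLE hM hmax hx) x⁻¹
  rwa [conjPair_inv_conjPair] at h2

/-- The weight vanishes away from the pairs of the block. -/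
theorem linWeight_eq_zero_of_not_pair (hM : IsPModular p M)
    (hmax : IsMaximalBrauerPair p M B P e) {lam : P →* ℂˣ} {u : G}
    {f : Set (IrrCharacter (Subgroup.centralizer (Subgroup.zpowers u : Set G)))}
    (h : ¬ IsBrauerPairOf p M B (Subgroup.zpowers u) f) :
    linWeight p M e lam u f = 0 :=
  linWeight_eq_zero fun hx => h (isBrauerPairOf_of_exists hM hmax hx)

theorem lam_pow_card (lam : P →* ℂˣ) (y : P) :
    ((lam y : ℂˣ) : ℂ) ^ Nat.card P = 1 := by
  rw [← Units.val_pow_eq_pow_val, ← map_pow, pow_card_eq_one', map_one, Units.val_one]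

theorem norm_lam (lam : P →* ℂˣ) (y : P) : ‖((lam y : ℂˣ) : ℂ)‖ = 1 :=
  Complex.norm_eq_one_of_pow_eq_one (lam_pow_card lam y) Nat.card_pos.ne'

/-- The weight is a root of unity on the pairs of the block. -/
theorem norm_linWeight (hM : IsPModular p M) (hmax : IsMaximalBrauerPair p M B P e)
    (hF : IsBlockFusionSystemOn p M B P e F) {lam : P →* ℂˣ} (hlam : IsFocTrivial F lam) {u : G}
    {f : Set (IrrCharacter (Subgroup.centralizer (Subgroup.zpowers u : Set G)))}
    (h : IsBrauerPairOf p M B (Subgroup.zpowers u) f) :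
    ‖linWeight p M e lam u f‖ = 1 := by
  obtain ⟨x, hx⟩ := exists_conj_subpairLE hM hmax h
  rw [linWeight_eq hF hlam hx]
  exact norm_lam lam _

theorem linWeight_pow_card (hM : IsPModular p M) (hmax : IsMaximalBrauerPair p M B P e)
    (hF : IsBlockFusionSystemOn p M B P e F) {lam : P →* ℂˣ} (hlam : IsFocTrivial F lam) {u : G}
    {f : Set (IrrCharacter (Subgroup.centralizer (Subgroup.zpowers u : Set G)))}
    (h : IsBrauerPairOf p M B (Subgroup.zpowers u) f) :
    linWeight p M e lam u f ^ Nat.card P = 1 := by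
  obtain ⟨x, hx⟩ := exists_conj_subpairLE hM hmax h
  rw [linWeight_eq hF hlam hx]
  exact lam_pow_card lam _

/-- Below a pair of the block the weight is given by a linear character. -/
theorem exists_linWeight_hom (hM : IsPModular p M) (hmax : IsMaximalBrauerPair p M B P e)
    (hF : IsBlockFusionSystemOn p M B P e F) {lam : P →* ℂˣ} (hlam : IsFocTrivial F lam)
    {U : Subgroup G} {c : Set (IrrCharacter (Subgroup.centralizer (U : Set G)))}
    (hc : IsBrauerPairOf p M B U c) :
    ∃ μ : U →* ℂˣ, ∀ (u : U)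
      (f : Set (IrrCharacter (Subgroup.centralizer (Subgroup.zpowers (u : G) : Set G)))),
      SubpairLE p M (Subgroup.zpowers (u : G)) f U c →
        linWeight p M e lam (u : G) f = ((μ u : ℂˣ) : ℂ) := by
  obtain ⟨x, hx⟩ := exists_conj_subpairLE hM hmax hc
  let φ : U →* P :=
    { toFun := fun u => ⟨x * (u : G) * x⁻¹, subpairLE_le hx ⟨u, u.2, rfl⟩⟩
      map_one' := Subtype.ext (by simp)
      map_mul' := fun a b => Subtype.ext (by simp [mul_assoc]) }
  refine ⟨lam.comp φ, fun u f hf => ?_⟩
  exact linWeight_eq hF hlam (subpairLE_trans (subpairLE_conj hf x) hx)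

/-- The weight is multiplicative in the linear character. -/
theorem linWeight_mul (hF : IsBlockFusionSystemOn p M B P e F) {lam lam' : P →* ℂˣ}
    (hlam : IsFocTrivial F lam) (hlam' : IsFocTrivial F lam') {u : G}
    {f : Set (IrrCharacter (Subgroup.centralizer (Subgroup.zpowers u : Set G)))} :
    linWeight p M e (lam * lam') u f = linWeight p M e lam u f * linWeight p M e lam' u f := by
  classical
  have hmul : IsFocTrivial F (lam * lam') := fun y hy => by
    rw [MonoidHom.mul_apply, hlam y hy, hlam' y hy, mul_one]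
  by_cases hex : ∃ x : G, SubpairLE p M ((Subgroup.zpowers u).map (MulAut.conj x).toMonoidHom)
      (conjBlock (Subgroup.zpowers u) x f) P e
  · obtain ⟨x, hx⟩ := hex
    rw [linWeight_eq hF hmul hx, linWeight_eq hF hlam hx, linWeight_eq hF hlam' hx,
      MonoidHom.mul_apply, Units.val_mul]
  · rw [linWeight_eq_zero hex, linWeight_eq_zero hex, zero_mul]

/-- The trivial character has weight one on the pairs of the block. -/
theorem linWeight_one (hM : IsPModular p M) (hmax : IsMaximalBrauerPair p M B P e)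
    (hF : IsBlockFusionSystemOn p M B P e F) {u : G}
    {f : Set (IrrCharacter (Subgroup.centralizer (Subgroup.zpowers u : Set G)))}
    (h : IsBrauerPairOf p M B (Subgroup.zpowers u) f) :
    linWeight p M e (1 : P →* ℂˣ) u f = 1 := by
  obtain ⟨x, hx⟩ := exists_conj_subpairLE hM hmax h
  rw [linWeight_eq hF (fun _ _ => rfl) hx, MonoidHom.one_apply, Units.val_one]

/-- At the identity every weight is trivial. -/
theorem linWeight_id (hM : IsPModular p M) (hmax : IsMaximalBrauerPair p M B P e)
    (hF : IsBlockFusionSystemOn p M B P e F) {lam : P →* ℂˣ} (hlam : IsFocTrivial F lam)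
    {f : Set (IrrCharacter (Subgroup.centralizer (Subgroup.zpowers (1 : G) : Set G)))}
    (h : IsBrauerPairOf p M B (Subgroup.zpowers (1 : G)) f) :
    linWeight p M e lam 1 f = 1 := by
  obtain ⟨x, hx⟩ := exists_conj_subpairLE hM hmax h
  rw [linWeight_eq hF hlam hx]
  have : (⟨x * 1 * x⁻¹, conj_mem_of_subpairLE hx⟩ : P) = 1 := Subtype.ext (by simp)
  rw [this, map_one, Units.val_one]

end Cfsg.Agent.Lib.BrauerStar
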