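import Cfsg.Agent.Lib.BrauerStar.Defs
import Cfsg.Agent.Lib.BrauerStar.Weight
import Cfsg.Agent.Lib.BrauerStar.PRootRing
import Cfsg.Agent.Lib.BlockHeights.SectionCount
import Cfsg.Agent.Lib.Blocks.MajorSubsection
import Cfsg.Agent.Lib.HeightCenter.CenterSubsections

/-!
# The star product on the sections
-/

set_option autoImplicit false
set_option linter.unusedSectionVars false
set_option linter.style.haveILetI false

namespace Cfsg.Agent.Lib.BrauerStar

open Cfsg Cfsg.Agent.Lib.Blocks Cfsg.Agent.Lib.Characters Cfsg.Agent.Lib.BrauerPairs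
  Cfsg.Agent.Lib.BlockHeights
open scoped ComplexConjugate

universe u

variable {G : Type u} [Group G] [Fintype G] {M : Ideal AlgInt} [hMp : M.IsPrime] {p : ℕ}
  {B : Set (IrrCharacter G)}

noncomputable local instance fintypeSubgroupAux (H : Subgroup G) : Fintype H := Fintype.ofFinite H

local notation3 "Cz" u:max => Subgroup.centralizer (SetLike.coe (Subgroup.zpowers u))

theorem mem_Cz_iff (u g : G) : g ∈ Cz u ↔ Commute u g := mem_centralizer_zpowers_iff

theorem Cz_eq (u : G) : Cz u = Subgroup.centralizer ({u} : Set G) := by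
  ext g
  rw [mem_Cz_iff, Subgroup.mem_centralizer_singleton_iff]
  exact ⟨fun h => h.eq.symm, fun h => h.symm⟩

theorem mem_Cz_conj_iff (u t y : G) : y ∈ Cz (t * u * t⁻¹) ↔ t⁻¹ * y * t ∈ Cz u := by
  rw [← map_conj_zpowers, mem_centralizer_map_conj]

theorem isPPart_pElt (hp : p.Prime) (g : G) : IsPPart p g (pElt p g) := by
  classical
  have h : ∃ x, IsPPart p g x := exists_isPPart hp g
  unfold pElt
  rw [dif_pos h]
  exact h.choose_spec

theorem pElt_eq (hp : p.Prime) {g u : G} (h : IsPPart p g u) : pElt p g = u :=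
  isPPart_unique hp (isPPart_pElt hp g) h

theorem isPPart_mul {u : G} (hu : ∃ k : ℕ, orderOf u = p ^ k) {s : Cz u} (hs : IsPRegular p s) :
    IsPPart p (u * (s : G)) u :=
  ⟨(s : G), rfl, (mem_Cz_iff u s).1 s.2, hu, by rw [Subgroup.orderOf_coe]; exact hs⟩

/-- Every element is a regular point of a section. -/
theorem exists_eq_mul (hp : p.Prime) (g : G) :
    (∃ k : ℕ, orderOf (pElt p g) = p ^ k) ∧
      ∃ s : Cz (pElt p g), IsPRegular p s ∧ g = pElt p g * (s : G) := by
  obtain ⟨y, hy, hc, hk, hpy⟩ := isPPart_pElt hp g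
  refine ⟨hk, ⟨y, (mem_Cz_iff _ _).2 hc⟩, ?_, hy.symm⟩
  rw [IsPRegular, ← Subgroup.orderOf_coe]
  exact hpy

theorem pieceVal_mul (u : G) (f : Set (IrrCharacter (Cz u))) {χ : G → ℂ}
    (hχ : IsClassFunction G χ) (s : Cz u) :
    pieceVal u f χ (u * (s : G)) = blockPart f (shiftRes (Cz u) u χ) s := by
  classical
  have hθ : IsClassFunction (Cz u) (shiftRes (Cz u) u χ) :=
    isClassFunction_shiftRes (mem_Cz_iff u) hχ
  rw [← sum_blockCoeff_mul_eq_blockPart f hθ s, pieceVal, subgroupBlockCoeff_eq_extendByZero,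
    sum_extendByZero_mul]
  refine Finset.sum_congr rfl fun k _ => ?_
  congr 1
  rw [classFunction_mul_comm hθ k s]
  show χ (u * (s : G) * (k : G)) = χ (u * ((s * k : Cz u) : G))
  rw [Subgroup.coe_mul, mul_assoc]

theorem sect_apply_regular (u : G) (f : Set (IrrCharacter (Cz u))) {χ : G → ℂ}
    (hχ : IsClassFunction G χ) {s : Cz u} (hs : IsPRegular p s) :
    sect p u f χ s = pieceVal u f χ (u * (s : G)) := by
  rw [pieceVal_mul u f hχ s, sect, pRegularPart_eq]
  simp only [regInd_of_regular hs, one_mul]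

theorem sum_pieceVal (u : G) (χ : G → ℂ) (g : G) :
    ∑ᶠ f : Bl M (Cz u), pieceVal u f.1 χ g = χ g := by
  classical
  haveI := Fintype.ofFinite (Bl M (Cz u))
  rw [finsum_eq_sum_of_fintype]
  simp only [pieceVal]
  rw [Finset.sum_comm]
  simp only [← Finset.sum_mul]
  have h : ∀ c : G, ∑ f : Bl M (Cz u), subgroupBlockCoeff (Cz u) f.1 c = (deltaOne : G → ℂ) c :=
    fun c => by rw [← Finset.sum_apply, sum_subgroupBlockCoeff]
  simp only [h, deltaOne_apply, ite_mul, one_mul, zero_mul, Finset.sum_ite_eq', Finset.mem_univ,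
    if_true, mul_one]

/-- A block of a centralizer that is no pair of `B` sees no character of `B`. -/
theorem sect_eq_zero_of_not_pair (hM : IsPModular p M) {u : G}
    (hu : ∃ k : ℕ, orderOf u = p ^ k) {f : Set (IrrCharacter (Cz u))} (hf : IsPBlock M f)
    (hnot : ¬ IsBrauerPairOf p M B (Subgroup.zpowers u) f) (hB : IsPBlock M B)
    {χ : IrrCharacter G} (hχ : χ ∈ B) : sect p u f (χ : G → ℂ) = 0 := by
  obtain ⟨B', hB', -⟩ := existsUnique_isBrauerPairOf (P := Subgroup.zpowers u) (e := f) hM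
    ⟨isPGroup_zpowers_of_orderOf hu, hf⟩
  refine sect_eq_zero hM (mem_Cz_iff u) hu (isInducedBlock_of_isBrauerPairOf_zpowers hM hB') ?_
  intro h
  exact hnot (IsPBlock.eq_of_mem hB'.2.1 hB h hχ ▸ hB')

theorem sect_eq_zero_of_pair (hM : IsPModular p M) {u : G}
    (hu : ∃ k : ℕ, orderOf u = p ^ k) {f : Set (IrrCharacter (Cz u))}
    (hpair : IsBrauerPairOf p M B (Subgroup.zpowers u) f) {χ : IrrCharacter G} (hχ : χ ∉ B) :
    sect p u f (χ : G → ℂ) = 0 :=
  sect_eq_zero hM (mem_Cz_iff u) hu (isInducedBlock_of_isBrauerPairOf_zpowers hM hpair) hχ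

theorem starFun_mul (hp : p.Prime) (η : PairWeight G) (χ : G → ℂ) {u : G}
    (hu : ∃ k : ℕ, orderOf u = p ^ k) {s : Cz u} (hs : IsPRegular p s) :
    starFun p M η χ (u * (s : G)) =
      ∑ᶠ f : Bl M (Cz u), η u f.1 * pieceVal u f.1 χ (u * (s : G)) := by
  have key : ∀ v g, v = u → (∑ᶠ f : Bl M (Cz v), η v f.1 * pieceVal v f.1 χ g) =
      ∑ᶠ f : Bl M (Cz u), η u f.1 * pieceVal u f.1 χ g := fun v g h => by subst h; rfl
  exact key _ _ (pElt_eq hp (isPPart_mul hu hs))

/-- A weight constant on conjugate pairs. -/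
def ConjInv (M : Ideal AlgInt) (η : PairWeight G) : Prop :=
  ∀ (u a : G) (f : Set (IrrCharacter (Cz u))) (f' : Set (IrrCharacter (Cz (a * u * a⁻¹)))),
    IsPBlock M f → subgroupBlockCoeff (Cz (a * u * a⁻¹)) f' =
        gconj a (subgroupBlockCoeff (Cz u) f) →
      η (a * u * a⁻¹) f' = η u f

theorem isClassFunction_starFun (hp : p.Prime) {η : PairWeight G} (hη : ConjInv M η) {χ : G → ℂ}
    (hχ : IsClassFunction G χ) : IsClassFunction G (starFun p M η χ) := by
  classical
  intro g t
  have hpe : pElt p (t * g * t⁻¹) = t * pElt p g * t⁻¹ :=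
    pElt_eq hp (IsPPart.conjugate (isPPart_pElt hp g) t)
  set u := pElt p g with hu
  have key : ∀ v, v = t * u * t⁻¹ →
      (∑ᶠ f : Bl M (Cz v), η v f.1 * pieceVal v f.1 χ (t * g * t⁻¹)) =
      ∑ᶠ f : Bl M (Cz u), η u f.1 * pieceVal u f.1 χ g := by
    rintro v rfl
    set c := conjEquiv t (mem_Cz_conj_iff u t)
    let Φ : Bl M (Cz u) → Bl M (Cz (t * u * t⁻¹)) := fun f =>
      ⟨transBlock c f.1, isPBlock_transBlock c f.2⟩
    have hΦ : Function.Bijective Φ := by
      refine ⟨fun a b h => Subtype.ext ((Set.image_injective.2 (transIrr_injective c))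
        (congrArg Subtype.val h)), fun b => ⟨⟨transBlock c.symm b.1,
          isPBlock_transBlock c.symm b.2⟩, Subtype.ext ?_⟩⟩
      show transBlock c (transBlock c.symm b.1) = b.1
      rw [transBlock, transBlock, Set.image_image]
      simp [transIrr_symm]
    rw [eq_comm, ← finsum_eq_of_bijective Φ hΦ]
    intro f
    have hcoe : subgroupBlockCoeff (Cz (t * u * t⁻¹)) (Φ f).1 =
        gconj t (subgroupBlockCoeff (Cz u) f.1) :=
      subgroupBlockCoeff_transBlock t (mem_Cz_conj_iff u t) f.1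
    rw [hη u t f.1 (Φ f).1 f.2 hcoe]
    congr 1
    simp only [pieceVal, hcoe]
    refine Fintype.sum_equiv (MulAut.conj t).toEquiv _ _ fun d => ?_
    show subgroupBlockCoeff (Cz u) f.1 d * χ (g * d) =
      gconj t (subgroupBlockCoeff (Cz u) f.1) (t * d * t⁻¹) * χ (t * g * t⁻¹ * (t * d * t⁻¹))
    rw [gconj_apply, show t⁻¹ * (t * d * t⁻¹) * t = d by group,
      show t * g * t⁻¹ * (t * d * t⁻¹) = t * (g * d) * t⁻¹ by group, hχ]
  exact key _ hpe

/-- The decomposition of a star product. -/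
theorem sect_starFun (hM : IsPModular p M) {η : PairWeight G} (hη : ConjInv M η) {χ : G → ℂ}
    (hχ : IsClassFunction G χ) {u : G} (hu : ∃ k : ℕ, orderOf u = p ^ k)
    {f : Set (IrrCharacter (Cz u))} (hf : IsPBlock M f) :
    sect p u f (starFun p M η χ) = η u f • sect p u f χ := by
  classical
  haveI := Fintype.ofFinite (IrrCharacter (Cz u))
  haveI := Fintype.ofFinite (Bl M (Cz u))
  have hF := isClassFunction_starFun (p := p) hM.1 hη hχ
  have hθ : IsClassFunction (Cz u) (shiftRes (Cz u) u χ) :=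
    isClassFunction_shiftRes (mem_Cz_iff u) hχ
  have hθF : IsClassFunction (Cz u) (shiftRes (Cz u) u (starFun p M η χ)) :=
    isClassFunction_shiftRes (mem_Cz_iff u) hF
  have hexp : pRegularPart p (shiftRes (Cz u) u (starFun p M η χ)) =
      ∑ f' : Bl M (Cz u), η u f'.1 • blockPart f'.1 (pRegularPart p (shiftRes (Cz u) u χ)) := by
    funext s
    have hb : ∀ f' : Bl M (Cz u), blockPart f'.1 (pRegularPart p (shiftRes (Cz u) u χ)) =
        pRegularPart p (blockPart f'.1 (shiftRes (Cz u) u χ)) := fun f' =>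
      blockPart_pRegularPart hM f'.2 hθ
    simp only [Finset.sum_apply, Pi.smul_apply, smul_eq_mul, hb]
    simp only [pRegularPart_eq]
    by_cases hs : IsPRegular p s
    · simp only [regInd_of_regular hs, one_mul]
      show starFun p M η χ (u * (s : G)) = _
      rw [starFun_mul hM.1 η χ hu hs, finsum_eq_sum_of_fintype]
      exact Finset.sum_congr rfl fun f' _ => by rw [pieceVal_mul u f'.1 hχ s]
    · simp [regInd_of_singular hs]
  rw [sect, sect, ← blockPart_pRegularPart hM hf hθF, ← blockPart_pRegularPart hM hf hθ, hexp]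
  refine BlockHeights.ext_classInner (isClassFunction_blockPart _ _)
    (fun y z => by simp only [Pi.smul_apply, isClassFunction_blockPart _ _ y z]) fun ξ => ?_
  rw [classInner_blockPart, classInner_smul_left, classInner_blockPart]
  by_cases hξ : ξ ∈ f
  · rw [if_pos hξ, if_pos hξ, classInner_sum_left, Finset.sum_eq_single ⟨f, hf⟩]
    · rw [classInner_smul_left, classInner_blockPart, if_pos hξ]
    · intro f' _ hne
      rw [classInner_smul_left, classInner_blockPart,
        if_neg fun h => hne (Subtype.ext (IsPBlock.eq_of_mem f'.2 hf h hξ)), mul_zero]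
    · simp
  · rw [if_neg hξ, if_neg hξ, mul_zero]

/-- The star product is multiplicative in the weight. -/
theorem starFun_starFun (hM : IsPModular p M) {η : PairWeight G} (hη : ConjInv M η)
    (η' : PairWeight G) {χ : G → ℂ} (hχ : IsClassFunction G χ) :
    starFun p M η' (starFun p M η χ) = starFun p M (fun u f => η' u f * η u f) χ := by
  funext g
  obtain ⟨hk, s, hs, hg⟩ := exists_eq_mul (p := p) hM.1 g
  rw [hg, starFun_mul hM.1 _ _ hk hs, starFun_mul hM.1 _ _ hk hs]
  refine finsum_congr fun f => ?_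
  rw [← sect_apply_regular _ f.1 (isClassFunction_starFun hM.1 hη hχ) hs,
    ← sect_apply_regular _ f.1 hχ hs, sect_starFun hM hη hχ hk f.2, Pi.smul_apply, smul_eq_mul,
    mul_assoc]

/-- Where the weight is one on the pairs of the block the star product is the character. -/
theorem starFun_apply_eq_self (hM : IsPModular p M) (hB : IsPBlock M B) (η : PairWeight G)
    {χ : IrrCharacter G} (hχ : χ ∈ B) (g : G)
    (h1 : ∀ f, IsBrauerPairOf p M B (Subgroup.zpowers (pElt p g)) f → η (pElt p g) f = 1) :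
    starFun p M η (χ : G → ℂ) g = (χ : G → ℂ) g := by
  obtain ⟨hk, s, hs, hg⟩ := exists_eq_mul (p := p) hM.1 g
  conv_rhs => rw [← sum_pieceVal (M := M) (pElt p g) (χ : G → ℂ) g]
  show (∑ᶠ f : Bl M (Cz (pElt p g)), η (pElt p g) f.1 * pieceVal (pElt p g) f.1 (χ : G → ℂ) g) = _
  refine finsum_congr fun f => ?_
  by_cases hf : IsBrauerPairOf p M B (Subgroup.zpowers (pElt p g)) f.1
  · rw [h1 f.1 hf, one_mul]
  · have h0 : pieceVal (pElt p g) f.1 (χ : G → ℂ) (pElt p g * (s : G)) = 0 := by
      rw [← sect_apply_regular _ f.1 (irr_isClassFunction χ) hs,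
        sect_eq_zero_of_not_pair hM hk f.2 hf hB hχ]
      rfl
    rw [← hg] at h0
    rw [h0, mul_zero]

/-- The projection is self-adjoint on the sections. -/
theorem classInner_sect_shiftRes (hM : IsPModular p M) (u : G) {f : Set (IrrCharacter (Cz u))}
    (hf : IsPBlock M f) {χ ψ : G → ℂ} (hχ : IsClassFunction G χ) (hψ : IsClassFunction G ψ) :
    classInner (sect p u f χ) (shiftRes (Cz u) u ψ) =
      classInner (sect p u f χ) (sect p u f ψ) := by
  classical
  haveI := Fintype.ofFinite (IrrCharacter (Cz u))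
  set A := shiftRes (Cz u) u χ
  set D := shiftRes (Cz u) u ψ
  have hA : IsClassFunction (Cz u) A := isClassFunction_shiftRes (mem_Cz_iff u) hχ
  have hD : IsClassFunction (Cz u) D := isClassFunction_shiftRes (mem_Cz_iff u) hψ
  show classInner (pRegularPart p (blockPart f A)) D =
    classInner (pRegularPart p (blockPart f A)) (pRegularPart p (blockPart f D))
  have hidem : classInner (pRegularPart p (blockPart f A)) D =
      classInner (pRegularPart p (blockPart f A)) (pRegularPart p D) := by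
    rw [← classInner_pRegularPart_comm (pRegularPart p (blockPart f A))]
    congr 1
    funext y
    simp only [pRegularPart_eq]
    rw [← mul_assoc, regInd_mul_self]
  rw [hidem, ← blockPart_pRegularPart hM hf hA, ← blockPart_pRegularPart hM hf hD,
    classInner_eq_sum_irr (isClassFunction_blockPart _ _) (isClassFunction_pRegularPart p hD),
    classInner_eq_sum_irr (isClassFunction_blockPart _ _) (isClassFunction_blockPart _ _)]
  refine Finset.sum_congr rfl fun ξ _ => ?_
  simp only [classInner_blockPart]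
  split_ifs <;> simp

/-- **Inner products with a star product, by subsections.** -/
theorem classInner_starFun (hM : IsPModular p M) (X : Finset G)
    (hX : ∀ x ∈ X, ∃ k : ℕ, orderOf x = p ^ k)
    (hXrep : ∀ g : G, (∃ k : ℕ, orderOf g = p ^ k) → ∃! x, x ∈ X ∧ IsConj g x)
    {η : PairWeight G} (hη : ConjInv M η) {χ ψ : G → ℂ} (hχ : IsClassFunction G χ)
    (hψ : IsClassFunction G ψ) :
    classInner (starFun p M η χ) ψ = ∑ u ∈ X, ∑ᶠ f : Bl M (Cz u),
      η u f.1 * classInner (sect p u f.1 χ) (sect p u f.1 ψ) := by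
  classical
  have hF := isClassFunction_starFun (p := p) hM.1 hη hχ
  rw [classInner, sum_eq_sum_sections hM.1 X hX hXrep
    (f := fun g => starFun p M η χ g * conj (ψ g)) (fun y z => by simp only [hF y z, hψ y z]),
    Finset.mul_sum]
  refine Finset.sum_congr rfl fun u hu => ?_
  haveI := Fintype.ofFinite (Bl M (Cz u))
  rw [finsum_eq_sum_of_fintype]
  have hsum : ∑ s : Subgroup.centralizer ({u} : Set G),
      (if IsPRegular p s then starFun p M η χ (u * (s : G)) * conj (ψ (u * (s : G))) else 0) =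
      ∑ s : Cz u,
        (if IsPRegular p s then starFun p M η χ (u * (s : G)) * conj (ψ (u * (s : G))) else 0) := by
    refine Fintype.sum_equiv (MulEquiv.subgroupCongr (Cz_eq u)).symm.toEquiv _ _ fun s => ?_
    have he : (((MulEquiv.subgroupCongr (Cz_eq u)).symm s : Cz u) : G) = (s : G) := rfl
    have hr : IsPRegular p ((MulEquiv.subgroupCongr (Cz_eq u)).symm s) ↔ IsPRegular p s := by
      simp only [IsPRegular, ← Subgroup.orderOf_coe, he]
    show _ = if IsPRegular p ((MulEquiv.subgroupCongr (Cz_eq u)).symm s) then _ else (0 : ℂ)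
    by_cases hs : IsPRegular p s
    · rw [if_pos hs, if_pos (hr.2 hs)]; rfl
    · rw [if_neg hs, if_neg (hr.not.2 hs)]
  have hcard : (Nat.card G : ℂ)⁻¹ * (Nat.card {a : G // IsConj u a} : ℂ) =
      (Nat.card (Cz u) : ℂ)⁻¹ := by
    rw [Cz_eq, ← card_conj_mul_card_centralizer u]
    have h1 : (Nat.card {a : G // IsConj u a} : ℂ) ≠ 0 := by
      haveI : Nonempty {a : G // IsConj u a} := ⟨⟨u, IsConj.refl u⟩⟩
      exact Nat.cast_ne_zero.2 Nat.card_pos.ne'
    push_cast
    field_simp
  rw [← mul_assoc, hcard]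
  refine Eq.trans (congrArg _ (Eq.trans (by congr!) hsum)) ?_
  have hterm : ∀ f : Bl M (Cz u), η u f.1 * classInner (sect p u f.1 χ) (sect p u f.1 ψ) =
      (Nat.card (Cz u) : ℂ)⁻¹ *
        ∑ s : Cz u, η u f.1 * sect p u f.1 χ s * conj (ψ (u * (s : G))) := fun f => by
    rw [← classInner_sect_shiftRes hM u f.2 hχ hψ, classInner, mul_left_comm, Finset.mul_sum]
    congr 1
    exact Finset.sum_congr rfl fun s _ => by rw [shiftRes, mul_assoc]
  simp only [hterm, ← Finset.mul_sum]
  congr 1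
  rw [Finset.sum_comm]
  refine Finset.sum_congr rfl fun s _ => ?_
  by_cases hs : IsPRegular p s
  · rw [if_pos hs, starFun_mul hM.1 η χ (hX u hu) hs, finsum_eq_sum_of_fintype, Finset.sum_mul]
    exact Finset.sum_congr rfl fun f _ => by rw [sect_apply_regular u f.1 hχ hs]
  · rw [if_neg hs]
    refine (Finset.sum_eq_zero fun f _ => ?_).symm
    rw [sect, pRegularPart_eq]
    simp [regInd_of_singular hs]

theorem orderOf_dvd_pow (hp : p.Prime) {u : G} (hu : ∃ k : ℕ, orderOf u = p ^ k) :
    u ^ p ^ ((Nat.card G).factorization p + 1) = 1 := by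
  obtain ⟨k, hk⟩ := hu
  have hdvd : p ^ k ∣ Nat.card G := hk ▸ orderOf_dvd_natCard u
  have hle := (hp.pow_dvd_iff_le_factorization Nat.card_pos.ne').1 hdvd
  exact orderOf_dvd_iff_pow_eq_one.1 (hk ▸ pow_dvd_pow p (hle.trans (Nat.le_succ _)))

/-- The contributions have denominators a power of `p`. -/
theorem pow_mul_classInner_sect_mem (hM : IsPModular p M) {u : G}
    (hu : ∃ k : ℕ, orderOf u = p ^ k) {f : Set (IrrCharacter (Cz u))} (hf : IsPBlock M f)
    (χ ψ : IrrCharacter G) :
    (p : ℂ) ^ (Nat.card G).factorization p *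
        classInner (sect p u f (χ : G → ℂ)) (sect p u f (ψ : G → ℂ)) ∈
      rootRing p ((Nat.card G).factorization p) := by
  classical
  haveI := Fintype.ofFinite (IrrCharacter (Cz u))
  set a := (Nat.card G).factorization p with ha
  have hxC : u ∈ Cz u := (mem_Cz_iff u u).2 (Commute.refl u)
  have hroot : ∀ ξ : IrrCharacter (Cz u), centralRoot u hxC ξ ∈ rootRing p a := fun ξ =>
    mem_rootRing_of_pow_eq_one hM.1 (centralRoot_pow (mem_Cz_iff u) hxC ξ (orderOf_dvd_pow hM.1 hu))
  have hmult : ∀ (φ : IrrCharacter G) (ξ : IrrCharacter (Cz u)),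
      resMult (Cz u) φ ξ ∈ rootRing p a := fun φ ξ => by
    obtain ⟨m, hm⟩ := exists_resMult_nat (C := Cz u) φ ξ
    rw [hm]
    exact natCast_mem _ m
  rw [classInner_sect_eq hM (mem_Cz_iff u) hf χ ψ, sect_expand (mem_Cz_iff u) hxC f ψ,
    classInner_sum_right, Finset.mul_sum]
  refine sum_mem fun ξ' _ => ?_
  rw [classInner_smul_right, mul_left_comm]
  refine mul_mem (conj_mem_rootRing hM.1 ?_) ?_
  · split_ifs
    · exact mul_mem (hroot _) (hmult _ _)
    · exact zero_mem _
  rw [classInner_eq_sum_irr (isClassFunction_shiftRes (mem_Cz_iff u) (irr_isClassFunction χ))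
    (isClassFunction_pRegularPart p (irr_isClassFunction ξ')), Finset.mul_sum]
  refine sum_mem fun ξ _ => ?_
  rw [classInner_shiftRes (mem_Cz_iff u) hxC, classInner_pRegularPart hM.1, map_div₀, map_intCast,
    map_pow, map_natCast]
  have hle : (Nat.card (Cz u)).factorization p ≤ a :=
    (Nat.factorization_le_iff_dvd Nat.card_pos.ne' Nat.card_pos.ne').2
      (Subgroup.card_subgroup_dvd_card _) p
  have e : (p : ℂ) ^ a * (centralRoot u hxC ξ * resMult (Cz u) χ ξ *
      ((pairing p ξ' ξ : ℂ) / (p : ℂ) ^ (Nat.card (Cz u)).factorization p)) =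
      centralRoot u hxC ξ * resMult (Cz u) χ ξ * (pairing p ξ' ξ : ℂ) *
        (p : ℂ) ^ (a - (Nat.card (Cz u)).factorization p) := by
    conv_lhs => rw [← Nat.sub_add_cancel hle, pow_add]
    have : (p : ℂ) ≠ 0 := Nat.cast_ne_zero.2 hM.1.ne_zero
    field_simp
  rw [e]
  exact mul_mem (mul_mem (mul_mem (hroot _) (hmult _ _)) (intCast_mem _ _))
    (pow_mem (natCast_mem _ _) _)

/-- **A star product with a locally integral weight is a character of the block.** -/
theorem exists_irr_eq_starFun (hM : IsPModular p M) (hB : IsPBlock M B) {η : PairWeight G}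
    (hη : ConjInv M η)
    (hnorm : ∀ (u : G) f, IsBrauerPairOf p M B (Subgroup.zpowers u) f → ‖η u f‖ = 1)
    (hone : ∀ f, IsBrauerPairOf p M B (Subgroup.zpowers (1 : G)) f → η 1 f = 1)
    (hmem : ∀ (u : G) f, η u f ∈ rootRing p ((Nat.card G).factorization p))
    {χ : IrrCharacter G} (hχ : χ ∈ B)
    (hint : ∀ ψ : IrrCharacter G,
      MemLocalRing M (classInner (starFun p M η (χ : G → ℂ)) (ψ : G → ℂ))) :
    ∃ ψ : IrrCharacter G, ψ ∈ B ∧ (ψ : G → ℂ) = starFun p M η (χ : G → ℂ) ∧
      (ψ : G → ℂ) 1 = (χ : G → ℂ) 1 := by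
  classical
  haveI := Fintype.ofFinite (IrrCharacter G)
  set a := (Nat.card G).factorization p with ha
  obtain ⟨X, hX, hXrep⟩ : ∃ X : Finset G, (∀ x ∈ X, ∃ k : ℕ, orderOf x = p ^ k) ∧
      ∀ g : G, (∃ k : ℕ, orderOf g = p ^ k) → ∃! x, x ∈ X ∧ IsConj g x :=
    HeightCenter.exists_pElement_reps p
  set F := starFun p M η (χ : G → ℂ) with hFdef
  have hF : IsClassFunction G F := isClassFunction_starFun hM.1 hη (irr_isClassFunction χ)
  set x : IrrCharacter G → ℂ := fun ψ => classInner F (ψ : G → ℂ) with hx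
  -- coefficients
  have hxmem : ∀ ψ, x ψ ∈ rootRing p a := fun ψ => by
    refine mem_rootRing_of_pow_mul hM a ?_ (hint ψ)
    rw [hx]
    simp only [hFdef]
    rw [classInner_starFun hM X hX hXrep hη (irr_isClassFunction χ) (irr_isClassFunction ψ),
      Finset.mul_sum]
    refine sum_mem fun u hu => ?_
    haveI := Fintype.ofFinite (Bl M (Cz u))
    rw [finsum_eq_sum_of_fintype, Finset.mul_sum]
    refine sum_mem fun f _ => ?_
    rw [mul_left_comm]
    exact mul_mem (hmem u f.1) (pow_mul_classInner_sect_mem hM (hX u hu) f.2 χ ψ)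
  -- characters outside the block
  have hout : ∀ ψ, ψ ∉ B → x ψ = 0 := fun ψ hψ => by
    rw [hx]
    simp only [hFdef]
    rw [classInner_starFun hM X hX hXrep hη (irr_isClassFunction χ) (irr_isClassFunction ψ)]
    refine Finset.sum_eq_zero fun u hu => finsum_eq_zero_of_forall_eq_zero fun f => ?_
    by_cases hf : IsBrauerPairOf p M B (Subgroup.zpowers u) f.1
    · rw [sect_eq_zero_of_pair hM (hX u hu) hf hψ]; simp [classInner]
    · rw [sect_eq_zero_of_not_pair hM (hX u hu) f.2 hf hB hχ]; simp [classInner]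
  -- the norm
  have hnormF : classInner F F = 1 := by
    have h1 : ConjInv M (fun (_ : G) _ => (1 : ℂ)) := fun _ _ _ _ _ _ => rfl
    have hid : starFun p M (fun (_ : G) _ => (1 : ℂ)) (χ : G → ℂ) = (χ : G → ℂ) :=
      funext fun g => starFun_apply_eq_self hM hB _ hχ g fun _ _ => rfl
    have h2 := classInner_starFun hM X hX hXrep h1 (irr_isClassFunction χ) (irr_isClassFunction χ)
    rw [hid, IsIrrCharacter.classInner_self χ.2] at h2
    rw [h2]
    nth_rewrite 1 [hFdef]
    rw [classInner_starFun hM X hX hXrep hη (irr_isClassFunction χ) hF]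
    refine Finset.sum_congr rfl fun u hu => finsum_congr fun f => ?_
    rw [hFdef, sect_starFun hM hη (irr_isClassFunction χ) (hX u hu) f.2, classInner_smul_right,
      one_mul, ← mul_assoc]
    by_cases hf : IsBrauerPairOf p M B (Subgroup.zpowers u) f.1
    · rw [Complex.mul_conj', hnorm u f.1 hf]; simp
    · rw [sect_eq_zero_of_not_pair hM (hX u hu) f.2 hf hB hχ]; simp [classInner]
  rw [classInner_eq_sum_irr hF hF] at hnormF
  haveI : NeZero (p ^ (a + 1)) := ⟨pow_ne_zero _ hM.1.ne_zero⟩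
  have hsub : ∑ ψ : {ψ // x ψ ≠ 0}, x ψ.1 * conj (x ψ.1) = ((1 : ℕ) : ℂ) := by
    rw [Nat.cast_one, ← hnormF, ← Finset.sum_subtype (Finset.univ.filter fun ψ => x ψ ≠ 0)
      (fun ψ => by simp) fun ψ => x ψ * conj (x ψ)]
    refine Finset.sum_filter_of_ne fun ψ _ h h0 => h ?_
    rw [h0, zero_mul]
  have hle := card_le_of_sum_sq (n := p ^ (a + 1)) (fun ψ : {ψ // x ψ ≠ 0} => x ψ.1)
    (fun ψ => mem_cycField_of_mem_rootRing hM.1 (hxmem _))
    (fun ψ => isIntegral_of_mem_rootRing hM.1 (hxmem _)) (fun ψ => ψ.2) 1 hsub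
  haveI : Subsingleton {ψ // x ψ ≠ 0} := Fintype.card_le_one_iff_subsingleton.1 hle
  obtain ⟨⟨ψ, hψ0⟩⟩ : Nonempty {ψ // x ψ ≠ 0} := by
    by_contra hne
    rw [not_nonempty_iff] at hne
    simp at hsub
  rw [Fintype.sum_subsingleton _ (⟨ψ, hψ0⟩ : {ψ // x ψ ≠ 0}), Nat.cast_one] at hsub
  have hFψ : F = x ψ • (ψ : G → ℂ) := by
    rw [eq_sum_classInner hF]
    refine Finset.sum_eq_single ψ (fun φ _ hne => ?_) (by simp)
    have : x φ = 0 := by
      by_contra h
      exact hne (congrArg Subtype.val (Subsingleton.elim (⟨φ, h⟩ : {ψ // x ψ ≠ 0}) ⟨ψ, hψ0⟩))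
    show x φ • (φ : G → ℂ) = 0
    rw [this, zero_smul]
  have hdeg : F 1 = (χ : G → ℂ) 1 := by
    refine starFun_apply_eq_self hM hB η hχ 1 ?_
    have e : pElt p (1 : G) = 1 := pElt_eq hM.1 (isPPart_one_of_not_dvd (by
      rw [orderOf_one]; exact fun h => hM.1.ne_one (Nat.dvd_one.1 h)))
    rw [e]
    exact hone
  rw [hFψ, Pi.smul_apply, smul_eq_mul, irr_apply_one, irr_apply_one] at hdeg
  have hx1 : x ψ = 1 := by
    have hd : (0 : ℝ) < (charDegree (ψ : G → ℂ) : ℝ) := by exact_mod_cast charDegree_irr_pos ψ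
    have hre : x ψ = (((charDegree (χ : G → ℂ) : ℝ) / (charDegree (ψ : G → ℂ) : ℝ) : ℝ) : ℂ) := by
      push_cast
      rw [eq_div_iff (Nat.cast_ne_zero.2 (charDegree_irr_pos ψ).ne')]
      exact hdeg
    set r : ℝ := (charDegree (χ : G → ℂ) : ℝ) / (charDegree (ψ : G → ℂ) : ℝ)
    have hr0 : 0 ≤ r := by positivity
    rw [hre, Complex.conj_ofReal, ← Complex.ofReal_mul, Complex.ofReal_eq_one] at hsub
    have hr1 : r = 1 := by nlinarith
    rw [hre, hr1, Complex.ofReal_one]
  have hψeq : (ψ : G → ℂ) = F := by rw [hFψ, hx1, one_smul]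
  refine ⟨ψ, ?_, hψeq, ?_⟩
  · by_contra h
    exact hψ0 (hout ψ h)
  · rw [irr_apply_one, irr_apply_one]
    rw [hx1, one_mul] at hdeg
    exact hdeg

end Cfsg.Agent.Lib.BrauerStar
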