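import Cfsg.Agent.Lib.BrauerStar.Below
import Cfsg.Agent.Lib.BrauerStar.LocTrace
import Cfsg.Agent.Lib.BrauerStar.PieceSection
import Cfsg.Agent.Lib.Characters.Brauer

/-!
# Local integrality of star products

The average over a `p`-subgroup `U` of the weighted value at a primitive idempotent fixed by `U`
is local: either the idempotent survives the Brauer congruence at `U`, and then only the blocks
below one pair of `U` occur, or it is a relative trace from a maximal subgroup.
-/

set_option autoImplicit false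
set_option linter.unusedSectionVars false
set_option linter.style.haveILetI false

namespace Cfsg.Agent.Lib.BrauerStar

open Cfsg Cfsg.Agent.Lib.Blocks Cfsg.Agent.Lib.Characters Cfsg.Agent.Lib.BrauerPairs
open scoped ComplexConjugate

universe u

variable {G : Type u} [Group G] [Fintype G] {M : Ideal AlgInt} [hMp : M.IsPrime] {p : ℕ}

instance finite_RG : Module.Finite (locSubring M) (RG M G) :=
  inferInstance

local notation3 "Cz" u:max => Subgroup.centralizer (SetLike.coe (Subgroup.zpowers u))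

/-! ### Conjugation -/

theorem cj_el (a g : G) : cj a (el g : RG M G) = el (a * g * a⁻¹) := by
  rw [cj_apply, ← el_mul, ← el_mul]

theorem ev_cj {χ : G → ℂ} (hχ : IsClassFunction G χ) (a : G) (z : RG M G) :
    ev χ (cj a z) = ev χ z := by
  rw [cj_apply, mul_assoc, ev_mul_comm hχ, mul_assoc, ← el_mul, inv_mul_cancel, el_one, mul_one]

theorem cj_ef_of_coe (hM : IsPModular p M) {K L : Subgroup G} {f : Set (IrrCharacter K)}
    {f' : Set (IrrCharacter L)} (hf : IsPBlock M f) (hf' : IsPBlock M f') (a : G)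
    (h : subgroupBlockCoeff L f' = gconj a (subgroupBlockCoeff K f)) :
    cj a (ef M K f) = ef M L f' := by
  refine coef_injective (funext fun g => ?_)
  rw [coef_cj, coef_ef hM hf, coef_ef hM hf', h, gconj_apply]

theorem SecData.conj {w s : G} (hd : SecData p w s) {a : G} (ha : Commute a s) :
    SecData p (a * w * a⁻¹) s := by
  refine ⟨?_, hd.reg, (ha.mul_left hd.comm).mul_left ha.inv_left⟩
  obtain ⟨k, hk⟩ := hd.pow
  exact ⟨k, (orderOf_injective (MulAut.conj a).toMonoidHom (MulAut.conj a).injective w).trans hk⟩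

theorem pieceEv_conj (hM : IsPModular p M) {w s a : G} (hd : SecData p w s) (ha : Commute a s)
    {χ : G → ℂ} (hχ : IsClassFunction G χ) {f : Set (IrrCharacter (Cz w))}
    {f' : Set (IrrCharacter (Cz (a * w * a⁻¹)))} (hf : IsPBlock M f) (hf' : IsPBlock M f')
    (hcoe : subgroupBlockCoeff (Cz (a * w * a⁻¹)) f' = gconj a (subgroupBlockCoeff (Cz w) f))
    {x : RG M G} (hx : x ∈ fixV M (Subgroup.zpowers w) s) (hxx : x * x = x) :
    pieceEv χ (a * w * a⁻¹) s f' (cj a x) = pieceEv χ w s f x := by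
  obtain ⟨y, hy⟩ := exists_isPiece hM hd.isPGroup hd.mem_centralizer hf hx hxx
  have hpiece : IsPiece M (Subgroup.zpowers (a * w * a⁻¹)) s f' (cj a x) (cj a y) := by
    refine ⟨mem_fixV.2 ⟨?_, ?_⟩, by rw [← map_mul, hy.2.1], ?_⟩
    · intro v hv
      obtain ⟨n, rfl⟩ := Subgroup.mem_zpowers_iff.1 hv
      rw [conj_zpow, ← cj_mul, show a * w ^ n * a⁻¹ * a = a * w ^ n by group, cj_mul,
        (mem_fixV.1 hy.1).1 _ (Subgroup.zpow_mem_zpowers w n)]
    · rw [← cj_mul, ← ha.eq, cj_mul, (mem_fixV.1 hy.1).2]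
    · intro g hg
      rw [← cj_ef_of_coe hM hf hf' a hcoe, ← map_mul, ← map_mul, ← map_sub, coef_cj]
      exact hy.2.2 _ ((mem_Cz_conj_iff w a g).1 hg)
  rw [pieceEv_eq hM (hd.conj ha) hχ hpiece, pieceEv_eq hM hd hχ hy]
  rw [← ev_cj hχ a (el (w * s) * y), map_mul, cj_el]
  congr 3
  rw [show a * (w * s) * a⁻¹ = a * w * (s * a⁻¹) by simp only [mul_assoc], ← ha.inv_left.eq]
  simp only [mul_assoc]

theorem Hval_conj (hM : IsPModular p M) {w s a : G} (hd : SecData p w s) (ha : Commute a s)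
    {η : PairWeight G} (hη : ConjInv M η) {χ : G → ℂ} (hχ : IsClassFunction G χ)
    {x : RG M G} (hx : x ∈ fixV M (Subgroup.zpowers w) s) (hxx : x * x = x) :
    Hval η χ s (cj a x) (a * w * a⁻¹) = Hval η χ s x w := by
  classical
  set c := conjEquiv a (mem_Cz_conj_iff w a)
  let Φ : Bl M (Cz w) → Bl M (Cz (a * w * a⁻¹)) := fun f =>
    ⟨transBlock c f.1, isPBlock_transBlock c f.2⟩
  have hΦ : Function.Bijective Φ := by
    refine ⟨fun a b h => Subtype.ext ((Set.image_injective.2 (transIrr_injective c))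
      (congrArg Subtype.val h)), fun b => ⟨⟨transBlock c.symm b.1,
        isPBlock_transBlock c.symm b.2⟩, Subtype.ext ?_⟩⟩
    show transBlock c (transBlock c.symm b.1) = b.1
    rw [transBlock, transBlock, Set.image_image]
    simp [transIrr_symm]
  refine (finsum_eq_of_bijective Φ hΦ fun f => ?_).symm
  have hcoe : subgroupBlockCoeff (Cz (a * w * a⁻¹)) (Φ f).1 =
      gconj a (subgroupBlockCoeff (Cz w) f.1) :=
    subgroupBlockCoeff_transBlock a (mem_Cz_conj_iff w a) f.1
  rw [hη w a f.1 (Φ f).1 f.2 hcoe, pieceEv_conj hM hd ha hχ f.2 (Φ f).2 hcoe hx hxx]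

/-! ### Idempotents killed at `U` -/

theorem MaxStep.card (hp : p.Prime) {U Q : Subgroup G} {u : G} (h : MaxStep p U Q u) :
    Nat.card U = p * Nat.card Q := by
  let f : Fin p × Q → U := fun x =>
    ⟨u ^ (x.1 : ℕ) * x.2, mul_mem (_root_.pow_mem h.mem _) (h.le x.2.2)⟩
  have hf : Function.Bijective f := by
    refine ⟨?_, fun w => ?_⟩
    · have key : ∀ t t' : Fin p, ∀ q q' : Q, (t' : ℕ) ≤ t →
          u ^ (t : ℕ) * (q : G) = u ^ (t' : ℕ) * q' → t = t' ∧ q = q' := by
        intro t t' q q' hle e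
        have h2 : u ^ ((t : ℕ) - t') = (q' : G) * (q : G)⁻¹ := by
          rw [← Nat.add_sub_cancel' hle, pow_add, mul_assoc] at e
          exact eq_mul_inv_iff_mul_eq.2 (mul_left_cancel e)
        obtain ⟨c, hc⟩ := dvd_of_pow_mem hp h.notMem h.pow_mem
          (h2 ▸ mul_mem q'.2 (inv_mem q.2))
        have ht : t = t' := by
          apply Fin.ext
          have := t.isLt
          rcases Nat.eq_zero_or_pos c with rfl | hc0
          · omega
          · have : p ≤ p * c := Nat.le_mul_of_pos_right p hc0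
            omega
        subst ht
        exact ⟨rfl, Subtype.ext (mul_left_cancel e)⟩
      rintro ⟨t, q⟩ ⟨t', q'⟩ e
      have e' : u ^ (t : ℕ) * (q : G) = u ^ (t' : ℕ) * q' := congrArg Subtype.val e
      rcases le_total (t' : ℕ) t with hle | hle
      · obtain ⟨r1, r2⟩ := key t t' q q' hle e'
        rw [r1, r2]
      · obtain ⟨r1, r2⟩ := key t' t q' q hle e'.symm
        rw [r1, r2]
    · obtain ⟨t, ht, q, hq, e⟩ := h.cover w w.2
      exact ⟨(⟨t, ht⟩, ⟨q, hq⟩), Subtype.ext e.symm⟩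
  rw [← Nat.card_eq_of_bijective f hf, Nat.card_prod, Nat.card_fin]

theorem MaxStep.lt {U Q : Subgroup G} {u : G} (h : MaxStep p U Q u) : Q < U :=
  h.le.lt_of_ne fun e => h.notMem (e ▸ h.mem)

/-- A relative trace vanishes at the elements outside the subgroup. -/
theorem brZero_trU (hM : IsPModular p M) {U Q : Subgroup G} {u : G} (h : MaxStep p U Q u)
    {s : G} {a : RG M G} (ha : a ∈ fixV M Q s) {w : G} (hw : w ∈ U) (hwQ : w ∉ Q) :
    BrZero (Subgroup.zpowers w) (trU p u a) := by
  intro g hg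
  have hcomm : Commute g w := (mem_centralizer_zpowers_iff.1 hg).symm
  obtain ⟨t, ht, q, hq, rfl⟩ := h.cover w hw
  have hinv := isPInv_coef ha
  let Φ : ℤ → ℂ := fun j => coef a ((u ^ j)⁻¹ * g * u ^ j)
  have hper : Function.Periodic Φ (p : ℤ) := by
    intro j
    show coef a ((u ^ (j + (p : ℤ)))⁻¹ * g * u ^ (j + (p : ℤ))) = coef a ((u ^ j)⁻¹ * g * u ^ j)
    rw [zpow_add, zpow_natCast, ← hinv (u ^ p)⁻¹ (inv_mem h.pow_mem) ((u ^ j)⁻¹ * g * u ^ j)]
    congr 1
    group
  have hpt : Function.Periodic Φ (t : ℤ) := by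
    intro j
    set r : G := u ^ (-j) with hr
    have hrN : r ∈ Subgroup.normalizer (Q : Set G) := zpow_mem h.normal _
    have hq' : r * q * r⁻¹ ∈ Q := (Subgroup.mem_normalizer_iff.1 hrN q).1 hq
    show coef a ((u ^ (j + (t : ℤ)))⁻¹ * g * u ^ (j + (t : ℤ))) = coef a ((u ^ j)⁻¹ * g * u ^ j)
    rw [zpow_add, zpow_natCast, ← hinv _ hq' ((u ^ j)⁻¹ * g * u ^ j)]
    congr 1
    have e : u ^ t * q * g = g * (u ^ t * q) := hcomm.symm.eq
    have e2 : q * g * q⁻¹ = (u ^ t)⁻¹ * g * u ^ t := by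
      calc q * g * q⁻¹ = (u ^ t)⁻¹ * (u ^ t * q * g) * q⁻¹ := by group
        _ = (u ^ t)⁻¹ * (g * (u ^ t * q)) * q⁻¹ := by rw [e]
        _ = (u ^ t)⁻¹ * g * u ^ t := by group
    rw [hr, zpow_neg]
    calc (u ^ j * u ^ t)⁻¹ * g * (u ^ j * u ^ t)
        = (u ^ t)⁻¹ * ((u ^ j)⁻¹ * g * u ^ j) * u ^ t := by group
      _ = (u ^ j)⁻¹ * ((u ^ t)⁻¹ * g * u ^ t) * u ^ j := by group
      _ = (u ^ j)⁻¹ * (q * g * q⁻¹) * u ^ j := by rw [e2]
      _ = _ := by group
  have ht0 : t ≠ 0 := fun e => hwQ (by rw [e, pow_zero, one_mul]; exact hq)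
  obtain ⟨x, y, hxy⟩ := Nat.isCoprime_iff_coprime.2 ((hM.1.coprime_iff_not_dvd).2
    fun hd => ht0 (Nat.eq_zero_of_dvd_of_lt hd ht))
  have h1 : Function.Periodic Φ (1 : ℤ) := by
    rw [← hxy]
    exact (hper.int_mul x).add_period (hpt.int_mul y)
  have hconst : ∀ j : ℕ, Φ j = Φ 0 := fun j => by
    induction j with
    | zero => rfl
    | succ n ih => rw [Nat.cast_succ, h1 n, ih]
  have e : coef (trU p u a) g = (p : ℂ) * Φ 0 := by
    rw [trU, coef_sum, Finset.sum_apply, Finset.sum_congr rfl fun j _ => ?_, Finset.sum_const,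
      Finset.card_range, nsmul_eq_mul]
    rw [coef_cj, ← hconst j]
    simp only [Φ, zpow_natCast]
  rw [e]
  exact memLocalIdeal_mul_right ((memLocalIdeal_natCast_iff hM p).2 dvd_rfl)
    (memLocalRing_coef a _)

/-- **A primitive idempotent killed at `U` is a relative trace.** -/
theorem exists_trU_of_brZero (hM : IsPModular p M) {U : Subgroup G} (hU : IsPGroup p U) {s : G}
    (hUs : ∀ w ∈ U, Commute w s) (hs : ¬ p ∣ orderOf s) {i : RG M G}
    (hi : IsPrimIn (fixV M U s) i) (h0 : BrZero U i) :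
    ∃ (Q : Subgroup G) (u : G) (a : RG M G), MaxStep p U Q u ∧ a ∈ fixV M Q s ∧
      i = trU p u a := by
  classical
  haveI := Fact.mk hM.1
  set S := fixV M U s with hS
  have hsel : ∀ g, g ∉ Subgroup.centralizer (U : Set G) →
      ∃ Q u, MaxStep p U Q u ∧ (∀ w ∈ U, w * g * w⁻¹ = g → w ∈ Q) ∧ True := by
    intro g hg
    have hW : U ⊓ Subgroup.centralizer ({g} : Set G) < U := by
      refine inf_le_left.lt_of_ne fun e => hg ?_
      refine mem_centralizer_subgroup_iff.2 fun w hw => ?_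
      exact Subgroup.mem_centralizer_singleton_iff.1 ((inf_eq_left.1 e) hw)
    obtain ⟨Q, u, hstep, hWQ⟩ := exists_maxStep hU hW
    exact ⟨Q, u, hstep, fun w hw e =>
      hWQ ⟨hw, Subgroup.mem_centralizer_singleton_iff.2 (mul_inv_eq_iff_eq_mul.1 e)⟩, trivial⟩
  refine trace_induction hM hs hU hUs (fun _ _ => True) hsel
    (fun x => IsUnitIn S i (i * x * i) → ∃ (Q : Subgroup G) (u : G) (a : RG M G),
      MaxStep p U Q u ∧ a ∈ fixV M Q s ∧ i = trU p u a) ?_ ?_ ?_ hi.mem h0 ?_
  · rintro y - hy ⟨b, -, -, -, hb, -⟩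
    exact absurd (eq_zero_of_idem_small hM hi.idem
      (hb ▸ ((BrZero.mul_bot i hy).bot_mul i).bot_mul b)) hi.ne_zero
  · rintro Q u hstep - a ha - ⟨b, hbS, -, -, hb, -⟩
    have hiQ := fixV_mono (M := M) hstep.le s hi.mem
    refine ⟨Q, u, i * a * i * b, hstep,
      mul_mem (mul_mem (mul_mem hiQ ha) hiQ) (fixV_mono (M := M) hstep.le s hbS), ?_⟩
    refine Eq.trans hb.symm ?_
    rw [trU, trU, Finset.mul_sum, Finset.sum_mul, Finset.sum_mul]
    refine Finset.sum_congr rfl fun t _ => ?_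
    have h1 := (mem_fixV.1 hi.mem).1 _ (pow_mem hstep.mem t)
    rw [map_mul, map_mul, map_mul, h1, (mem_fixV.1 hbS).1 _ (pow_mem hstep.mem t)]
  · intro y z hy hz py pz h
    rw [mul_add, add_mul] at h
    have hc : ∀ x ∈ S, i * x * i ∈ S ∧ i * (i * x * i) = i * x * i ∧ i * x * i * i = i * x * i :=
      fun x hx => ⟨mul_mem (mul_mem hi.mem hx) hi.mem, by rw [← mul_assoc, ← mul_assoc, hi.idem],
        by rw [mul_assoc _ i i, hi.idem]⟩
    obtain ⟨a1, a2, a3⟩ := hc y hy
    obtain ⟨b1, b2, b3⟩ := hc z hz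
    exact (hi.isUnitIn_or monicSplits_locSubring a1 a2 a3 b1 b2 b3 h).elim py pz
  · rw [hi.idem, hi.idem]
    exact ⟨i, hi.mem, hi.idem, hi.idem, hi.idem, hi.idem⟩

/-! ### The average -/

/-- Below a pair the weight is a trace function. -/
def PairTrace (p : ℕ) (M : Ideal AlgInt) [M.IsPrime] (η : PairWeight G) : Prop :=
  ∀ (U : Subgroup G) (c : Set (IrrCharacter (Subgroup.centralizer (U : Set G)))),
    IsBrauerPair p M U c → ∃ ν : G → ℂ, IsLocTrace M U ν ∧
      ∀ (w : G) (f : Set (IrrCharacter (Cz w))),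
        SubpairLE p M (Subgroup.zpowers w) f U c → η w f = ν w

open scoped Classical in
/-- The average over `U` of the weighted value times a function. -/
noncomputable def wAvg (η : PairWeight G) (χ : G → ℂ) (s : G) (φ : G → ℂ) (U : Subgroup G)
    (x : RG M G) : ℂ :=
  (Nat.card U : ℂ)⁻¹ * ∑ w : U, Hval η χ s x (w : G) * φ (w : G)

theorem secData_of_mem (hM : IsPModular p M) {U : Subgroup G} (hU : IsPGroup p U) {s : G}
    (hUs : ∀ w ∈ U, Commute w s) (hs : ¬ p ∣ orderOf s) {w : G} (hw : w ∈ U) :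
    SecData p w s := by
  haveI := Fact.mk hM.1
  obtain ⟨k, hk⟩ := IsPGroup.iff_orderOf.1 hU ⟨w, hw⟩
  exact ⟨⟨k, by rwa [Subgroup.orderOf_mk] at hk⟩, hs, hUs w hw⟩

theorem wAvg_sum (hM : IsPModular p M) {U : Subgroup G} (hU : IsPGroup p U) {s : G}
    (hUs : ∀ w ∈ U, Commute w s) (hs : ¬ p ∣ orderOf s) (η : PairWeight G) {χ : G → ℂ}
    (hχ : IsClassFunction G χ) (φ : G → ℂ) (T : Finset (RG M G))
    (hT : ∀ l ∈ T, l ∈ fixV M U s ∧ l * l = l)
    (horth : ∀ l ∈ T, ∀ m ∈ T, l ≠ m → l * m = 0) :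
    wAvg η χ s φ U (∑ l ∈ T, l) = ∑ l ∈ T, wAvg η χ s φ U l := by
  classical
  simp only [wAvg, ← Finset.mul_sum]
  congr 1
  rw [Finset.sum_comm]
  refine Finset.sum_congr rfl fun w _ => ?_
  rw [Hval_sum hM (secData_of_mem hM hU hUs hs w.2) η hχ T (fun l hl =>
    ⟨fixV_mono (Subgroup.zpowers_le.2 w.2) s (hT l hl).1, (hT l hl).2⟩) horth, Finset.sum_mul]

/-- The primitive case when the idempotent survives at `U`. -/
theorem wAvg_mem_of_ne (hM : IsPModular p M) {η : PairWeight G} (hpair : PairTrace p M η)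
    (χ : IrrCharacter G) {U : Subgroup G} (hU : IsPGroup p U) {s : G}
    (hUs : ∀ w ∈ U, Commute w s) (hs : ¬ p ∣ orderOf s) {i : RG M G}
    (hi : IsPrimIn (fixV M U s) i)
    {fU : Set (IrrCharacter (Subgroup.centralizer (U : Set G)))} (hfU : IsPBlock M fU)
    (hne : ¬ BrZero U (i * ef M (Subgroup.centralizer (U : Set G)) fU))
    {φ : G → ℂ} (hφ : IsLocTrace M U φ) :
    MemLocalRing M (wAvg η (χ : G → ℂ) s φ U i) := by
  classical
  obtain ⟨ν, hν, hνeq⟩ := hpair U fU ⟨hU, hfU⟩
  have hH : ∀ w : U, Hval η (χ : G → ℂ) s i (w : G) =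
      ν w * ev (χ : G → ℂ) (el (w : G) * (el s * i)) := by
    intro w
    have hd := secData_of_mem hM hU hUs hs w.2
    have hiw := fixV_mono (M := M) (Subgroup.zpowers_le.2 w.2) s hi.mem
    obtain ⟨fw, hfw, hle⟩ := exists_subpairLE hM ⟨hU, hfU⟩ (Subgroup.zpowers_le.2 w.2)
    have hb := brZero_below hM hUs hs ⟨hU, hfU⟩ hi hne hle
    have hew := ef_mem hM hd.mem_centralizer hfw.2
    have hone : pieceEv (χ : G → ℂ) (w : G) s fw i = ev (χ : G → ℂ) (el (w : G) * (el s * i)) := by
      rw [pieceEv_eq hM hd (irr_isClassFunction χ) ⟨hiw, hi.idem, brZero_symm hb⟩, el_mul, mul_assoc]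
    have hzero : ∀ f : Bl M (Cz (w : G)), f.1 ≠ fw → pieceEv (χ : G → ℂ) (w : G) s f.1 i = 0 := by
      intro f hf
      have hV := hd.isPGroup
      have hef := ef_mem hM hd.mem_centralizer f.2
      set e₁ := ef M (Cz (w : G)) fw
      set e₂ := ef M (Cz (w : G)) f.1
      have h1 : BrZero (Subgroup.zpowers (w : G)) (i * e₂ - i * e₁ * i * e₂) := by
        have h := (hb.mul_right hM hV (sub_mem (mul_mem (mul_mem hiw hew) hiw) hiw) hef).neg
        rwa [sub_mul, neg_sub] at h
      have h2 : BrZero (Subgroup.zpowers (w : G)) (i * e₁ * i * e₂ - i * e₁ * (e₂ * i)) := by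
        have h := (brZero_comm_ef hM hV hd.mem_centralizer f.2 hiw).mul_left hM hV
          (mul_mem hiw hew) (sub_mem (mul_mem hiw hef) (mul_mem hef hiw))
        rwa [mul_sub, ← mul_assoc] at h
      have h3 : i * e₁ * (e₂ * i) = 0 := by
        rw [mul_assoc i e₁, ← mul_assoc e₁ e₂, ef_mul_ne hM hfw.2 f.2 (Ne.symm hf), zero_mul,
          mul_zero]
      rw [h3, sub_zero] at h2
      have h4 : BrZero (Subgroup.zpowers (w : G)) (i * e₂) := by simpa using h1.add h2
      exact pieceEv_eq_zero hM hd (irr_isClassFunction χ)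
        (h4.mul_right hM hV (mul_mem hiw hef) hiw)
    haveI := Fintype.ofFinite (Bl M (Cz (w : G)))
    rw [Hval, finsum_eq_sum_of_fintype, Finset.sum_eq_single (⟨fw, hfw.2⟩ : Bl M (Cz (w : G)))
      (fun f _ hf => by rw [hzero f fun e => hf (Subtype.ext e), mul_zero]) (by simp), hone,
      hνeq w fw hle]
  have hc : ∀ w : U, Commute (el (w : G)) (el s * i : RG M G) := fun w =>
    Commute.mul_right (by
      show el (w : G) * el s = el s * el (w : G)
      rw [← el_mul, ← el_mul, (hUs w w.2).eq])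
      (commute_el_iff.2 ((mem_fixV.1 hi.mem).1 w w.2))
  have h1 : IsLocTrace M U (fun g => ev (χ : G → ℂ) (el g * (el s * i))) :=
    isLocTrace_irr hM χ U.subtype hc fun _ => rfl
  have h2 := ((hν.mul h1).mul hφ).avg_mem
  rw [Fintype.card_eq_nat_card] at h2
  rw [wAvg, Finset.sum_congr rfl fun w _ => by rw [hH w]]
  exact h2

set_option maxHeartbeats 800000 in
/-- **The average is local.** -/
theorem wAvg_mem (hM : IsPModular p M) {η : PairWeight G} (hη : ConjInv M η)
    (hpair : PairTrace p M η) (χ : IrrCharacter G) {s : G} (hs : ¬ p ∣ orderOf s)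
    {U : Subgroup G} (hU : IsPGroup p U) (hUs : ∀ w ∈ U, Commute w s) {i : RG M G}
    (hi : i ∈ fixV M U s) (hii : i * i = i) {φ : G → ℂ} (hφ : IsLocTrace M U φ) :
    MemLocalRing M (wAvg η (χ : G → ℂ) s φ U i) := by
  classical
  haveI := Fact.mk hM.1
  induction hn : Nat.card U using Nat.strong_induction_on generalizing U i φ with
  | _ n ih =>
  have hcl := irr_isClassFunction χ
  obtain ⟨T₀, hT₀⟩ := exists_isDecomp (fun r a => smul_eq_zero' r a) hi hii
  rw [← hT₀.sum, wAvg_sum hM hU hUs hs η hcl φ T₀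
    (fun l hl => ⟨(hT₀.prim l hl).mem, (hT₀.prim l hl).idem⟩) hT₀.orth]
  refine memLocalRing_sum _ fun l hl => ?_
  clear hi hii
  have hi := hT₀.prim l hl
  clear hT₀ hl
  revert hi
  generalize l = i
  intro hi
  by_cases hex : ∃ fU : Set (IrrCharacter (Subgroup.centralizer (U : Set G))), IsPBlock M fU ∧
      ¬ BrZero U (i * ef M (Subgroup.centralizer (U : Set G)) fU)
  · obtain ⟨fU, hfU, hne⟩ := hex
    exact wAvg_mem_of_ne hM hpair χ hU hUs hs hi hfU hne hφ
  push Not at hex
  have h0 : BrZero U i := by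
    haveI := Fintype.ofFinite (Bl M (Subgroup.centralizer (U : Set G)))
    rw [← mul_one i, ← sum_ef hM (Subgroup.centralizer (U : Set G)), Finset.mul_sum]
    exact BrZero.sum _ fun f _ => hex f.1 f.2
  obtain ⟨Q, u, a, hstep, ha, hia⟩ := exists_trU_of_brZero hM hU hUs hs hi h0
  have hQs : ∀ w ∈ Q, Commute w s := fun w hw => hUs w (hstep.le hw)
  have hQp := hU.to_le hstep.le
  have hlt : Nat.card Q < n := hn ▸ card_lt_card_subgroup hstep.lt
  have hφQ := hφ.mono hstep.le
  set S := fixV M Q s with hS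
  have hiS : i ∈ S := fixV_mono hstep.le s hi.mem
  -- the function vanishes off `Q`
  have hoff : ∀ w ∈ U, w ∉ Q → Hval η (χ : G → ℂ) s i w = 0 := by
    intro w hw hwQ
    have hd := secData_of_mem hM hU hUs hs hw
    have hiw := fixV_mono (M := M) (Subgroup.zpowers_le.2 hw) s hi.mem
    have hb : BrZero (Subgroup.zpowers w) i := hia ▸ brZero_trU hM hstep ha hw hwQ
    refine finsum_eq_zero_of_forall_eq_zero fun f => ?_
    rw [pieceEv_eq_zero hM hd hcl ((hb.mul_right hM hd.isPGroup hiw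
      (ef_mem hM hd.mem_centralizer f.2)).mul_right hM hd.isPGroup
        (mul_mem hiw (ef_mem hM hd.mem_centralizer f.2)) hiw), mul_zero]
  have hred : wAvg η (χ : G → ℂ) s φ U i = (p : ℂ)⁻¹ * wAvg η (χ : G → ℂ) s φ Q i := by
    have e : (∑ w : U, Hval η (χ : G → ℂ) s i (w : G) * φ (w : G)) =
        ∑ w : Q, Hval η (χ : G → ℂ) s i (w : G) * φ (w : G) := by
      rw [← Finset.sum_subtype (Finset.univ.filter (· ∈ U)) (fun g => by simp)
          (fun g => Hval η (χ : G → ℂ) s i g * φ g),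
        ← Finset.sum_subtype (Finset.univ.filter (· ∈ Q)) (fun g => by simp)
          (fun g => Hval η (χ : G → ℂ) s i g * φ g)]
      refine (Finset.sum_subset (fun g hg => ?_) fun g hg hgQ => ?_).symm
      · simp only [Finset.mem_filter, Finset.mem_univ, true_and] at hg ⊢
        exact hstep.le hg
      · simp only [Finset.mem_filter, Finset.mem_univ, true_and] at hg hgQ
        rw [hoff g hg hgQ, zero_mul]
    rw [wAvg, wAvg, e, hstep.card hM.1, Nat.cast_mul, mul_inv, mul_assoc]
  rw [hred]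
  -- a decomposition of one refining `i`
  obtain ⟨J, hJ⟩ := exists_isDecomp (fun r a => smul_eq_zero' r a) hiS hi.idem
  have hi1 : (1 - i) * (1 - i) = 1 - i := by
    rw [mul_sub, mul_one, sub_mul, one_mul, hi.idem, sub_self, sub_zero]
  obtain ⟨J', hJ'⟩ := exists_isDecomp (fun r a => smul_eq_zero' r a)
    (sub_mem (one_mem S) hiS) hi1
  have hz1 : i * (1 - i) = 0 := by rw [mul_sub, mul_one, hi.idem, sub_self]
  have hz2 : (1 - i) * i = 0 := by rw [sub_mul, one_mul, hi.idem, sub_self]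
  have ho1 : ∀ a ∈ J, ∀ b ∈ J', a * b = 0 := fun a ha b hb => by
    rw [← hJ.mul_right ha, ← hJ'.mul_left hb, mul_assoc, ← mul_assoc i, hz1, zero_mul, mul_zero]
  have ho2 : ∀ a ∈ J, ∀ b ∈ J', b * a = 0 := fun a ha b hb => by
    rw [← hJ.mul_left ha, ← hJ'.mul_right hb, mul_assoc, ← mul_assoc (1 - i), hz2, zero_mul,
      mul_zero]
  have hdisj : Disjoint J J' := Finset.disjoint_left.2 fun a ha ha' =>
    (hJ.prim a ha).ne_zero ((hJ.prim a ha).idem ▸ ho1 a ha a ha')
  have hT : IsDecomp S 1 (J ∪ J') := by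
    refine ⟨fun a ha => (Finset.mem_union.1 ha).elim (hJ.prim a) (hJ'.prim a),
      fun a ha b hb hne => ?_, by rw [Finset.sum_union hdisj, hJ.sum, hJ'.sum]; abel⟩
    rcases Finset.mem_union.1 ha with ha | ha <;> rcases Finset.mem_union.1 hb with hb | hb
    · exact hJ.orth a ha b hb hne
    · exact ho1 a ha b hb
    · exact ho2 b hb a ha
    · exact hJ'.orth a ha b hb hne
  -- the weights
  let val : RG M G → ℂ := wAvg η (χ : G → ℂ) s φ Q
  have hval : ∀ m, IsPrimIn S m → MemLocalRing M (val m) := fun m hm =>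
    ih (Nat.card Q) hlt (U := Q) (i := m) (φ := φ) hQp hQs hm.mem hm.idem hφQ rfl
  have hvale : ∀ m m', IsPrimIn S m → IsPrimIn S m' → IsEquivIn S m m' → val m = val m' := by
    intro m m' _ _ h
    simp only [val, wAvg]
    refine congrArg (fun z : ℂ => (Nat.card Q : ℂ)⁻¹ * z) (Finset.sum_congr rfl fun w _ => ?_)
    rw [Hval_equiv hM (secData_of_mem hM hQp hQs hs w.2) η hcl
      (fixV_mono (Subgroup.zpowers_le.2 w.2) s) h]
  have hus : Commute u s := hUs u hstep.mem
  have hvalσ : ∀ m, IsPrimIn S m → val (cj u m) = val m := by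
    intro m hm
    simp only [val, wAvg]
    refine congrArg (fun z : ℂ => (Nat.card Q : ℂ)⁻¹ * z) ?_
    have hN : ∀ y, y ∈ Q ↔ u * y * u⁻¹ ∈ Q := Subgroup.mem_normalizer_iff.1 hstep.normal
    let e : Q ≃ Q :=
      { toFun := fun w => ⟨u * w * u⁻¹, (hN _).1 w.2⟩
        invFun := fun w => ⟨u⁻¹ * w * u, (hN _).2 (by simp [mul_assoc])⟩
        left_inv := fun w => Subtype.ext (by simp [mul_assoc])
        right_inv := fun w => Subtype.ext (by simp [mul_assoc]) }
    refine (Fintype.sum_equiv e _ _ fun w => ?_).symm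
    show _ = Hval η (χ : G → ℂ) s (cj u m) (u * w * u⁻¹) * φ (u * w * u⁻¹)
    rw [Hval_conj hM (secData_of_mem hM hQp hQs hs w.2) hus hη hcl
      (fixV_mono (Subgroup.zpowers_le.2 w.2) s hm.mem) hm.idem,
      hφ.conj_eq hstep.mem (hstep.le w.2)]
  haveI := resField_charP (M := M) hM
  have hpnu : ((p : ℕ) : locSubring M) ∈ nonunits (locSubring M) := by
    rw [← IsLocalRing.mem_maximalIdeal, maximalIdeal_locSubring, mem_locIdeal]
    simpa using (memLocalIdeal_natCast_iff hM p).2 dvd_rfl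
  haveI : CharP (locSubring M ⧸ Ideal.span {((p : ℕ) : locSubring M)}) p :=
    CharP.quotient (locSubring M) p hpnu
  let mk := Ideal.Quotient.mk (Ideal.span {((p : ℕ) : locSubring M)})
  let r : RG M G → locSubring M := fun m => if h : MemLocalRing M (val m) then ⟨val m, h⟩ else 0
  have hr : ∀ m, IsPrimIn S m → (r m : ℂ) = val m := fun m hm => by
    simp only [r, dif_pos (hval m hm)]
  have hσS : Stabilizes S (cj (M := M) u) := stabilizes_cj hstep.normal hus
  have hσp : ∀ b ∈ S, (cj (M := M) u : RG M G → RG M G)^[p] b = b := fun b hb => by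
    rw [cj_iterate, (mem_fixV.1 hb).1 _ hstep.pow_mem]
  have htr : ∑ m ∈ J, m = ∑ t ∈ Finset.range p, (cj (M := M) u : RG M G → RG M G)^[t] a := by
    rw [hJ.sum, Finset.sum_congr rfl fun t _ => cj_iterate u t a]
    exact hia
  have hsum := sum_weight_eq_zero monicSplits_locSubring hσS hσp hT Finset.subset_union_left ha htr
    (fun m => mk (r m))
    (fun m m' hm hm' h => congrArg mk (Subtype.ext (by rw [hr m hm, hr m' hm', hvale m m' hm hm' h])))
    (fun m hm => congrArg mk (Subtype.ext (by rw [hr _ (hm.map hσS), hr m hm, hvalσ m hm])))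
  rw [← map_sum, Ideal.Quotient.eq_zero_iff_mem, Ideal.mem_span_singleton] at hsum
  obtain ⟨c, hc⟩ := hsum
  have hval' : wAvg η (χ : G → ℂ) s φ Q i = (p : ℂ) * (c : ℂ) := by
    conv_lhs => rw [← hJ.sum]
    rw [wAvg_sum hM hQp hQs hs η hcl φ J (fun m hm => ⟨(hJ.prim m hm).mem, (hJ.prim m hm).idem⟩)
      hJ.orth, Finset.sum_congr rfl fun m hm => (hr m (hJ.prim m hm)).symm,
      ← AddSubmonoidClass.coe_finsetSum, hc]
    simp
  rw [hval', ← mul_assoc, inv_mul_cancel₀ (Nat.cast_ne_zero.2 hM.1.ne_zero), one_mul]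
  exact c.2

/-! ### The inner products -/

/-- The inner product over an elementary subgroup. -/
theorem classInner_elementary_mem (hM : IsPModular p M) {η : PairWeight G} (hη : ConjInv M η)
    (hpair : PairTrace p M η) (χ : IrrCharacter G) {E : Subgroup G} [Fintype E]
    (hE : IsElementary p E) {φ θ : E → ℂ} (hφ : IsCharacter E φ) (hθ : IsCharacter E θ) :
    MemLocalRing M
      (classInner (fun e : E => φ e * starFun p M η (χ : G → ℂ) (e : G)) θ) := by
  classical
  haveI := Fact.mk hM.1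
  haveI := Fintype.ofFinite (IrrCharacter E)
  obtain ⟨c, hc, hcop, k, hk⟩ := hE
  obtain ⟨U₀⟩ : Nonempty (Sylow p E) := inferInstance
  have hcard : Nat.card E = p ^ k * orderOf c := by
    rw [← (Subgroup.zpowers c).index_mul_card, hk, Nat.card_zpowers]
  have hpc : ¬ p ∣ orderOf c := hM.1.coprime_iff_not_dvd.1 hcop.symm
  have hU₀ : Nat.card U₀ = p ^ k := by
    rw [Sylow.card_eq_multiplicity, hcard, Nat.factorization_mul (pow_ne_zero _ hM.1.ne_zero)
      (orderOf_pos c).ne', Finsupp.add_apply, Nat.Prime.factorization_pow hM.1,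
      Finsupp.single_eq_same, Nat.factorization_eq_zero_of_not_dvd hpc, add_zero]
  let C := Subgroup.zpowers c
  let mulMap : ↥(U₀ : Subgroup E) × C → E := fun x => (x.1 : E) * (x.2 : E)
  have hbij : Function.Bijective mulMap :=
    Subgroup.isComplement'_of_coprime (by rw [hU₀, hcard, Nat.card_zpowers])
      (by rw [hU₀, Nat.card_zpowers]; exact Nat.Coprime.pow_left k hcop.symm)
  set ψ : E → ℂ := fun e => φ e * conj (θ e) with hψdef
  have hψ : IsCharacter E ψ := IsCharacter.mul hφ (IsCharacter.conjugate hθ)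
  have hψcl : IsClassFunction E ψ := IsCharacter.isClassFunction hψ
  set U : Subgroup G := (U₀ : Subgroup E).map E.subtype with hUdef
  have hUp : IsPGroup p U := U₀.isPGroup'.map _
  have hUE : U ≤ E := Subgroup.map_subtype_le _
  have hmain : ∀ z : C, MemLocalRing M ((Nat.card U₀ : ℂ)⁻¹ * ∑ w : (U₀ : Subgroup E),
      starFun p M η (χ : G → ℂ) (((w : E) * (z : E) : E) : G) * ψ ((w : E) * (z : E))) := by
    intro z
    set s : G := ((z : E) : G) with hsdef
    have hzc : ∀ e : E, Commute e (z : E) := fun e => by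
      obtain ⟨n, hn⟩ := Subgroup.mem_zpowers_iff.1 z.2
      rw [← hn]
      exact (show Commute e c from Subgroup.mem_center_iff.1 hc e).zpow_right n
    have hs : ¬ p ∣ orderOf s := by
      rw [hsdef, Subgroup.orderOf_coe]
      exact fun h => hpc (h.trans (orderOf_dvd_of_mem_zpowers z.2))
    have hUs : ∀ w ∈ U, Commute w s := by
      rintro _ ⟨e, -, rfl⟩
      exact (hzc e).map E.subtype
    have key : ∀ ξ : IrrCharacter E, MemLocalRing M ((Nat.card U₀ : ℂ)⁻¹ *
        ∑ w : (U₀ : Subgroup E), starFun p M η (χ : G → ℂ) (((w : E) * (z : E) : E) : G) *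
          (ξ : E → ℂ) ((w : E) * (z : E))) := by
      intro ξ
      let g : G → ℂ := fun x => if hx : x ∈ E then (ξ : E → ℂ) (⟨x, hx⟩ * (z : E)) else 0
      have hg : IsLocTrace M U g :=
        isLocTrace_irr hM ξ (Subgroup.inclusion hUE) (x := el (z : E))
          (fun w => by
            show el _ * el (z : E) = el (z : E) * el _
            rw [← el_mul, ← el_mul, (hzc _).eq])
          (fun w => by
            rw [← el_mul, ev_el]
            simp only [g, dif_pos (hUE w.2)]
            rfl)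
      have h1 := wAvg_mem hM hη hpair χ hs hUp hUs (i := 1) (one_mem _) (mul_one 1) hg
      convert h1 using 1
      rw [wAvg]
      congr 1
      · rw [hUdef, Subgroup.card_map_of_injective E.subtype_injective]
      · refine Fintype.sum_equiv ((U₀ : Subgroup E).equivMapOfInjective E.subtype
          E.subtype_injective).toEquiv _ _ fun w => ?_
        show _ = Hval η (χ : G → ℂ) s (1 : RG M G) (((w : E) : G)) * g ((w : E) : G)
        have hd := secData_of_mem hM hUp hUs hs (w := ((w : E) : G)) ⟨w, w.2, rfl⟩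
        rw [Hval_one hM hd η (irr_isClassFunction χ)]
        have h2 := starFun_mul (M := M) hM.1 η (χ : G → ℂ) hd.pow
          (s := ⟨s, hd.mem_centralizer⟩) (by rw [IsPRegular, Subgroup.orderOf_mk]; exact hd.reg)
        simp only [g, dif_pos (SetLike.coe_mem (w : E))]
        rw [Subgroup.coe_mul]
        exact congrArg₂ (· * ·) h2 rfl
    have hexp : ∀ y : E, ψ y = ∑ ξ : IrrCharacter E,
        classInner ψ (ξ : E → ℂ) * (ξ : E → ℂ) y := fun y => by
      conv_lhs => rw [eq_sum_classInner hψcl]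
      simp [Finset.sum_apply]
    simp only [hexp, Finset.mul_sum]
    rw [Finset.sum_comm]
    refine memLocalRing_sum _ fun ξ _ => ?_
    obtain ⟨n, hn⟩ := IsCharacter.exists_classInner_nat hψ (irr_isCharacter ξ)
    have := memLocalRing_mul (memLocalRing_natCast (M := M) n) (key ξ)
    rw [Finset.mul_sum, Finset.mul_sum] at this
    convert this using 1
    refine Finset.sum_congr rfl fun w _ => ?_
    rw [hn]
    ring
  have e : classInner (fun e : E => φ e * starFun p M η (χ : G → ℂ) (e : G)) θ =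
      (orderOf c : ℂ)⁻¹ * ∑ z : C, (Nat.card U₀ : ℂ)⁻¹ * ∑ w : (U₀ : Subgroup E),
        starFun p M η (χ : G → ℂ) (((w : E) * (z : E) : E) : G) * ψ ((w : E) * (z : E)) := by
    rw [classInner, hcard, ← hU₀, Nat.cast_mul, mul_inv, ← Finset.mul_sum,
      ← Fintype.sum_bijective mulMap hbij (fun x => φ (mulMap x) *
        starFun p M η (χ : G → ℂ) (mulMap x : G) * conj (θ (mulMap x))) _ (fun _ => rfl),
      Fintype.sum_prod_type, Finset.sum_comm]
    rw [mul_comm (Nat.card U₀ : ℂ)⁻¹, mul_assoc]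
    congr 2
    refine Finset.sum_congr rfl fun z _ => Finset.sum_congr rfl fun w _ => ?_
    simp only [mulMap, hψdef]
    ring
  rw [e]
  exact memLocalRing_mul (memLocalRing_inv_natCast hM hpc) (memLocalRing_sum _ fun z _ => hmain z)

/-- **Local integrality of the star products.** -/
theorem classInner_starFun_mem_of_pairTrace (hM : IsPModular p M) {η : PairWeight G}
    (hη : ConjInv M η) (hpair : PairTrace p M η) (χ θ : IrrCharacter G) :
    MemLocalRing M (classInner (starFun p M η (χ : G → ℂ)) (θ : G → ℂ)) := by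
  classical
  obtain ⟨a, m, hm, hN⟩ :=
    Nat.exists_eq_pow_mul_and_not_dvd (Nat.card_pos (α := G)).ne' p hM.1.ne_one
  have hF : IsClassFunction G (starFun p M η (χ : G → ℂ)) :=
    isClassFunction_starFun hM.1 hη (irr_isClassFunction χ)
  set F := starFun p M η (χ : G → ℂ)
  have key : ∀ f ∈ brauerSpan G p, MemLocalRing M (classInner (f * F) (θ : G → ℂ)) := by
    intro f hf
    induction hf using Submodule.span_induction with
    | mem x hx =>
      obtain ⟨E, φ, hE, hφ, rfl⟩ := hx
      haveI := Fintype.ofFinite E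
      rw [← indFun_mul_restrict E φ hF, classInner_indFun E _ (irr_isClassFunction θ)]
      exact classInner_elementary_mem hM hη hpair χ hE hφ
        (IsCharacter.restrict (irr_isCharacter θ) E)
    | zero => simpa [classInner] using memLocalRing_zero (M := M)
    | add x y _ _ hx hy =>
      rw [add_mul, classInner_add_left]
      exact memLocalRing_add hx hy
    | smul r x _ hx =>
      rw [show (r • x) * F = ((r : ℂ)) • (x * F) by funext g; simp [Subalgebra.smul_def, mul_assoc],
        classInner_smul_left]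
      exact memLocalRing_mul (memLocalRing_of_isIntegral' r.2) hx
  have h1 := key _ (natCast_mem_brauerSpan hM.1 hN)
  rw [show (fun _ : G => (m : ℂ)) * F = (m : ℂ) • F by funext g; simp, classInner_smul_left] at h1
  have h2 := memLocalRing_mul (memLocalRing_inv_natCast hM hm) h1
  have hm0 : (m : ℂ) ≠ 0 := Nat.cast_ne_zero.2 fun e => hm (e ▸ dvd_zero p)
  rwa [← mul_assoc, inv_mul_cancel₀ hm0, one_mul] at h2

/-- The weight of a linear character is a trace function below every pair. -/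
theorem pairTrace_linWeight (hM : IsPModular p M) {B : Set (IrrCharacter G)} {P : Subgroup G}
    {e : Set (IrrCharacter (Subgroup.centralizer (P : Set G)))} {F : FusionSystem P}
    (hmax : IsMaximalBrauerPair p M B P e) (hF : IsBlockFusionSystemOn p M B P e F)
    {lam : P →* ℂˣ} (hlam : IsFocTrivial F lam) : PairTrace p M (linWeight p M e lam) := by
  classical
  intro U c hc
  by_cases hB : IsBrauerPairOf p M B U c
  · obtain ⟨μ, hμ⟩ := exists_linWeight_hom hM hmax hF hlam hB
    refine ⟨fun g => if hg : g ∈ U then ((μ ⟨g, hg⟩ : ℂˣ) : ℂ) else 0,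
      isLocTrace_hom μ fun w => dif_pos w.2, fun w f h => ?_⟩
    have hw : w ∈ U := subpairLE_le h (Subgroup.mem_zpowers w)
    simp only [dif_pos hw]
    exact hμ ⟨w, hw⟩ f h
  · refine ⟨0, isLocTrace_zero U, fun w f h => ?_⟩
    exact linWeight_eq_zero_of_not_pair hM hmax fun hf =>
      hB ((isBrauerPairOf_iff_of_subpairLE hM hc h hmax.1.2.1).2 hf)

/-- **The star products of a block are locally integral.** -/
theorem classInner_starFun_mem (hM : IsPModular p M) {B : Set (IrrCharacter G)} {P : Subgroup G}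
    {e : Set (IrrCharacter (Subgroup.centralizer (P : Set G)))} {F : FusionSystem P}
    (hmax : IsMaximalBrauerPair p M B P e) (hF : IsBlockFusionSystemOn p M B P e F)
    (lam : P →* ℂˣ) (hlam : IsFocTrivial F lam) (χ θ : IrrCharacter G) :
    MemLocalRing M (classInner (starFun p M (linWeight p M e lam) (χ : G → ℂ)) (θ : G → ℂ)) :=
  classInner_starFun_mem_of_pairTrace hM
    (fun u a f f' _ h => linWeight_conj hF hlam u a f f' h)
    (pairTrace_linWeight hM hmax hF hlam) χ θ

end Cfsg.Agent.Lib.BrauerStar
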