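import Cfsg.Agent.Lib.BrauerStar.NilMain
import Cfsg.Agent.Lib.BrauerStar.ClassTrace
import Cfsg.Agent.Lib.BrauerStar.Integral

/-!
# The characters of a nilpotent block and those of its defect group
-/

set_option autoImplicit false
set_option linter.unusedSectionVars false
set_option linter.style.haveILetI false

namespace Cfsg.Agent.Lib.BrauerStar

open Cfsg Cfsg.Agent.Lib.Blocks Cfsg.Agent.Lib.Characters Cfsg.Agent.Lib.BrauerPairs
  Cfsg.Agent.Lib.BlockHeights
open scoped ComplexConjugate

universe u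

variable {G : Type u} [Group G] [Fintype G] {M : Ideal AlgInt} [hMp : M.IsPrime] {p : ℕ}
  {B : Set (IrrCharacter G)} {P : Subgroup G}
  {e : Set (IrrCharacter (Subgroup.centralizer (P : Set G)))} {F : FusionSystem P}

noncomputable local instance fintypeSubgroupNilBij (H : Subgroup G) : Fintype H := Fintype.ofFinite H

local notation3 "Cz" u:max => Subgroup.centralizer (SetLike.coe (Subgroup.zpowers u))

/-- The star products with the characters of the defect group are locally integral. -/
theorem classIntegral_nilBij (hM : IsPModular p M) (hmax : IsMaximalBrauerPair p M B P e)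
    (hF : IsBlockFusionSystemOn p M B P e F) (hin : IsInnerFusion F) :
    ClassIntegral p M e := fun φ χ θ =>
  classInner_starFun_mem_of_pairTrace hM
    (fun u a f f' _ h => clsWeight_conj hF hin (irr_isClassFunction φ) u a f f' h)
    (fun U c hc => by
      by_cases hB : IsBrauerPairOf p M B U c
      · obtain ⟨ν, hν, hν'⟩ := exists_isLocTrace_cls_of_pair hM hmax hF hin φ hB
        exact ⟨ν, hν, fun w f h => hν' w (subpairLE_le h (Subgroup.mem_zpowers w)) f h⟩
      · refine ⟨0, isLocTrace_zero U, fun w f h => ?_⟩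
        exact clsWeight_eq_zero_of_not_pair hM hmax fun hf =>
          hB ((isBrauerPairOf_iff_of_subpairLE hM hc h hmax.1.2.1).2 hf))
    χ θ

/-- The centralizers of non-central elements of `P` see rank one. -/
theorem localRankOne_of_nilpotent (hM : IsPModular p M) (hmax : IsMaximalBrauerPair p M B P e)
    (hnil : IsNilpotentBlock p M B) : LocalRankOne p M e := by
  classical
  intro v hv hvZ f hle
  exact (nilpotent_block_rank_one hM
    (fun _ _ _ _ hm hFs hi => classIntegral_nilBij hM hm hFs hi)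
    (Nat.card (Subgroup.centralizer (Subgroup.zpowers v : Set G)) + 1)
    (Nat.lt_succ_self _)
    (nilpotent_pairs hM hmax hnil (isBrauerPairOf_of_subpairLE hM hmax hle)).1).1

/-- Distinct characters of `P` give orthogonal star products. -/
theorem classInner_starFun_cls_cls (hM : IsPModular p M) (hmax : IsMaximalBrauerPair p M B P e)
    (hF : IsBlockFusionSystemOn p M B P e F) (hin : IsInnerFusion F)
    {χ : IrrCharacter G} (hχ : χ ∈ B)
    (hN : ∀ (v : P) f, SubpairLE p M (Subgroup.zpowers (v : G)) f P e →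
      (centCard v : ℂ) * secInner p (χ : G → ℂ) (χ : G → ℂ) (v : G) f = 1)
    (φ φ' : IrrCharacter P) :
    classInner (starFun p M (clsWeight p M e (φ : P → ℂ)) (χ : G → ℂ))
      (starFun p M (clsWeight p M e (φ' : P → ℂ)) (χ : G → ℂ))
      = classInner (φ : P → ℂ) (φ' : P → ℂ) := by
  classical
  haveI := Fact.mk hM.1
  obtain ⟨fv, hfv, huniq⟩ := exists_pairFun hM hmax
  have hη : ConjInv M (clsWeight p M e (φ' : P → ℂ)) := fun u a f f' _ h =>
    clsWeight_conj hF hin (irr_isClassFunction φ') u a f f' h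
  have hΦ : IsClassFunction G (starFun p M (clsWeight p M e (φ' : P → ℂ)) (χ : G → ℂ)) :=
    isClassFunction_starFun hM.1 hη (irr_isClassFunction χ)
  rw [classInner_starFun_cls hM hmax hF hin (irr_isClassFunction φ) hχ hΦ fv huniq, classInner]
  refine congrArg₂ (· * ·) rfl (Finset.sum_congr ?_ fun v _ => ?_)
  · ext; simp
  have hpair := isBrauerPairOf_of_subpairLE hM hmax (hfv v)
  have hpv : ∃ k : ℕ, orderOf (v : G) = p ^ k := by
    obtain ⟨k, hk⟩ := IsPGroup.iff_orderOf.1 hmax.1.1.1 v
    exact ⟨k, by rwa [Subgroup.orderOf_coe]⟩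
  have hwv : clsWeight p M e (φ' : P → ℂ) (v : G) (fv v) = (φ' : P → ℂ) v := by
    rw [clsWeight_eq hF hin (irr_isClassFunction φ') (subpairLE_conj_one (hfv v))]
    exact congrArg (φ' : P → ℂ) (Subtype.ext (by simp))
  have h1 := hN v (fv v) (hfv v)
  rw [secInner] at h1 ⊢
  rw [sect_starFun hM hη (irr_isClassFunction χ) hpv hpair.1.2, hwv, classInner_smul_right]
  linear_combination ((φ : P → ℂ) v * conj ((φ' : P → ℂ) v)) * h1

/-- Every character of the block is a star product. -/
theorem exists_cls_preimage (hM : IsPModular p M) (hmax : IsMaximalBrauerPair p M B P e)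
    (hF : IsBlockFusionSystemOn p M B P e F) (hin : IsInnerFusion F) (hint : ClassIntegral p M e)
    {χ₀ : IrrCharacter G} (hχ₀ : χ₀ ∈ B)
    (hmin : nu p (χ₀ : G → ℂ) = minExp p B)
    (hN : ∀ (v : P) f, SubpairLE p M (Subgroup.zpowers (v : G)) f P e →
      (centCard v : ℂ) * secInner p (χ₀ : G → ℂ) (χ₀ : G → ℂ) (v : G) f = 1)
    {χ : IrrCharacter G} (hχ : χ ∈ B) :
    ∃ φ : IrrCharacter P,
      (χ : G → ℂ) = starFun p M (clsWeight p M e (φ : P → ℂ)) (χ₀ : G → ℂ) := by
  classical
  haveI := Fact.mk hM.1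
  have hB := hmax.1.2.1
  obtain ⟨fv, hfv, huniq⟩ := exists_pairFun hM hmax
  haveI := Fintype.ofFinite (IrrCharacter P)
  by_contra hcon
  simp only [not_exists] at hcon
  set c : P → ℂ := fun v =>
    (centCard v : ℂ) * secInner p (χ₀ : G → ℂ) (χ : G → ℂ) (v : G) (fv v) with hc
  have horth : ∀ φ : IrrCharacter P, ∑ v, (φ : P → ℂ) v * c v = 0 := fun φ => by
    obtain ⟨ψ, hψ, heq⟩ := exists_irr_starFun_cls hM hmax hF hin hint hχ₀ hN φ
    have h1 := classInner_starFun_cls hM hmax hF hin (irr_isClassFunction φ) hχ₀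
      (irr_isClassFunction χ) fv huniq
    rw [← heq, IsIrrCharacter.classInner_ne ψ.2 χ.2
      (fun h => hcon φ (h.symm.trans heq))] at h1
    refine (mul_eq_zero.1 (Eq.trans ?_ h1.symm)).resolve_left
      (inv_ne_zero (Nat.cast_ne_zero.2 (Nat.card_pos (α := P)).ne'))
    congr 1
    refine Finset.sum_congr ?_ fun v _ => by rw [hc]; ring
    ext; simp
  have hδ : IsClassFunction P (fun v : P => if v = 1 then (1 : ℂ) else 0) := fun v w => by
    simp only [conj_eq_one_iff]
  have hc1 : c 1 = 0 := by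
    have h2 : ∑ v : P, (if v = 1 then (1 : ℂ) else 0) * c v = 0 := by
      calc ∑ v : P, (if v = 1 then (1 : ℂ) else 0) * c v
          = ∑ v : P, ∑ φ : IrrCharacter P, classInner (fun v : P => if v = 1 then (1 : ℂ) else 0)
              (φ : P → ℂ) * ((φ : P → ℂ) v * c v) := Finset.sum_congr rfl fun v _ => by
            have h3 := congrFun (eq_sum_classInner hδ) v
            rw [Finset.sum_apply] at h3
            rw [h3, Finset.sum_mul]
            exact Finset.sum_congr rfl fun φ _ => by rw [Pi.smul_apply, smul_eq_mul, mul_assoc]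
        _ = 0 := by
          rw [Finset.sum_comm]
          exact Finset.sum_eq_zero fun φ _ => by rw [← Finset.mul_sum, horth φ, mul_zero]
    simpa using h2
  have hsec : secInner p (χ₀ : G → ℂ) (χ : G → ℂ) 1 (fv 1) = regInner p χ₀ χ :=
    secInner_one hM hmax (hfv 1) hχ₀ hχ
  rw [hc] at hc1
  have hzero : regInner p χ₀ χ = 0 := by
    rw [← hsec]
    exact (mul_eq_zero.1 hc1).resolve_left (Nat.cast_ne_zero.2 (Nat.card_pos).ne')
  rw [regInner, classInner_pRegularPart hM.1, div_eq_zero_iff] at hzero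
  have hpair := hzero.resolve_right (pow_ne_zero _ (Nat.cast_ne_zero.2 hM.1.ne_zero))
  exact pairing_unit_of_minimal hM hB hχ₀ hmin hχ (by
    rw [hpair, zero_div]
    exact memLocalIdeal_zero)

/-- **The characters of a nilpotent block correspond to those of the defect group.** -/
theorem exists_height_bijection (hM : IsPModular p M) (hmax : IsMaximalBrauerPair p M B P e)
    (hnil : IsNilpotentBlock p M B) :
    ∃ Φ : B ≃ IrrCharacter P, ∀ χ : B, blockHeight p B ((χ : IrrCharacter G) : G → ℂ)
      = (charDegree ((Φ χ : IrrCharacter P) : P → ℂ)).factorization p := by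
  classical
  haveI := Fact.mk hM.1
  have hF := isBlockFusionSystemOn_blockFusion hM hmax
  have hin : IsInnerFusion (blockFusion hM hmax) := (isNilpotentBlock_iff hM hF).1 hnil
  have hint := classIntegral_nilBij hM hmax hF hin
  obtain ⟨χ₀, hχ₀, hmin⟩ := exists_nu_eq_minExp (p := p) (IsPBlock.nonempty hmax.1.2.1)
  have h0 : blockHeight p B (χ₀ : G → ℂ) = 0 := by
    have := minExp_add_blockHeight (p := p) hχ₀
    omega
  have hN := norms_eq_one hM hmax hF hin hnil (localRankOne_of_nilpotent hM hmax hnil) hχ₀ h0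
  choose ψ hψ heq using fun φ : IrrCharacter P =>
    exists_irr_starFun_cls hM hmax hF hin hint hχ₀ hN φ
  have hinj : Function.Injective fun φ : IrrCharacter P => (⟨ψ φ, hψ φ⟩ : B) := by
    intro φ φ' h
    have h' : ψ φ = ψ φ' := congrArg Subtype.val h
    have h1 := classInner_starFun_cls_cls hM hmax hF hin hχ₀ hN φ φ'
    rw [← heq, ← heq, h', IsIrrCharacter.classInner_self (ψ φ').2] at h1
    by_contra hne
    rw [IsIrrCharacter.classInner_ne φ.2 φ'.2 fun h => hne (Subtype.ext h)] at h1
    exact one_ne_zero h1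
  have hsurj : Function.Surjective fun φ : IrrCharacter P => (⟨ψ φ, hψ φ⟩ : B) := by
    rintro ⟨χ, hχ⟩
    obtain ⟨φ, hφ⟩ := exists_cls_preimage hM hmax hF hin hint hχ₀ hmin hN hχ
    exact ⟨φ, Subtype.ext (Subtype.ext ((heq φ).trans hφ.symm))⟩
  let E : IrrCharacter P ≃ B := Equiv.ofBijective _ ⟨hinj, hsurj⟩
  refine ⟨E.symm, fun χ => ?_⟩
  obtain ⟨φ, rfl⟩ := E.surjective χ
  rw [Equiv.symm_apply_apply]
  show blockHeight p B (ψ φ : G → ℂ) = _
  have h1 : (ψ φ : G → ℂ) 1 = (φ : P → ℂ) 1 * (χ₀ : G → ℂ) 1 := by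
    rw [heq]
    exact starFun_cls_regular hM hmax hF hin (irr_isClassFunction φ) hχ₀
      (by rw [orderOf_one]; exact fun h => hM.1.ne_one (Nat.dvd_one.1 h))
  rw [irr_apply_one, irr_apply_one, irr_apply_one] at h1
  have h2 : charDegree (ψ φ : G → ℂ) = charDegree (φ : P → ℂ) * charDegree (χ₀ : G → ℂ) := by
    exact_mod_cast h1
  have h3 : nu p (ψ φ : G → ℂ) = (charDegree (φ : P → ℂ)).factorization p + nu p (χ₀ : G → ℂ) := by
    simp only [nu]
    rw [h2, Nat.factorization_mul (charDegree_irr_pos φ).ne' (charDegree_irr_pos χ₀).ne',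
      Finsupp.add_apply]
  have := minExp_add_blockHeight (p := p) (hψ φ)
  omega

end Cfsg.Agent.Lib.BrauerStar
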