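import Cfsg.Agent.Lib.BrauerStar.NilMain
import Cfsg.Agent.Lib.BrauerStar.ClassTrace
import Cfsg.Agent.Lib.BrauerStar.Integral

/-!
# Local integrality for the characters of the defect group of a nilpotent block
-/

set_option autoImplicit false
set_option linter.unusedSectionVars false

namespace Cfsg.Agent.Lib.BrauerStar

open Cfsg Cfsg.Agent.Lib.Blocks Cfsg.Agent.Lib.Characters Cfsg.Agent.Lib.BrauerPairs

universe u

variable {G : Type u} [Group G] [Fintype G] {M : Ideal AlgInt} [hMp : M.IsPrime] {p : ℕ}
  {B : Set (IrrCharacter G)} {P : Subgroup G}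
  {e : Set (IrrCharacter (Subgroup.centralizer (P : Set G)))} {F : FusionSystem P}

/-- The weight of a character of `P` is a trace function below every pair. -/
theorem pairTrace_clsWeight (hM : IsPModular p M) (hmax : IsMaximalBrauerPair p M B P e)
    (hF : IsBlockFusionSystemOn p M B P e F) (hin : IsInnerFusion F) (φ : IrrCharacter P) :
    PairTrace p M (clsWeight p M e (φ : P → ℂ)) := by
  classical
  intro U c hc
  by_cases hB : IsBrauerPairOf p M B U c
  · obtain ⟨ν, h1, h2⟩ := exists_isLocTrace_cls_of_pair hM hmax hF hin φ hB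
    exact ⟨ν, h1, fun w f h => h2 w (subpairLE_le h (Subgroup.mem_zpowers w)) f h⟩
  · refine ⟨0, isLocTrace_zero U, fun w f h => ?_⟩
    exact clsWeight_eq_zero_of_not_pair hM hmax fun hf =>
      hB ((isBrauerPairOf_iff_of_subpairLE hM hc h hmax.1.2.1).2 hf)

theorem classIntegral (hM : IsPModular p M) (hmax : IsMaximalBrauerPair p M B P e)
    (hF : IsBlockFusionSystemOn p M B P e F) (hin : IsInnerFusion F) : ClassIntegral p M e :=
  fun φ χ θ => classInner_starFun_mem_of_pairTrace hM
    (fun u a f f' _ h => clsWeight_conj hF hin (irr_isClassFunction φ) u a f f' h)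
    (pairTrace_clsWeight hM hmax hF hin φ) χ θ

theorem classIntegralAll (hM : IsPModular p M) : ClassIntegralAll.{u} p M := by
  intro H _ _ B P e F hmax hF hin
  exact classIntegral hM hmax hF hin

/-- **Nilpotent blocks have one Brauer character.** -/
theorem nilpotent_rank_one (hM : IsPModular p M) (hnil : IsNilpotentBlock p M B) :
    blockRank p B = 1 ∧ ∃ χ₀ ∈ B, ∀ χ ∈ B, ∃ d : ℕ, ∀ x : G,
      pRegularPart p (χ : G → ℂ) x = (d : ℂ) * pRegularPart p (χ₀ : G → ℂ) x :=
  nilpotent_block_rank_one hM (classIntegralAll hM) (Nat.card G + 1) (Nat.lt_succ_self _) hnil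

end Cfsg.Agent.Lib.BrauerStar
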