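import Cfsg.Agent.Lib.BrauerStar.NilRank

/-!
# The regular rank of a nilpotent block
-/

set_option autoImplicit false
set_option linter.unusedSectionVars false
set_option linter.style.haveILetI false

namespace Cfsg.Agent.Lib.BrauerStar

open Cfsg Cfsg.Agent.Lib.Blocks Cfsg.Agent.Lib.Characters Cfsg.Agent.Lib.BrauerPairs
  Cfsg.Agent.Lib.BlockHeights

universe u

/-- Local integrality in every group of the universe. -/
abbrev ClassIntegralAll (p : ℕ) (M : Ideal AlgInt) : Prop :=
  ∀ {H : Type u} [Group H] [Fintype H] (B : Set (IrrCharacter H)) (P : Subgroup H)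
    (e : Set (IrrCharacter (Subgroup.centralizer (P : Set H)))) (F : FusionSystem P),
    IsMaximalBrauerPair p M B P e → IsBlockFusionSystemOn p M B P e F → IsInnerFusion F →
      ClassIntegral p M e

/-- **Nilpotent blocks have one Brauer character.** -/
theorem nilpotent_block_rank_one {M : Ideal AlgInt} [hMp : M.IsPrime] {p : ℕ}
    (hM : IsPModular p M) (hint : ClassIntegralAll.{u} p M) (n : ℕ) :
    ∀ {G : Type u} [Group G] [Fintype G], Nat.card G < n → ∀ {B : Set (IrrCharacter G)},
      IsNilpotentBlock p M B →
        blockRank p B = 1 ∧ ∃ χ₀ ∈ B, ∀ χ ∈ B, ∃ d : ℕ, ∀ x : G,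
          pRegularPart p (χ : G → ℂ) x = (d : ℂ) * pRegularPart p (χ₀ : G → ℂ) x := by
  induction n with
  | zero => intro G _ _ h; exact absurd h (Nat.not_lt_zero _)
  | succ n ih =>
    intro G _ _ hn B hnil
    classical
    haveI := Fact.mk hM.1
    have hB : IsPBlock M B := hnil.1
    obtain ⟨D, hD⟩ := exists_isDefectGroup hM hB
    obtain ⟨e, hmax⟩ := exists_maximal_defect hM hB hD
    have hF := isBlockFusionSystemOn_blockFusion hM hmax
    have hin : IsInnerFusion (blockFusion hM hmax) := (isNilpotentBlock_iff hM hF).1 hnil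
    have hloc : LocalRankOne p M e := by
      intro v hv hvZ f hle
      have hlt : Nat.card (Subgroup.centralizer (Subgroup.zpowers v : Set G)) < Nat.card G := by
        refine lt_of_le_of_ne (Nat.le_of_dvd Nat.card_pos (Subgroup.card_subgroup_dvd_card _))
          fun h => hvZ ?_
        have htop := Subgroup.eq_top_of_card_eq _ h
        refine Subgroup.mem_center_iff.2 fun g => ?_
        have hg : g ∈ Subgroup.centralizer (Subgroup.zpowers v : Set G) := htop ▸ Subgroup.mem_top g
        exact ((mem_centralizer_zpowers_iff).1 hg).eq.symm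
      haveI := Fintype.ofFinite (Subgroup.centralizer (Subgroup.zpowers v : Set G))
      exact (ih (Nat.lt_of_lt_of_le hlt (Nat.lt_succ_iff.1 hn))
        (nilpotent_pairs hM hmax hnil (isBrauerPairOf_of_subpairLE hM hmax hle)).1).1
    have hprop := nilpotent_regular_proportional hM hmax hnil
      (hint B D e _ hmax hF hin) hloc
    exact ⟨blockRank_eq_one_of_proportional hM hB hprop, hprop⟩

end Cfsg.Agent.Lib.BrauerStar
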