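import Cfsg.Agent.Lib.BrauerStar.ClassWeight
import Cfsg.Agent.Lib.BlockHeights.RankOne
import Cfsg.Agent.Lib.BlockHeights.CentralRank
import Cfsg.Agent.Lib.HeightCenter.Count

/-!
# Norms of a character of height zero on the subsections of a block
-/

set_option autoImplicit false
set_option linter.unusedSectionVars false
set_option linter.style.haveILetI false

namespace Cfsg.Agent.Lib.BrauerStar

open Cfsg Cfsg.Agent.Lib.Blocks Cfsg.Agent.Lib.Characters Cfsg.Agent.Lib.BrauerPairs
  Cfsg.Agent.Lib.BlockHeights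
open scoped ComplexConjugate

universe u

variable {G : Type u} [Group G] [Fintype G] {M : Ideal AlgInt} [hMp : M.IsPrime] {p : ℕ}
  {B : Set (IrrCharacter G)} {P : Subgroup G}
  {e : Set (IrrCharacter (Subgroup.centralizer (P : Set G)))}

noncomputable local instance fintypeSubgroupAux' (H : Subgroup G) : Fintype H := Fintype.ofFinite H

local notation3 "Cz" u:max => Subgroup.centralizer (SetLike.coe (Subgroup.zpowers u))

/-- The inner product of two characters at a subsection. -/
noncomputable def secInner (p : ℕ) (χ ψ : G → ℂ) : PairWeight G :=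
  fun u f => classInner (sect p u f χ) (sect p u f ψ)

theorem pieceVal_conj {χ : G → ℂ} (hχ : IsClassFunction G χ) {u t : G}
    {f : Set (IrrCharacter (Cz u))} {f' : Set (IrrCharacter (Cz (t * u * t⁻¹)))}
    (h : subgroupBlockCoeff (Cz (t * u * t⁻¹)) f' = gconj t (subgroupBlockCoeff (Cz u) f))
    (g : G) : pieceVal (t * u * t⁻¹) f' χ (t * g * t⁻¹) = pieceVal u f χ g := by
  simp only [pieceVal, h]
  refine (Fintype.sum_equiv (MulAut.conj t).toEquiv _ _ fun d => ?_).symm
  show subgroupBlockCoeff (Cz u) f d * χ (g * d) =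
    gconj t (subgroupBlockCoeff (Cz u) f) (t * d * t⁻¹) * χ (t * g * t⁻¹ * (t * d * t⁻¹))
  rw [gconj_apply, show t⁻¹ * (t * d * t⁻¹) * t = d by group,
    show t * g * t⁻¹ * (t * d * t⁻¹) = t * (g * d) * t⁻¹ by group, hχ]

theorem conjInv_secInner {χ ψ : G → ℂ} (hχ : IsClassFunction G χ) (hψ : IsClassFunction G ψ) :
    ConjInv M (secInner (p := p) χ ψ) := by
  intro u t f f' _ h
  set c := conjEquiv t (mem_Cz_conj_iff u t)
  have hval : ∀ φ : G → ℂ, IsClassFunction G φ → ∀ s : Cz u,
      sect p (t * u * t⁻¹) f' φ (c s) = sect p u f φ s := fun φ hφ s => by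
    have hcs : ((c s : Cz (t * u * t⁻¹)) : G) = t * (s : G) * t⁻¹ := rfl
    by_cases hs : IsPRegular p s
    · have hs' : IsPRegular p (c s) := by rwa [IsPRegular, MulEquiv.orderOf_eq]
      rw [sect_apply_regular _ f' hφ hs', sect_apply_regular _ f hφ hs, hcs,
        show t * u * t⁻¹ * (t * (s : G) * t⁻¹) = t * (u * (s : G)) * t⁻¹ by group,
        pieceVal_conj hφ h]
    · have hs' : ¬ IsPRegular p (c s) := by rwa [IsPRegular, MulEquiv.orderOf_eq]
      simp only [sect, pRegularPart_eq, regInd_of_singular hs, regInd_of_singular hs', zero_mul]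
  unfold secInner
  rw [classInner, classInner, Nat.card_congr c.toEquiv]
  congr 1
  exact (Fintype.sum_equiv c.toEquiv _ _ fun s => by
    show _ = sect p _ f' χ (c s) * conj (sect p _ f' ψ (c s))
    rw [hval χ hχ, hval ψ hψ]).symm

/-- The centraliser in `P` of `v` is `P ⊓ C(v)`. -/
theorem card_inf_Cz (v : P) :
    Nat.card ((P ⊓ Cz (v : G)).subgroupOf (Cz (v : G))) = centCard v := by
  rw [Nat.card_congr (Subgroup.subgroupOfEquivOfLe
    (inf_le_right : P ⊓ Cz (v : G) ≤ Cz (v : G))).toEquiv, centCard]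
  refine Nat.card_congr ?_
  refine
    { toFun := fun y => ⟨⟨(y : G), y.2.1⟩, Subgroup.mem_centralizer_singleton_iff.2 (Subtype.ext
        ((mem_Cz_iff _ _).1 y.2.2).eq.symm)⟩
      invFun := fun y => ⟨((y : P) : G), (y : P).2, (mem_Cz_iff _ _).2
        (congrArg Subtype.val (Subgroup.mem_centralizer_singleton_iff.1 y.2)).symm⟩
      left_inv := fun y => rfl
      right_inv := fun y => rfl }

/-- **The norm at a subsection of rank one.** -/
theorem exists_norm_rank_one (hM : IsPModular p M) {u : G} (hu : ∃ k : ℕ, orderOf u = p ^ k)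
    {f : Set (IrrCharacter (Cz u))} (hind : IsInducedBlock M (Cz u) f B)
    {D : Subgroup (Cz u)} (hD : IsDefectGroup p M f D) (hl : blockRank p f = 1)
    {χ : IrrCharacter G} (hχ : χ ∈ B) (h0 : blockHeight p B (χ : G → ℂ) = 0) :
    ∃ d : ℂ, d ∈ rootRing p ((Nat.card G).factorization p) ∧ d ≠ 0 ∧
      (Nat.card D : ℂ) * secInner p (χ : G → ℂ) (χ : G → ℂ) u f = d * conj d := by
  classical
  haveI := Fintype.ofFinite (IrrCharacter (Cz u))
  haveI : Fintype {η // η ∈ f} := Fintype.ofFinite _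
  obtain ⟨φ, dd, -, hval, hsq⟩ := rank_one_data hM hind.1 hD hl
  set r := pRegularPart p φ with hr
  have hxC : u ∈ Cz u := (mem_Cz_iff u u).2 (Commute.refl u)
  set d : ℂ := ∑ η : IrrCharacter (Cz u),
    (if η ∈ f then centralRoot u hxC η * resMult (Cz u) χ η * (dd η : ℂ) else 0) with hd
  have hsc : ∀ η ∈ f, pRegularPart p (η : Cz u → ℂ) = (dd η : ℂ) • r := fun η hη => by
    funext x
    simp only [hr, pRegularPart_eq, Pi.smul_apply, smul_eq_mul]
    by_cases hx : IsPRegular p x
    · rw [hval η hη x hx]; ring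
    · simp [regInd_of_singular hx]
  have hsect : sect p u f (χ : G → ℂ) = d • r := by
    rw [sect_expand (mem_Cz_iff u) hxC f χ, hd, Finset.sum_smul]
    refine Finset.sum_congr rfl fun η _ => ?_
    by_cases hη : η ∈ f
    · rw [if_pos hη, if_pos hη, hsc η hη, smul_smul]
    · rw [if_neg hη, if_neg hη, zero_smul, zero_smul]
  have hq : (Nat.card D : ℂ) * classInner r r = 1 := by
    have h1 := blockRank_eq_sum_regInner hM hind.1
    rw [hl, Nat.cast_one, ← Finset.sum_subtype (p := (· ∈ f)) (Finset.univ.filter (· ∈ f))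
      (fun x => by simp) (fun η => regInner p η η)] at h1
    rw [h1, ← hsq, finsum_mem_eq_finite_toFinset_sum _ (Set.toFinite f), Nat.cast_sum,
      Finset.sum_mul]
    refine Finset.sum_congr (by ext; simp) fun η hη => ?_
    rw [regInner_self_right, hsc η (Finset.mem_filter.1 hη).2, classInner_smul_left,
      classInner_smul_right, Complex.conj_natCast]
    push_cast
    ring
  refine ⟨d, ?_, ?_, ?_⟩
  · rw [hd]
    refine sum_mem fun η _ => ?_
    split_ifs
    · refine mul_mem (mul_mem (mem_rootRing_of_pow_eq_one hM.1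
        (centralRoot_pow (mem_Cz_iff u) hxC η (orderOf_dvd_pow hM.1 hu))) ?_) (natCast_mem _ _)
      obtain ⟨m, hm⟩ := exists_resMult_nat (C := Cz u) χ η
      rw [hm]
      exact natCast_mem _ m
    · exact zero_mem _
  · intro h
    apply blockPart_shiftRes_one_ne_zero hM (mem_Cz_iff u) hu hind hχ h0
    rw [← pRegularPart_one hM.1 (blockPart f _)]
    show sect p u f (χ : G → ℂ) 1 = 0
    rw [hsect, h, zero_smul]
    rfl
  · rw [secInner, hsect, classInner_smul_left, classInner_smul_right]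
    linear_combination (d * conj d) * hq

/-- The decomposition at a central subsection. -/
theorem sect_central_apply (hM : IsPModular p M) (hmax : IsMaximalBrauerPair p M B P e) {v : G}
    (hv : v ∈ P) (hvZ : v ∈ Subgroup.center G) {f : Set (IrrCharacter (Cz v))}
    (hle : SubpairLE p M (Subgroup.zpowers v) f P e) {χ : IrrCharacter G} (hχ : χ ∈ B)
    {s : Cz v} (hs : IsPRegular p s) :
    sect p v f (χ : G → ℂ) s = (χ : G → ℂ) (v * (s : G)) := by
  classical
  haveI := Fact.mk hM.1
  haveI := Fintype.ofFinite (Bl M (Cz v))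
  have hu : ∃ k : ℕ, orderOf v = p ^ k := by
    obtain ⟨k, hk⟩ := IsPGroup.iff_orderOf.1 hmax.1.1.1 ⟨v, hv⟩
    exact ⟨k, by rw [← hk, Subgroup.orderOf_mk]⟩
  have hone : ∀ f' : Bl M (Cz v), IsBrauerPairOf p M B (Subgroup.zpowers v) f'.1 → f'.1 = f := by
    intro f' hf'
    obtain ⟨x, hx⟩ := exists_conj_subpairLE hM hmax hf'
    have h1 : SubpairLE p M (Subgroup.zpowers v) f'.1 P e := by
      have h2 : Relation.ReflTransGen (NormalSubpairRel p M)
        (conjPair x ⟨Subgroup.zpowers v, f'.1⟩) ⟨P, e⟩ := hx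
      rwa [conjPair_eq_of_mem_centralizer (Subgroup.mem_centralizer_iff.2 fun z hz => by
        obtain ⟨n, rfl⟩ := hz
        exact ((Subgroup.mem_center_iff.1 (zpow_mem hvZ n) x)).symm)] at h2
    exact subpairLE_unique hM hmax.1.1 h1 hle
  have hfB : IsPBlock M f := (isBrauerPairOf_of_subpairLE hM hmax hle).1.2
  rw [← sum_pieceVal (M := M) v (χ : G → ℂ) (v * (s : G)), finsum_eq_sum_of_fintype,
    Finset.sum_eq_single (⟨f, hfB⟩ : Bl M (Cz v))]
  · exact sect_apply_regular v f (irr_isClassFunction χ) hs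
  · intro f' _ hne
    rw [← sect_apply_regular v f'.1 (irr_isClassFunction χ) hs, sect_eq_zero_of_not_pair hM hu f'.2
      (fun h => hne (Subtype.ext (hone f' h))) hmax.1.2.1 hχ]
    rfl
  · simp

/-- **The norm at a central subsection.** -/
theorem secInner_central (hM : IsPModular p M) (hmax : IsMaximalBrauerPair p M B P e) {v : G}
    (hv : v ∈ P) (hvZ : v ∈ Subgroup.center G) {f : Set (IrrCharacter (Cz v))}
    (hle : SubpairLE p M (Subgroup.zpowers v) f P e) {χ : IrrCharacter G} (hχ : χ ∈ B) :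
    secInner p (χ : G → ℂ) (χ : G → ℂ) v f = regInner p χ χ := by
  classical
  haveI := Fact.mk hM.1
  have hall : ∀ g : G, g ∈ Cz v := fun g => (mem_Cz_iff v g).2
    (Subgroup.mem_center_iff.1 hvZ g).symm
  have hsect : ∀ s : Cz v, IsPRegular p s →
      sect p v f (χ : G → ℂ) s = (χ : G → ℂ) (v * (s : G)) := fun s hs =>
    sect_central_apply hM hmax hv hvZ hle hχ hs
  obtain ⟨ω, hω⟩ := exists_central_scalar χ
  have hωv := (hω v hvZ).1
  have hnorm : ω v * conj (ω v) = 1 := by
    have hit : ∀ n : ℕ, (χ : G → ℂ) (v ^ n) = ω v ^ n * (χ : G → ℂ) 1 := fun n => by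
      induction n with
      | zero => simp
      | succ n ih => rw [pow_succ' v, hωv, ih, pow_succ]; ring
    have h1 := hit (orderOf v)
    rw [pow_orderOf_eq_one] at h1
    have h2 : ω v ^ orderOf v = 1 :=
      (mul_eq_right₀ (IsIrrCharacter.apply_one_ne_zero χ.2)).1 h1.symm
    rw [Complex.mul_conj', Complex.norm_eq_one_of_pow_eq_one h2 (orderOf_pos v).ne']
    simp
  have hcard : Nat.card (Cz v) = Nat.card G := Nat.card_congr (Equiv.subtypeUnivEquiv hall)
  rw [secInner, regInner_self_right, classInner, classInner, hcard]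
  congr 1
  refine Fintype.sum_equiv (Equiv.subtypeUnivEquiv hall) _ _ fun s => ?_
  have hs' : IsPRegular p (s : G) ↔ IsPRegular p s := by rw [IsPRegular, IsPRegular, Subgroup.orderOf_coe]
  show sect p v f (χ : G → ℂ) s * conj (sect p v f (χ : G → ℂ) s) =
    pRegularPart p (χ : G → ℂ) (s : G) * conj (pRegularPart p (χ : G → ℂ) (s : G))
  by_cases hs : IsPRegular p s
  · simp only [pRegularPart_eq, regInd_of_regular (hs'.2 hs), one_mul, hsect s hs, hωv, map_mul]
    linear_combination ((χ : G → ℂ) (s : G) * conj ((χ : G → ℂ) (s : G))) * hnorm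
  · simp only [sect, pRegularPart_eq, regInd_of_singular hs, regInd_of_singular (hs'.not.2 hs),
      zero_mul]

/-- The inner product at the identity. -/
theorem secInner_one (hM : IsPModular p M) (hmax : IsMaximalBrauerPair p M B P e)
    {f : Set (IrrCharacter (Cz (1 : G)))} (hle : SubpairLE p M (Subgroup.zpowers (1 : G)) f P e)
    {χ ψ : IrrCharacter G} (hχ : χ ∈ B) (hψ : ψ ∈ B) :
    secInner p (χ : G → ℂ) (ψ : G → ℂ) 1 f = regInner p χ ψ := by
  have hall : ∀ g : G, g ∈ Cz (1 : G) := fun g => (mem_Cz_iff 1 g).2 (Commute.one_left g)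
  have key : ∀ φ : IrrCharacter G, φ ∈ B → ∀ s : Cz (1 : G),
      sect p 1 f (φ : G → ℂ) s = pRegularPart p (φ : G → ℂ) (s : G) := fun φ hφ s => by
    have hs' : IsPRegular p (s : G) ↔ IsPRegular p s := by
      rw [IsPRegular, IsPRegular, Subgroup.orderOf_coe]
    by_cases hs : IsPRegular p s
    · rw [sect_central_apply hM hmax (one_mem P) (one_mem _) hle hφ hs, one_mul, pRegularPart_eq]
      simp [regInd_of_regular (hs'.2 hs)]
    · simp [sect, pRegularPart_eq, regInd_of_singular hs, regInd_of_singular (hs'.not.2 hs)]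
  rw [secInner, regInner_self_right, classInner, classInner,
    Nat.card_congr (Equiv.subtypeUnivEquiv hall)]
  congr 1
  refine Fintype.sum_equiv (Equiv.subtypeUnivEquiv hall) _ _ fun s => ?_
  show _ = pRegularPart p (χ : G → ℂ) (s : G) * conj (pRegularPart p (ψ : G → ℂ) (s : G))
  rw [key χ hχ, key ψ hψ]

/-- At the identity the norm is a positive integer over the order of a defect group. -/
theorem exists_pos_regInner (hM : IsPModular p M) (hB : IsPBlock M B)
    (hD : IsDefectGroup p M B P) {χ : IrrCharacter G} (hχ : χ ∈ B) :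
    ∃ z : ℕ, 0 < z ∧ (Nat.card P : ℂ) * regInner p χ χ = (z : ℂ) := by
  have hdvd := dvd_trans (pow_dvd_pow _ (minExp_le (p := p) hχ)) (pow_nu_dvd_pairing hM χ χ)
  obtain ⟨c, hc⟩ := hdvd
  have hpos := pairing_self_pos hM.1 χ
  have hp0 : (0 : ℤ) < (p : ℤ) ^ minExp p B := pow_pos (by exact_mod_cast hM.1.pos) _
  have hc0 : 0 < c := pos_of_mul_pos_right (hc ▸ hpos) hp0.le
  refine ⟨c.natAbs, Int.natAbs_pos.2 hc0.ne', ?_⟩
  have he : ((c.natAbs : ℕ) : ℂ) = (c : ℂ) := by
    rw [← Int.cast_natCast, Int.natAbs_of_nonneg hc0.le]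
  rw [he, regInner, classInner_pRegularPart hM.1, hc, IsDefectGroup.card_eq hM hB hD]
  have hp : (p : ℂ) ≠ 0 := Nat.cast_ne_zero.2 hM.1.ne_zero
  have hda := blockDefect_add_minExp (p := p) hB
  push_cast
  rw [← hda, pow_add]
  field_simp

/-- **Nonzero algebraic integers whose square sum is at most their number have modulus one.** -/
theorem mul_conj_eq_one_of_sum_sq {n : ℕ} [NeZero n] {ι : Type*} [Fintype ι] (a : ι → ℂ)
    (hmem : ∀ i, a i ∈ cycField n) (hint : ∀ i, IsIntegral ℤ (a i)) (hne : ∀ i, a i ≠ 0) (N : ℕ)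
    (h : ∑ i, a i * conj (a i) = (N : ℂ)) (hN : N ≤ Fintype.card ι) :
    N = Fintype.card ι ∧ ∀ i, a i * conj (a i) = 1 := by
  classical
  have hNc : N = Fintype.card ι := le_antisymm hN (card_le_of_sum_sq a hmem hint hne N h)
  refine ⟨hNc, ?_⟩
  haveI := isCyclotomic_cycField n
  haveI : FiniteDimensional ℚ (cycField n) := IsCyclotomicExtension.finiteDimensional {n} ℚ _
  set Γ := cycField n ≃ₐ[ℚ] cycField n
  haveI : Fintype Γ := Fintype.ofFinite _
  let b : ι → cycField n := fun i => ⟨a i, hmem i⟩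
  choose hc hcσ using fun (σ : Γ) (i : ι) => exists_conj_mem_comm σ (hmem i)
  have hone : ∀ σ : Γ, ∑ i, ‖((σ (b i) : cycField n) : ℂ)‖ ^ 2 = (N : ℝ) := fun σ => by
    let c : ι → cycField n := fun i => b i * ⟨conj (a i), hc σ i⟩
    have h1 : ∑ i, c i = (N : cycField n) := Subtype.ext (by
      rw [AddSubmonoidClass.coe_finsetSum]
      simpa [c, b] using h)
    have h2 := congrArg (fun z : cycField n => ((σ z : cycField n) : ℂ)) h1
    simp only [map_sum, AddSubmonoidClass.coe_finsetSum, map_natCast, c, map_mul,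
      MulMemClass.coe_mul, hcσ] at h2
    have hN' : (((N : cycField n)) : ℂ) = (N : ℂ) := by simp
    rw [hN'] at h2
    have h3 : ((∑ i, ‖((σ (b i) : cycField n) : ℂ)‖ ^ 2 : ℝ) : ℂ) = ((N : ℝ) : ℂ) := by
      push_cast
      rw [← h2]
      exact Finset.sum_congr rfl fun i _ => (Complex.mul_conj' _).symm
    exact_mod_cast h3
  have hbne : ∀ i, b i ≠ 0 := fun i h => hne i (congrArg Subtype.val h)
  have htot : ∀ i, ∑ σ : Γ, ‖((σ (b i) : cycField n) : ℂ)‖ ^ 2 = (Fintype.card Γ : ℝ) := by
    intro i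
    refine ((Finset.sum_eq_sum_iff_of_le fun j _ => card_le_sum_gal_normSq (b j) (hint j) (hbne j)).1
      ?_ i (Finset.mem_univ i)).symm
    conv_rhs => rw [Finset.sum_comm]
    rw [Finset.sum_congr rfl fun σ _ => hone σ, Finset.sum_const, Finset.sum_const, Finset.card_univ,
      Finset.card_univ, nsmul_eq_mul, nsmul_eq_mul, hNc, mul_comm]
  intro i
  have hle : ∑ σ : Γ, (‖((σ (b i) : cycField n) : ℂ)‖ - 1) ^ 2 ≤ 0 := by
    have h1 := HeightCenter.card_le_sum_gal_norm (b i) (hint i) (hbne i)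
    simp only [sub_sq, one_pow, mul_one, Finset.sum_add_distrib, Finset.sum_sub_distrib,
      ← Finset.mul_sum, htot i, Finset.sum_const, Finset.card_univ, nsmul_eq_mul]
    linarith
  have h1 := (Finset.sum_eq_zero_iff_of_nonneg fun σ _ => sq_nonneg _).1
    (le_antisymm hle (Finset.sum_nonneg fun σ _ => sq_nonneg _)) AlgEquiv.refl (Finset.mem_univ _)
  have h2 : ‖a i‖ = 1 := by
    have := pow_eq_zero_iff (two_ne_zero) |>.1 h1
    linarith [show ‖(((AlgEquiv.refl : Γ) (b i) : cycField n) : ℂ)‖ = ‖a i‖ from rfl]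
  rw [Complex.mul_conj', h2]
  simp

end Cfsg.Agent.Lib.BrauerStar
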