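import Cfsg.Agent.Lib.BrauerStar.NilNorm
import Cfsg.Agent.Lib.BrauerPairs.Consequences
import Cfsg.Agent.Lib.BrauerPairs.DefectPairs
import Cfsg.Agent.Lib.Blocks.Defect

/-!
# A nilpotent block has one Brauer character

Stated relative to the local integrality of the star products with class functions of `P`.
-/

set_option autoImplicit false
set_option linter.unusedSectionVars false
set_option linter.style.haveILetI false

namespace Cfsg.Agent.Lib.BrauerStar

open Cfsg Cfsg.Agent.Lib.Blocks Cfsg.Agent.Lib.Characters Cfsg.Agent.Lib.BrauerPairs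
  Cfsg.Agent.Lib.BlockHeights
open scoped ComplexConjugate

universe u

variable {G : Type u} [Group G] [Fintype G] {M : Ideal AlgInt} [hMp : M.IsPrime] {p : ℕ}
  {B : Set (IrrCharacter G)} {P : Subgroup G}
  {e : Set (IrrCharacter (Subgroup.centralizer (P : Set G)))} {F : FusionSystem P}

noncomputable local instance fintypeSubgroupAux'' (H : Subgroup G) : Fintype H := Fintype.ofFinite H

local notation3 "Cz" u:max => Subgroup.centralizer (SetLike.coe (Subgroup.zpowers u))

/-- The hypothesis of local integrality for the characters of `P`. -/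
abbrev ClassIntegral (p : ℕ) (M : Ideal AlgInt)
    (e : Set (IrrCharacter (Subgroup.centralizer (P : Set G)))) : Prop :=
  ∀ (φ : IrrCharacter P) (χ θ : IrrCharacter G),
    MemLocalRing M (classInner (starFun p M (clsWeight p M e (φ : P → ℂ)) (χ : G → ℂ)) (θ : G → ℂ))

/-- The blocks below `(P, e)` at elements outside the centre have rank one. -/
abbrev LocalRankOne (p : ℕ) (M : Ideal AlgInt)
    (e : Set (IrrCharacter (Subgroup.centralizer (P : Set G)))) : Prop :=
  ∀ v ∈ P, v ∉ Subgroup.center G → ∀ f : Set (IrrCharacter (Cz v)),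
    SubpairLE p M (Subgroup.zpowers v) f P e → blockRank p f = 1

/-- A star product on the regular elements. -/
theorem starFun_cls_regular (hM : IsPModular p M) (hmax : IsMaximalBrauerPair p M B P e)
    (hF : IsBlockFusionSystemOn p M B P e F) (hin : IsInnerFusion F) {φ : P → ℂ}
    (hφ : IsClassFunction P φ) {χ : IrrCharacter G} (hχ : χ ∈ B) {g : G} (hg : ¬ p ∣ orderOf g) :
    starFun p M (clsWeight p M e φ) (χ : G → ℂ) g = φ 1 * (χ : G → ℂ) g := by
  have he : pElt p g = 1 := pElt_eq hM.1 (isPPart_one_of_not_dvd hg)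
  obtain ⟨hk, s, hs, hgs⟩ := exists_eq_mul (p := p) hM.1 g
  conv_rhs => rw [← sum_pieceVal (M := M) (pElt p g) (χ : G → ℂ) g, mul_finsum' _ _ (Set.toFinite _)]
  show (∑ᶠ f : Bl M (Cz (pElt p g)),
    clsWeight p M e φ (pElt p g) f.1 * pieceVal (pElt p g) f.1 (χ : G → ℂ) g) = _
  refine finsum_congr fun f => ?_
  by_cases hf : IsBrauerPairOf p M B (Subgroup.zpowers (pElt p g)) f.1
  · obtain ⟨x, hx⟩ := exists_conj_subpairLE hM hmax hf
    rw [clsWeight_eq hF hin hφ hx]
    exact congrArg (· * _) (congrArg φ (Subtype.ext (by simp [he])))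
  · have h0 : pieceVal (pElt p g) f.1 (χ : G → ℂ) (pElt p g * (s : G)) = 0 := by
      rw [← sect_apply_regular _ f.1 (irr_isClassFunction χ) hs,
        sect_eq_zero_of_not_pair hM hk f.2 hf hmax.1.2.1 hχ]
      rfl
    rw [← hgs] at h0
    rw [h0, mul_zero, mul_zero]

theorem exists_pairFun (hM : IsPModular p M) (hmax : IsMaximalBrauerPair p M B P e) :
    ∃ fv : ∀ v : P, Set (IrrCharacter (Cz (v : G))),
      (∀ v : P, SubpairLE p M (Subgroup.zpowers (v : G)) (fv v) P e) ∧
      ∀ (v : P) f, SubpairLE p M (Subgroup.zpowers (v : G)) f P e → f = fv v := by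
  choose fv h1 h2 using fun v : P => exists_subpairLE hM hmax.1.1 (Subgroup.zpowers_le.2 v.2)
  exact ⟨fv, h2, fun v f hf => subpairLE_unique hM hmax.1.1 hf (h2 v)⟩

theorem secInner_eq_zero (hM : IsPModular p M) (hB : IsPBlock M B) {u : G}
    (hu : ∃ k : ℕ, orderOf u = p ^ k) {f : Set (IrrCharacter (Cz u))} (hf : IsPBlock M f)
    (hnot : ¬ IsBrauerPairOf p M B (Subgroup.zpowers u) f) {χ : IrrCharacter G} (hχ : χ ∈ B)
    (ψ : G → ℂ) : secInner p (χ : G → ℂ) ψ u f = 0 := by
  rw [secInner, sect_eq_zero_of_not_pair hM hu hf hnot hB hχ]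
  simp [classInner]

/-- **The norm of a character of height zero at every subsection.** -/
theorem norms_eq_one (hM : IsPModular p M) (hmax : IsMaximalBrauerPair p M B P e)
    (hF : IsBlockFusionSystemOn p M B P e F) (hin : IsInnerFusion F) (hnil : IsNilpotentBlock p M B)
    (hloc : LocalRankOne p M e) {χ : IrrCharacter G} (hχ : χ ∈ B)
    (h0 : blockHeight p B (χ : G → ℂ) = 0) (v : P) (f : Set (IrrCharacter (Cz (v : G))))
    (hle : SubpairLE p M (Subgroup.zpowers (v : G)) f P e) :
    (centCard v : ℂ) * secInner p (χ : G → ℂ) (χ : G → ℂ) (v : G) f = 1 := by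
  classical
  haveI := Fact.mk hM.1
  obtain ⟨fv, hfv, huniq⟩ := exists_pairFun hM hmax
  rw [huniq v f hle]
  set a : P → ℂ := fun v => (centCard v : ℂ) * secInner p (χ : G → ℂ) (χ : G → ℂ) (v : G) (fv v)
  show a v = 1
  have hpe : ∀ v : P, ∃ k : ℕ, orderOf (v : G) = p ^ k := fun v => by
    obtain ⟨k, hk⟩ := IsPGroup.iff_orderOf.1 hmax.1.1.1 v
    exact ⟨k, by rwa [Subgroup.orderOf_coe]⟩
  -- the total
  have htot : ∑ v, a v = (Nat.card P : ℂ) := by
    obtain ⟨X, hX, hXrep⟩ := HeightCenter.exists_pElement_reps (G := G) p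
    have h1 : ConjInv M (fun (_ : G) _ => (1 : ℂ)) := fun _ _ _ _ _ _ => rfl
    have hid : starFun p M (fun (_ : G) _ => (1 : ℂ)) (χ : G → ℂ) = (χ : G → ℂ) :=
      funext fun g => starFun_apply_eq_self hM hmax.1.2.1 _ hχ g fun _ _ => rfl
    have h2 := classInner_starFun hM X hX hXrep h1 (irr_isClassFunction χ) (irr_isClassFunction χ)
    rw [hid, IsIrrCharacter.classInner_self χ.2] at h2
    simp only [one_mul] at h2
    have h3 := sum_pairs_eq hM hmax hF hin X hXrep (w := secInner p (χ : G → ℂ) (χ : G → ℂ))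
      (conjInv_secInner (irr_isClassFunction χ) (irr_isClassFunction χ))
      (fun u hu f hf hnot => secInner_eq_zero hM hmax.1.2.1 (hX u hu) hf hnot hχ _)
      (c := fun v => secInner p (χ : G → ℂ) (χ : G → ℂ) (v : G) (fv v))
      (fun v f hf => by rw [huniq v f hf])
    rw [show (∑ u ∈ X, ∑ᶠ f : Bl M (Cz u), secInner p (χ : G → ℂ) (χ : G → ℂ) u f.1) = 1 from
      h2.symm] at h3
    rw [eq_comm, inv_mul_eq_one₀ (Nat.cast_ne_zero.2 Nat.card_pos.ne')] at h3
    exact h3.symm
  -- the central elements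
  obtain ⟨z, hz, hzeq⟩ := exists_pos_regInner (P := P) hM hmax.1.2.1
    (isDefectGroup_of_isMaximal hM hmax) hχ
  have hcen : ∀ v : P, (v : G) ∈ Subgroup.center G → a v = (z : ℂ) := fun v hv => by
    rw [← hzeq]
    show _ * _ = _
    rw [secInner_central hM hmax v.2 hv (hfv v) hχ]
    congr 2
    refine Nat.card_congr (Equiv.subtypeUnivEquiv fun y => ?_)
    exact Subgroup.mem_centralizer_singleton_iff.2 (Subtype.ext (Subgroup.mem_center_iff.1 hv y))
  -- the other elements
  let T := {v : P // (v : G) ∉ Subgroup.center G}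
  have hd : ∀ v : T, ∃ d : ℂ, d ∈ rootRing p ((Nat.card G).factorization p) ∧ d ≠ 0 ∧
      a v.1 = d * conj d := by
    rintro ⟨v, hv⟩
    have hpair : IsBrauerPairOf p M B (Subgroup.zpowers (v : G)) (fv v) :=
      isBrauerPairOf_of_subpairLE hM hmax (hfv v)
    obtain ⟨d, hd1, hd2, hd3⟩ := exists_norm_rank_one hM (hpe v)
      (isInducedBlock_of_isBrauerPairOf_zpowers hM hpair)
      ((nilpotent_pairs hM hmax hnil hpair).2 (hfv v)) (hloc v v.2 hv _ (hfv v)) hχ h0
    refine ⟨d, hd1, hd2, ?_⟩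
    rw [← hd3, card_inf_Cz]
  choose d hd1 hd2 hd3 using hd
  set S := Finset.univ.filter fun v : P => (v : G) ∈ Subgroup.center G with hS
  have hsplit : ((S.card * z : ℕ) : ℂ) + ∑ v : T, d v * conj (d v) = (Nat.card P : ℂ) := by
    rw [← htot, ← Finset.sum_filter_add_sum_filter_not Finset.univ
      (fun v : P => (v : G) ∈ Subgroup.center G) a, Finset.sum_congr rfl fun v hv => hcen v
        (Finset.mem_filter.1 hv).2, Finset.sum_const, nsmul_eq_mul, Nat.cast_mul]
    congr 1
    rw [Finset.sum_subtype (p := fun v : P => (v : G) ∉ Subgroup.center G) _ (fun v => by simp) a]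
    exact Finset.sum_congr rfl fun v _ => (hd3 v).symm
  have hN : S.card * z ≤ Nat.card P := by
    have h1 : ((S.card * z : ℕ) : ℝ) + ∑ v : T, ‖d v‖ ^ 2 = (Nat.card P : ℝ) := by
      have h2 : (((S.card * z : ℕ) : ℝ) : ℂ) + ((∑ v : T, ‖d v‖ ^ 2 : ℝ) : ℂ) =
          (((Nat.card P : ℕ) : ℝ) : ℂ) := by
        push_cast
        rw [← Nat.cast_mul, ← hsplit]
        congr 1
        exact Finset.sum_congr rfl fun v _ => (Complex.mul_conj' _).symm
      exact_mod_cast h2
    have h3 : (0 : ℝ) ≤ ∑ v : T, ‖d v‖ ^ 2 := Finset.sum_nonneg fun v _ => sq_nonneg _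
    exact_mod_cast (by linarith : ((S.card * z : ℕ) : ℝ) ≤ (Nat.card P : ℝ))
  have hcardP : Nat.card P = S.card + Fintype.card T := by
    rw [Nat.card_eq_fintype_card, hS, show Fintype.card T = (Finset.univ.filter fun v : P => ¬ (v : G) ∈ Subgroup.center G).card from Fintype.card_subtype _, ← Finset.card_univ]
    exact (Finset.card_filter_add_card_filter_not (s := Finset.univ) _).symm
  have hS1 : 1 ≤ S.card := Finset.card_pos.2 ⟨1, Finset.mem_filter.2 ⟨Finset.mem_univ _, one_mem _⟩⟩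
  have hsum : ∑ v : T, d v * conj (d v) = ((Nat.card P - S.card * z : ℕ) : ℂ) := by
    rw [Nat.cast_sub hN]
    linear_combination hsplit
  haveI : NeZero (p ^ ((Nat.card G).factorization p + 1)) := ⟨pow_ne_zero _ hM.1.ne_zero⟩
  obtain ⟨hNc, hone⟩ := mul_conj_eq_one_of_sum_sq (n := p ^ ((Nat.card G).factorization p + 1)) d
    (fun v => mem_cycField_of_mem_rootRing hM.1 (hd1 v))
    (fun v => isIntegral_of_mem_rootRing hM.1 (hd1 v)) hd2 _ hsum (by
      have := Nat.le_mul_of_pos_right S.card hz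
      omega)
  have hz1 : z = 1 := by
    have h1 : S.card * z = S.card * 1 := by omega
    exact Nat.eq_of_mul_eq_mul_left hS1 h1
  by_cases hv : (v : G) ∈ Subgroup.center G
  · rw [hcen v hv, hz1, Nat.cast_one]
  · rw [hd3 ⟨v, hv⟩, hone]

theorem irr_apply_mem_rootRing (hM : IsPModular p M) (hP : IsPGroup p P) (φ : IrrCharacter P)
    (v : P) : (φ : P → ℂ) v ∈ rootRing p ((Nat.card G).factorization p) := by
  haveI := Fact.mk hM.1
  obtain ⟨k, hk⟩ := IsPGroup.iff_orderOf.1 hP v
  obtain ⟨ι, hι, μ, hμ, hval⟩ := exists_eigen_sum (irr_isCharacter φ) v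
  rw [← pow_one v, hval 1]
  refine sum_mem fun i _ => mem_rootRing_of_pow_eq_one hM.1 ?_
  rw [pow_one]
  have h1 : p ^ k ∣ p ^ ((Nat.card G).factorization p + 1) := by
    refine pow_dvd_pow p (le_trans ?_ (Nat.le_succ _))
    refine (hM.1.pow_dvd_iff_le_factorization Nat.card_pos.ne').1 ?_
    rw [← hk, ← Subgroup.orderOf_coe]
    exact orderOf_dvd_natCard _
  obtain ⟨c, hc⟩ := h1
  rw [hc, pow_mul, ← hk, hμ i, one_pow]

/-- Inner products with a star product as a sum over the defect group. -/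
theorem classInner_starFun_cls (hM : IsPModular p M) (hmax : IsMaximalBrauerPair p M B P e)
    (hF : IsBlockFusionSystemOn p M B P e F) (hin : IsInnerFusion F) {φ : P → ℂ}
    (hφ : IsClassFunction P φ) {χ : IrrCharacter G} (hχ : χ ∈ B) {ψ : G → ℂ}
    (hψ : IsClassFunction G ψ) (fv : ∀ v : P, Set (IrrCharacter (Cz (v : G))))
    (huniq : ∀ (v : P) f, SubpairLE p M (Subgroup.zpowers (v : G)) f P e → f = fv v) :
    classInner (starFun p M (clsWeight p M e φ) (χ : G → ℂ)) ψ = (Nat.card P : ℂ)⁻¹ *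
      ∑ v : P, (centCard v : ℂ) * (φ v * secInner p (χ : G → ℂ) ψ (v : G) (fv v)) := by
  obtain ⟨X, hX, hXrep⟩ := HeightCenter.exists_pElement_reps (G := G) p
  have hη : ConjInv M (clsWeight p M e φ) := fun u a f f' _ h => clsWeight_conj hF hin hφ u a f f' h
  rw [classInner_starFun hM X hX hXrep hη (irr_isClassFunction χ) hψ]
  refine sum_pairs_eq hM hmax hF hin X hXrep
    (w := fun u f => clsWeight p M e φ u f * secInner p (χ : G → ℂ) ψ u f) ?_ ?_ ?_
  · intro u a f f' hf h
    simp only []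
    rw [hη u a f f' hf h, conjInv_secInner (irr_isClassFunction χ) hψ u a f f' hf h]
  · intro u _ f _ hnot
    rw [clsWeight_eq_zero_of_not_pair hM hmax hnot, zero_mul]
  · intro v f hf
    rw [huniq v f hf]
    rw [huniq v f hf] at hf
    rw [clsWeight_eq hF hin hφ (subpairLE_conj_one hf)]
    exact congrArg (· * _) (congrArg φ (Subtype.ext (by simp)))

/-- **The star product with a character of `P` is a character of the block.** -/
theorem exists_irr_starFun_cls (hM : IsPModular p M) (hmax : IsMaximalBrauerPair p M B P e)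
    (hF : IsBlockFusionSystemOn p M B P e F) (hin : IsInnerFusion F) (hint : ClassIntegral p M e)
    {χ : IrrCharacter G} (hχ : χ ∈ B)
    (hN : ∀ (v : P) f, SubpairLE p M (Subgroup.zpowers (v : G)) f P e →
      (centCard v : ℂ) * secInner p (χ : G → ℂ) (χ : G → ℂ) (v : G) f = 1)
    (φ : IrrCharacter P) :
    ∃ ψ : IrrCharacter G, ψ ∈ B ∧
      (ψ : G → ℂ) = starFun p M (clsWeight p M e (φ : P → ℂ)) (χ : G → ℂ) := by
  classical
  haveI := Fintype.ofFinite (IrrCharacter G)
  obtain ⟨fv, hfv, huniq⟩ := exists_pairFun hM hmax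
  set a := (Nat.card G).factorization p with ha
  obtain ⟨X, hX, hXrep⟩ := HeightCenter.exists_pElement_reps (G := G) p
  set η := clsWeight p M e (φ : P → ℂ) with hηdef
  have hφc := irr_isClassFunction φ
  have hη : ConjInv M η := fun u a f f' _ h => clsWeight_conj hF hin hφc u a f f' h
  set Φ := starFun p M η (χ : G → ℂ) with hΦdef
  have hΦ : IsClassFunction G Φ := isClassFunction_starFun hM.1 hη (irr_isClassFunction χ)
  set x : IrrCharacter G → ℂ := fun ψ => classInner Φ (ψ : G → ℂ) with hx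
  have hmem : ∀ (u : G) f, η u f ∈ rootRing p a := fun u f => by
    by_cases h : ∃ y : G, SubpairLE p M ((Subgroup.zpowers u).map (MulAut.conj y).toMonoidHom)
        (conjBlock (Subgroup.zpowers u) y f) P e
    · obtain ⟨y, hy⟩ := h
      rw [hηdef, clsWeight_eq hF hin hφc hy]
      exact irr_apply_mem_rootRing hM hmax.1.1.1 φ _
    · rw [hηdef, clsWeight_eq_zero h]; exact zero_mem _
  have hxmem : ∀ ψ, x ψ ∈ rootRing p a := fun ψ => by
    refine mem_rootRing_of_pow_mul hM a ?_ (hint φ χ ψ)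
    rw [hx]
    simp only [hΦdef]
    rw [classInner_starFun hM X hX hXrep hη (irr_isClassFunction χ) (irr_isClassFunction ψ),
      Finset.mul_sum]
    refine sum_mem fun u hu => ?_
    haveI := Fintype.ofFinite (Bl M (Cz u))
    rw [finsum_eq_sum_of_fintype, Finset.mul_sum]
    refine sum_mem fun f _ => ?_
    rw [mul_left_comm]
    exact mul_mem (hmem u f.1) (pow_mul_classInner_sect_mem hM (hX u hu) f.2 χ ψ)
  have hout : ∀ ψ, ψ ∉ B → x ψ = 0 := fun ψ hψ => by
    rw [hx]
    simp only [hΦdef]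
    rw [hηdef, classInner_starFun_cls hM hmax hF hin hφc hχ (irr_isClassFunction ψ) fv huniq]
    refine mul_eq_zero_of_right _ (Finset.sum_eq_zero fun v _ => ?_)
    have hpair := isBrauerPairOf_of_subpairLE hM hmax (hfv v)
    have hpv : ∃ k : ℕ, orderOf (v : G) = p ^ k := by
      haveI := Fact.mk hM.1
      obtain ⟨k, hk⟩ := IsPGroup.iff_orderOf.1 hmax.1.1.1 v
      exact ⟨k, by rwa [Subgroup.orderOf_coe]⟩
    rw [secInner, sect_eq_zero_of_pair hM hpv hpair hψ]
    simp [classInner]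
  have hnorm : classInner Φ Φ = 1 := by
    nth_rewrite 1 [hΦdef]
    rw [hηdef, classInner_starFun_cls hM hmax hF hin hφc hχ hΦ fv huniq,
      ← IsIrrCharacter.classInner_self φ.2, classInner]
    congr 1
    refine Finset.sum_congr rfl fun v _ => ?_
    have hpair := isBrauerPairOf_of_subpairLE hM hmax (hfv v)
    have hpv : ∃ k : ℕ, orderOf (v : G) = p ^ k := by
      haveI := Fact.mk hM.1
      obtain ⟨k, hk⟩ := IsPGroup.iff_orderOf.1 hmax.1.1.1 v
      exact ⟨k, by rwa [Subgroup.orderOf_coe]⟩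
    have hwv : clsWeight p M e (φ : P → ℂ) (v : G) (fv v) = (φ : P → ℂ) v := by
      rw [clsWeight_eq hF hin hφc (subpairLE_conj_one (hfv v))]
      exact congrArg (φ : P → ℂ) (Subtype.ext (by simp))
    have h1 := hN v (fv v) (hfv v)
    rw [secInner] at h1 ⊢
    rw [hΦdef, sect_starFun hM hη (irr_isClassFunction χ) hpv hpair.1.2, hηdef, hwv,
      classInner_smul_right]
    linear_combination ((φ : P → ℂ) v * conj ((φ : P → ℂ) v)) * h1
  rw [classInner_eq_sum_irr hΦ hΦ] at hnorm
  haveI : NeZero (p ^ (a + 1)) := ⟨pow_ne_zero _ hM.1.ne_zero⟩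
  have hsub : ∑ ψ : {ψ // x ψ ≠ 0}, x ψ.1 * conj (x ψ.1) = ((1 : ℕ) : ℂ) := by
    rw [Nat.cast_one, ← hnorm, ← Finset.sum_subtype (Finset.univ.filter fun ψ => x ψ ≠ 0)
      (fun ψ => by simp) fun ψ => x ψ * conj (x ψ)]
    refine Finset.sum_filter_of_ne fun ψ _ h h0 => h ?_
    rw [h0, zero_mul]
  have hle := card_le_of_sum_sq (n := p ^ (a + 1)) (fun ψ : {ψ // x ψ ≠ 0} => x ψ.1)
    (fun ψ => mem_cycField_of_mem_rootRing hM.1 (hxmem _))
    (fun ψ => isIntegral_of_mem_rootRing hM.1 (hxmem _)) (fun ψ => ψ.2) 1 hsub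
  haveI : Subsingleton {ψ // x ψ ≠ 0} := Fintype.card_le_one_iff_subsingleton.1 hle
  obtain ⟨⟨ψ, hψ0⟩⟩ : Nonempty {ψ // x ψ ≠ 0} := by
    by_contra hne
    rw [not_nonempty_iff] at hne
    simp at hsub
  rw [Fintype.sum_subsingleton _ (⟨ψ, hψ0⟩ : {ψ // x ψ ≠ 0}), Nat.cast_one] at hsub
  have hΦψ : Φ = x ψ • (ψ : G → ℂ) := by
    rw [eq_sum_classInner hΦ]
    refine Finset.sum_eq_single ψ (fun χ' _ hne => ?_) (by simp)
    have : x χ' = 0 := by
      by_contra h
      exact hne (congrArg Subtype.val (Subsingleton.elim (⟨χ', h⟩ : {ψ // x ψ ≠ 0}) ⟨ψ, hψ0⟩))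
    show x χ' • (χ' : G → ℂ) = 0
    rw [this, zero_smul]
  have hdeg : Φ 1 = (φ : P → ℂ) 1 * (χ : G → ℂ) 1 := starFun_cls_regular hM hmax hF hin hφc hχ
    (by rw [orderOf_one]; exact fun h => hM.1.ne_one (Nat.dvd_one.1 h))
  rw [hΦψ, Pi.smul_apply, smul_eq_mul, irr_apply_one, irr_apply_one, irr_apply_one] at hdeg
  have hx1 : x ψ = 1 := by
    set r : ℝ := (charDegree (φ : P → ℂ) : ℝ) * (charDegree (χ : G → ℂ) : ℝ) /
      (charDegree (ψ : G → ℂ) : ℝ) with hr
    have hre : x ψ = (r : ℂ) := by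
      rw [hr]
      push_cast
      rw [eq_div_iff (Nat.cast_ne_zero.2 (charDegree_irr_pos ψ).ne')]
      exact hdeg
    have hr0 : 0 ≤ r := by positivity
    rw [hre, Complex.conj_ofReal, ← Complex.ofReal_mul, Complex.ofReal_eq_one] at hsub
    have hr1 : r = 1 := by nlinarith
    rw [hre, hr1, Complex.ofReal_one]
  refine ⟨ψ, ?_, by rw [hΦψ, hx1, one_smul]⟩
  by_contra h
  exact hψ0 (hout ψ h)

/-- **A nilpotent block with integral star products is proportional on the regular elements.** -/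
theorem nilpotent_regular_proportional (hM : IsPModular p M)
    (hmax : IsMaximalBrauerPair p M B P e) (hnil : IsNilpotentBlock p M B)
    (hint : ClassIntegral p M e) (hloc : LocalRankOne p M e) :
    ∃ χ₀ ∈ B, ∀ χ ∈ B, ∃ d : ℕ, ∀ x : G,
      pRegularPart p (χ : G → ℂ) x = (d : ℂ) * pRegularPart p (χ₀ : G → ℂ) x := by
  classical
  haveI := Fact.mk hM.1
  have hF := isBlockFusionSystemOn_blockFusion hM hmax
  have hin : IsInnerFusion (blockFusion hM hmax) := (isNilpotentBlock_iff hM hF).1 hnil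
  have hB := hmax.1.2.1
  obtain ⟨χ₀, hχ₀, hmin⟩ := exists_nu_eq_minExp (p := p) (IsPBlock.nonempty hB)
  have h0 : blockHeight p B (χ₀ : G → ℂ) = 0 := by
    have := minExp_add_blockHeight (p := p) hχ₀
    omega
  have hN := norms_eq_one hM hmax hF hin hnil hloc hχ₀ h0
  obtain ⟨fv, hfv, huniq⟩ := exists_pairFun hM hmax
  haveI := Fintype.ofFinite (IrrCharacter P)
  refine ⟨χ₀, hχ₀, fun χ hχ => ?_⟩
  obtain ⟨φ, hφ⟩ : ∃ φ : IrrCharacter P,
      (χ : G → ℂ) = starFun p M (clsWeight p M e (φ : P → ℂ)) (χ₀ : G → ℂ) := by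
    by_contra hcon
    simp only [not_exists] at hcon
    set c : P → ℂ := fun v =>
      (centCard v : ℂ) * secInner p (χ₀ : G → ℂ) (χ : G → ℂ) (v : G) (fv v) with hc
    have horth : ∀ φ : IrrCharacter P, ∑ v, (φ : P → ℂ) v * c v = 0 := fun φ => by
      obtain ⟨ψ, hψ, heq⟩ := exists_irr_starFun_cls hM hmax hF hin hint hχ₀ hN φ
      have h1 := classInner_starFun_cls hM hmax hF hin (irr_isClassFunction φ) hχ₀
        (irr_isClassFunction χ) fv huniq
      rw [← heq, IsIrrCharacter.classInner_ne ψ.2 χ.2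
        (fun h => hcon φ (h.symm.trans heq))] at h1
      refine (mul_eq_zero.1 (Eq.trans ?_ h1.symm)).resolve_left
        (inv_ne_zero (Nat.cast_ne_zero.2 (Nat.card_pos (α := P)).ne'))
      congr 1
      exact Finset.sum_congr rfl fun v _ => by rw [hc]; ring
    -- the regular character of `P` isolates the identity
    have hδ : IsClassFunction P (fun v : P => if v = 1 then (1 : ℂ) else 0) := fun v w => by
      simp only [conj_eq_one_iff]
    have hc1 : c 1 = 0 := by
      have h2 : ∑ v : P, (if v = 1 then (1 : ℂ) else 0) * c v = 0 := by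
        calc ∑ v : P, (if v = 1 then (1 : ℂ) else 0) * c v
            = ∑ v : P, ∑ φ : IrrCharacter P, classInner (fun v : P => if v = 1 then (1 : ℂ) else 0)
                (φ : P → ℂ) * ((φ : P → ℂ) v * c v) := Finset.sum_congr rfl fun v _ => by
              have h3 := congrFun (eq_sum_classInner hδ) v
              rw [Finset.sum_apply] at h3
              rw [h3, Finset.sum_mul]
              exact Finset.sum_congr rfl fun φ _ => by rw [Pi.smul_apply, smul_eq_mul, mul_assoc]
          _ = 0 := by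
            rw [Finset.sum_comm]
            exact Finset.sum_eq_zero fun φ _ => by rw [← Finset.mul_sum, horth φ, mul_zero]
      simpa using h2
    have hsec : secInner p (χ₀ : G → ℂ) (χ : G → ℂ) 1 (fv 1) = regInner p χ₀ χ :=
      secInner_one hM hmax (hfv 1) hχ₀ hχ
    rw [hc] at hc1
    have hzero : regInner p χ₀ χ = 0 := by
      rw [← hsec]
      exact (mul_eq_zero.1 hc1).resolve_left (Nat.cast_ne_zero.2 (Nat.card_pos).ne')
    rw [regInner, classInner_pRegularPart hM.1, div_eq_zero_iff] at hzero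
    have hpair := hzero.resolve_right (pow_ne_zero _ (Nat.cast_ne_zero.2 hM.1.ne_zero))
    exact pairing_unit_of_minimal hM hB hχ₀ hmin hχ (by
      rw [hpair, zero_div]
      exact memLocalIdeal_zero)
  refine ⟨charDegree (φ : P → ℂ), fun x => ?_⟩
  simp only [pRegularPart_eq]
  by_cases hx : IsPRegular p x
  · simp only [regInd_of_regular hx, one_mul]
    rw [← irr_apply_one, hφ]
    exact starFun_cls_regular hM hmax hF hin (irr_isClassFunction φ) hχ₀ hx
  · simp [regInd_of_singular hx]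

/-- A proportional block has rank one. -/
theorem blockRank_eq_one_of_proportional (hM : IsPModular p M) (hB : IsPBlock M B)
    (h : ∃ χ₀ ∈ B, ∀ χ ∈ B, ∃ d : ℕ, ∀ x : G,
      pRegularPart p (χ : G → ℂ) x = (d : ℂ) * pRegularPart p (χ₀ : G → ℂ) x) :
    blockRank p B = 1 := by
  obtain ⟨χ₀, hχ₀, h⟩ := h
  refine le_antisymm ?_ (blockRank_pos hM hB)
  rw [blockRank]
  refine le_trans (Submodule.finrank_mono (t := Submodule.span ℂ {pRegularPart p (χ₀ : G → ℂ)})
    (Submodule.span_le.2 ?_)) ((finrank_span_le_card _).trans (by simp))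
  rintro _ ⟨χ, hχ, rfl⟩
  obtain ⟨d, hd⟩ := h χ hχ
  exact Submodule.mem_span_singleton.2 ⟨(d : ℂ), funext fun x => (hd x).symm⟩

end Cfsg.Agent.Lib.BrauerStar
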