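import Cfsg.Agent.Lib.BrauerStar.Integral
import Cfsg.Agent.Lib.BlockHeights.Heights
import Cfsg.Agent.Lib.BrauerPairs.Maximal
import Mathlib.RingTheory.Nilpotent.Lemmas
import Mathlib.LinearAlgebra.Matrix.Charpoly.LinearMap

/-!
# A character of height zero sees every pair below a maximal one
-/

set_option autoImplicit false
set_option linter.unusedSectionVars false
set_option linter.style.haveILetI false

namespace Cfsg.Agent.Lib.BrauerStar

open Cfsg Cfsg.Agent.Lib.Blocks Cfsg.Agent.Lib.Characters Cfsg.Agent.Lib.BrauerPairs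
  Cfsg.Agent.Lib.BlockHeights

universe u

variable {G : Type u} [Group G] [Fintype G] {M : Ideal AlgInt} [hMp : M.IsPrime] {p : ℕ}

/-- The trace of a unipotent times a commuting matrix is congruent to the trace of the matrix. -/
theorem IsLocTrace.congr_one (hM : IsPModular p M) {U : Subgroup G} (hU : IsPGroup p U)
    {f : G → ℂ} (h : IsLocTrace M U f) {w : G} (hw : w ∈ U) :
    MemLocalIdeal M (f w - f 1) := by
  classical
  haveI := Fact.mk hM.1
  haveI := resField_charP (M := M) hM
  obtain ⟨n, T, C, h1, h2⟩ := h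
  set v : U := ⟨w, hw⟩
  obtain ⟨k, hk⟩ := hU v
  rw [show w = (v : G) from rfl, show (1 : G) = ((1 : U) : G) from rfl, h2, h2, map_one, one_mul,
    ← AddSubgroupClass.coe_sub, ← red_eq_zero_iff, ← Matrix.trace_sub]
  rw [show (red M) (T v * C - C).trace = ((red M).mapMatrix (T v * C - C)).trace from
    AddMonoidHom.map_trace (red M).toAddMonoidHom _, map_sub, map_mul,
    ← sub_one_mul]
  set X := (red M).mapMatrix (T v)
  set Y := (red M).mapMatrix C
  have hXY : Commute (X - 1) Y :=
    (((h1 v).map (red M).mapMatrix).sub_left (Commute.one_left Y))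
  have hX : IsNilpotent (X - 1) := by
    rcases isEmpty_or_nonempty (Fin n) with hn | hn
    · exact ⟨1, Subsingleton.elim _ _⟩
    haveI : CharP (Matrix (Fin n) (Fin n) (ResField M)) p :=
      charP_of_injective_algebraMap
        (algebraMap (ResField M) (Matrix (Fin n) (Fin n) (ResField M))).injective p
    refine ⟨p ^ k, ?_⟩
    rw [sub_pow_char_pow_of_commute p k (Commute.one_right X), one_pow, ← map_pow, ← map_pow, hk,
      map_one, map_one, sub_self]
  exact (Matrix.isNilpotent_trace_of_isNilpotent (hXY.isNilpotent_mul_right hX)).eq_zero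

/-- The block idempotent in the group ring. -/
noncomputable def eBlock (hM : IsPModular p M) {B : Set (IrrCharacter G)} (hB : IsPBlock M B) :
    RG M G :=
  ofFun (blockCoeff B) (isRCentral_blockCoeff hM hB).2

variable {B : Set (IrrCharacter G)}

theorem coef_eBlock (hM : IsPModular p M) (hB : IsPBlock M B) :
    coef (eBlock hM hB) = blockCoeff B := coef_ofFun _ _

theorem eBlock_mul_comm (hM : IsPModular p M) (hB : IsPBlock M B) (x : RG M G) :
    eBlock hM hB * x = x * eBlock hM hB :=
  coef_injective (by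
    rw [coef_mul, coef_mul, coef_eBlock, conv_comm _ (isClassFunction_blockCoeff B)])

theorem eBlock_idem (hM : IsPModular p M) (hB : IsPBlock M B) :
    eBlock hM hB * eBlock hM hB = eBlock hM hB :=
  coef_injective (by rw [coef_mul, coef_eBlock, blockCoeff_conv_self])

theorem eBlock_mem (hM : IsPModular p M) (hB : IsPBlock M B) (V : Subgroup G) (s : G) :
    eBlock hM hB ∈ fixV M V s := by
  have h : ∀ v, cj v (eBlock hM hB) = eBlock hM hB := fun v =>
    cj_eq_self_iff.2 fun h => by rw [coef_eBlock]; exact isClassFunction_blockCoeff B h v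
  exact mem_fixV.2 ⟨fun v _ => h v, h s⟩

theorem ev_mul_eBlock (hM : IsPModular p M) (hB : IsPBlock M B) {χ : IrrCharacter G}
    (hχ : χ ∈ B) (z : RG M G) :
    ev (χ : G → ℂ) (z * eBlock hM hB) = ev (χ : G → ℂ) z := by
  classical
  simp only [ev, coef_mul, coef_eBlock, conv, Finset.sum_mul]
  rw [Finset.sum_comm]
  refine Finset.sum_congr rfl fun a _ => ?_
  rw [← Equiv.sum_comp (Equiv.mulLeft a)]
  have h := sum_mul_char_mul χ.2 (isClassFunction_blockCoeff B) a
  rw [omega_blockCoeff, if_pos hχ, one_mul] at h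
  refine Eq.trans (Finset.sum_congr rfl fun x _ => ?_)
    (Eq.trans (Finset.mul_sum _ _ (coef z a)).symm (congrArg (coef z a * ·) h))
  rw [Equiv.coe_mulLeft, inv_mul_cancel_left,
    classFunction_mul_comm (irr_isClassFunction χ) a x, mul_assoc]

/-- At a pair of another block the idempotent of `B` is small. -/
theorem brZero_block_mul (hM : IsPModular p M) (hB : IsPBlock M B) {P : Subgroup G}
    {g : Set (IrrCharacter (Subgroup.centralizer (P : Set G)))} (hg : IsBrauerPair p M P g)
    (hnot : ¬ IsBrauerPairOf p M B P g) :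
    BrZero P (eBlock hM hB * ef M (Subgroup.centralizer (P : Set G)) g) := by
  classical
  obtain ⟨hP, hgb⟩ := hg
  set e := ef M (Subgroup.centralizer (P : Set G)) g with he
  set D := coef (eBlock hM hB * e) with hD
  have hI : IsLocInv M P (blockCoeff B) := IsLocInv.of_isRCentral (isRCentral_blockCoeff hM hB)
  have hJ : IsLocInv M P (subgroupBlockCoeff (Subgroup.centralizer (P : Set G)) g) :=
    ⟨memLocalRing_subgroupBlockCoeff hM hgb,
      isPInv_iff_gconj.2 fun a ha => gconj_of_mem_self g ha, isPInv_subgroupBlockCoeff_self g⟩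
  have hDeq : D = conv (blockCoeff B) (subgroupBlockCoeff (Subgroup.centralizer (P : Set G)) g) := by
    rw [hD, he, coef_mul, coef_eBlock, coef_ef hM hgb]
  have hDI : IsLocInv M P D := hDeq ▸ hI.conv hJ
  have hDD : conv D D = D := by
    rw [hD, ← coef_mul]
    congr 1
    rw [show eBlock hM hB * e * (eBlock hM hB * e) =
        eBlock hM hB * (e * eBlock hM hB) * e by simp only [mul_assoc],
      ← eBlock_mul_comm hM hB e, show eBlock hM hB * (eBlock hM hB * e) * e =
        (eBlock hM hB * eBlock hM hB) * (e * e) by simp only [mul_assoc], eBlock_idem,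
      ef_mul_self hM hgb]
  have hω : ∀ ζ : IrrCharacter (Subgroup.centralizer (P : Set G)), MemLocalIdeal M
      (omega (ζ : Subgroup.centralizer (P : Set G) → ℂ)
        (resFun (Subgroup.centralizer (P : Set G)) D)) := by
    intro ζ
    rw [← brauerOmega_eq_omega]
    have h1 := brauerOmega_conv hM hP hI hJ ζ
    rw [← hDeq] at h1
    have h2 : brauerOmega P (subgroupBlockCoeff (Subgroup.centralizer (P : Set G)) g)
        (ζ : Subgroup.centralizer (P : Set G) → ℂ) = if ζ ∈ g then 1 else 0 := by
      rw [brauerOmega_eq_omega, resFun_subgroupBlockCoeff, omega_blockCoeff]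
    rw [h2] at h1
    split_ifs at h1 with hζ
    · rw [mul_one] at h1
      rcases brauerOmega_idem hM hP hI (blockCoeff_conv_self B) ζ with h | h
      · simpa using memLocalIdeal_add h1 h
      · exact absurd (BrauerPairs.isBrauerPairOf_of_exists hM ⟨hP, hgb⟩ hB hζ h) hnot
    · simpa using h1
  intro x hx
  have hidem : ∀ y, MemLocalIdeal M (resFun (Subgroup.centralizer (P : Set G)) D y -
      conv (resFun (Subgroup.centralizer (P : Set G)) D)
        (resFun (Subgroup.centralizer (P : Set G)) D) y) := fun y => by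
    have h := resFun_conv_congr hM hP hDI hDI y
    rwa [hDD] at h
  exact memLocalIdeal_of_idem hM hDI.isRCentral_res hidem hω ⟨x, hx⟩

/-- An idempotent weighted translate sum of a class function supported on singular elements. -/
theorem sum_idem_mul_eq_zero {K : Type u} [Group K] [Fintype K] (hM : IsPModular p M)
    {w : K → ℂ} (hwR : ∀ t, MemLocalRing M (w t)) (hww : conv w w = w) {y : K}
    (hy : ¬ p ∣ orderOf y) (hwy : ∀ t, w (y * t * y⁻¹) = w t) {θ : K → ℂ}
    (hθ : IsClassFunction K θ) (hreg : ∀ h, IsPRegular p h → θ h = 0) :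
    ∑ c, w c * θ (y * c) = 0 := by
  classical
  have h1 : ∑ c, w c * θ (y * c) = ∑ h, w (h * y⁻¹) * θ h := by
    refine Fintype.sum_equiv (Equiv.mulLeft y) _ _ fun c => ?_
    rw [Equiv.coe_mulLeft]
    show _ = w (y * c * y⁻¹) * θ (y * c)
    rw [hwy]
  have h2 : (Fintype.card K : ℂ) * ∑ h, w (h * y⁻¹) * θ h =
      ∑ h, θ h * ∑ t, w (t * h * t⁻¹ * y⁻¹) := by
    rw [show (∑ h, θ h * ∑ t, w (t * h * t⁻¹ * y⁻¹)) = ∑ t, ∑ h, θ h * w (t * h * t⁻¹ * y⁻¹) by
      simp only [Finset.mul_sum]; exact Finset.sum_comm]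
    rw [← nsmul_eq_mul, ← Finset.card_univ, ← Finset.sum_const]
    refine Finset.sum_congr rfl fun t _ => ?_
    refine (Fintype.sum_equiv (MulAut.conj t).toEquiv _ _ fun h => ?_).symm
    show θ h * w (t * h * t⁻¹ * y⁻¹) = w (t * h * t⁻¹ * y⁻¹) * θ (t * h * t⁻¹)
    rw [hθ h t, mul_comm]
  have h3 : (Fintype.card K : ℂ) * ∑ h, w (h * y⁻¹) * θ h = 0 := by
    rw [h2]
    refine Finset.sum_eq_zero fun h _ => ?_
    by_cases hh : IsPRegular p h
    · rw [hreg h hh, zero_mul]
    obtain ⟨x, hx⟩ := exists_isPPart hM.1 h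
    obtain ⟨r, hxr, hcx, hxk, hr⟩ := hx
    refine mul_eq_zero_of_right _ (sum_translate_eq_zero hM w hwR hww y h 1 y x r (one_mul y)
      (Commute.one_left y) ⟨0, by simp⟩ hy hxr hcx hxk hr (fun t => by simp) hwy (Or.inl fun hc => ?_))
    rw [isConj_one_right] at hc
    exact hh (by rw [IsPRegular, ← hxr, hc, one_mul]; exact hr)
  rw [h1]
  exact (mul_eq_zero.1 h3).resolve_left (Nat.cast_ne_zero.2 Fintype.card_ne_zero)

/-- Restriction of products to the centralizer, modulo the ideal. -/
theorem resFun_mul_congr (hM : IsPModular p M) {V : Subgroup G} (hV : IsPGroup p V) {s : G}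
    {x y : RG M G} (hx : x ∈ fixV M V s) (hy : y ∈ fixV M V s)
    [Fintype (Subgroup.centralizer (V : Set G))] (k : Subgroup.centralizer (V : Set G)) :
    MemLocalIdeal M (resFun (Subgroup.centralizer (V : Set G)) (coef (x * y)) k -
      conv (resFun (Subgroup.centralizer (V : Set G)) (coef x))
        (resFun (Subgroup.centralizer (V : Set G)) (coef y)) k) := by
  haveI := Fact.mk hM.1
  have hres : ∀ f : G → ℂ, resFun (Subgroup.centralizer (V : Set G)) f =
      resFun (Subgroup.centralizer (V : Set G)) (trunc V f) := fun f =>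
    funext fun z => (trunc_of_mem z.2).symm
  rw [coef_mul, hres (coef x), hres (coef y), conv_resFun le_rfl, hres (conv (coef x) (coef y))]
  exact trunc_conv_congr hM V hV (memLocalRing_coef x) (memLocalRing_coef y) (isPInv_coef hx)
    (isPInv_coef hy) (k : G)

local notation3 "Cz" u:max => Subgroup.centralizer (SetLike.coe (Subgroup.zpowers u))

set_option maxHeartbeats 1000000 in
/-- A unit value at a piece gives a nonzero value of the part at a regular element. -/
theorem exists_pieceVal_ne_zero (hM : IsPModular p M) {u y : G} (hd : SecData p u y)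
    {χ : G → ℂ} (hχ : IsClassFunction G χ) {f : Set (IrrCharacter (Cz u))} (hf : IsPBlock M f)
    {i : RG M G} (hi : i ∈ fixV M (Subgroup.zpowers u) y) (hii : i * i = i)
    (hif : BrZero (Subgroup.zpowers u) (i * ef M (Cz u) f * i - i))
    (hne : ev χ (el (u * y) * i) ≠ 0) :
    ∃ s ∈ Cz u, IsPRegular p s ∧ pieceVal u f χ (u * s) ≠ 0 := by
  classical
  by_contra hcon
  push Not at hcon
  apply hne
  have hVp : IsPGroup p (Subgroup.zpowers u) := hd.isPGroup
  set e := ef M (Cz u) f with he
  have hes : e ∈ fixV M (Subgroup.zpowers u) y := ef_mem hM hd.mem_centralizer hf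
  let yK : (Cz u) := ⟨y, hd.mem_centralizer⟩
  let eK : RG M (Cz u) := ofFun (blockCoeff f) (isRCentral_blockCoeff hM hf).2
  let r : RG M (Cz u) := ofFun (resFun (Cz u) (coef i)) fun k => memLocalRing_coef i k
  have hceK : coef eK = blockCoeff f := coef_ofFun _ _
  have hcr : coef r = resFun (Cz u) (coef i) := coef_ofFun _ _
  have heKc : ∀ z : RG M (Cz u), eK * z = z * eK := fun z => coef_injective (by
    rw [coef_mul, coef_mul, hceK, conv_comm _ (isClassFunction_blockCoeff f)])
  have heKK : eK * eK = eK :=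
    coef_injective (by rw [coef_mul, hceK, blockCoeff_conv_self])
  have hrr : BrZero ⊥ (r * r - r) := brZero_bot_iff.2 fun k => by
    rw [coef_sub, Pi.sub_apply, coef_mul, hcr]
    have h := memLocalIdeal_neg (resFun_mul_congr hM hVp hi hi k)
    rw [neg_sub, hii] at h
    exact h
  set c := eK * r with hc
  have hcc : BrZero ⊥ (c * c - c) := by
    have h := BrZero.mul_bot eK hrr
    convert h using 1
    rw [mul_sub, hc, show eK * r * (eK * r) = eK * (r * eK) * r by simp only [mul_assoc],
      ← heKc r, ← mul_assoc eK eK r, heKK, mul_assoc]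
  have heKmem : eK ∈ fixV M (⊥ : Subgroup (Cz u)) yK := by
    have h : ∀ v, cj v eK = eK := fun v =>
      cj_eq_self_iff.2 fun h => by rw [hceK]; exact isClassFunction_blockCoeff f h v
    exact mem_fixV.2 ⟨fun v _ => h v, h yK⟩
  have hrmem : r ∈ fixV M (⊥ : Subgroup (Cz u)) yK := by
    refine mem_fixV.2 ⟨fun v hv => by rw [Subgroup.mem_bot.1 hv, cj_one], ?_⟩
    refine cj_eq_self_iff.2 fun k => ?_
    rw [hcr]
    exact cj_eq_self_iff.1 (mem_fixV.1 hi).2 k
  have hcmem : c ∈ fixV M (⊥ : Subgroup (Cz u)) yK := mul_mem heKmem hrmem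
  have hece : eK * c * eK = c := by
    rw [hc, ← mul_assoc eK eK r, heKK, mul_assoc, ← heKc r, ← mul_assoc, heKK]
  obtain ⟨j, hj, hjj, hejl, hejr, hjc⟩ := exists_piece hM (IsPGroup.of_bot (p := p) (G := (Cz u)))
    heKmem hcmem heKK (by rw [hece]; exact hcc)
  rw [hece] at hjc
  let J : RG M G := ofFun (extendByZero (Cz u) (coef j)) fun g => by
    by_cases hg : g ∈ (Cz u)
    · rw [extendByZero_of_mem _ _ hg]; exact memLocalRing_coef j _
    · rw [extendByZero_of_not_mem _ _ hg]; exact memLocalRing_zero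
  have hcJ : coef J = extendByZero (Cz u) (coef j) := coef_ofFun _ _
  have hJJ : J * J = J := coef_injective (by
    rw [coef_mul, hcJ, conv_extendByZero, ← coef_mul, hjj])
  have hJe : J * e = J := coef_injective (by
    rw [coef_mul, hcJ, he, coef_ef hM hf, subgroupBlockCoeff_eq_extendByZero,
      conv_extendByZero, show conv (coef j) (blockCoeff f) = coef j by
        rw [← hceK, ← coef_mul]
        exact congrArg coef hejr])
  have huK : ∀ g, g ∈ (Cz u) → u * g * u⁻¹ = g := fun g hg => by
    rw [(mem_centralizer_zpowers_iff.1 hg).eq, mul_inv_cancel_right]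
  have hyu : Commute y u := hd.comm.symm
  have hJfix : J ∈ fixV M (Subgroup.zpowers u) y := by
    have hu : cj u J = J := by
      refine cj_eq_self_iff.2 fun g => ?_
      rw [hcJ]
      by_cases hg : g ∈ (Cz u)
      · rw [huK g hg]
      · rw [extendByZero_of_not_mem _ _ hg, extendByZero_of_not_mem _ _ fun h => hg ?_]
        have := huK _ h
        rw [mul_left_inj, mul_right_inj] at this
        rwa [this] at h
    refine mem_fixV.2 ⟨?_, ?_⟩
    · intro v hv
      exact commute_el_iff.1 (by
        obtain ⟨n, rfl⟩ := (isOfFinOrder_of_finite u).mem_powers_iff_mem_zpowers.2 hv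
        show Commute (el (u ^ n)) J
        rw [el_pow]
        exact (commute_el_iff.2 hu).pow_left n)
    · refine cj_eq_self_iff.2 fun g => ?_
      rw [hcJ]
      by_cases hg : g ∈ (Cz u)
      · have hg' : y * g * y⁻¹ ∈ (Cz u) :=
          mul_mem (mul_mem hd.mem_centralizer hg) (inv_mem hd.mem_centralizer)
        rw [extendByZero_of_mem _ _ hg, extendByZero_of_mem _ _ hg']
        exact cj_eq_self_iff.1 (mem_fixV.1 hj).2 ⟨g, hg⟩
      · rw [extendByZero_of_not_mem _ _ hg, extendByZero_of_not_mem _ _ fun h => hg ?_]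
        have := mul_mem (mul_mem (inv_mem hd.mem_centralizer) h) hd.mem_centralizer
        simpa [mul_assoc] using this
  have hJi : BrZero (Subgroup.zpowers u) (J - i) := by
    intro g hg
    rw [coef_sub, Pi.sub_apply, hcJ, extendByZero_of_mem _ _ hg]
    have h1 : MemLocalIdeal M (coef j ⟨g, hg⟩ - coef c ⟨g, hg⟩) := by
      have := brZero_bot_iff.1 hjc ⟨g, hg⟩
      rwa [coef_sub] at this
    have h2 := resFun_mul_congr hM hVp hes hi ⟨g, hg⟩
    have h3 : conv (resFun (Cz u) (coef e)) (resFun (Cz u) (coef i)) = coef c := by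
      rw [hc, coef_mul, hceK, hcr, he, coef_ef hM hf, resFun_subgroupBlockCoeff]
    rw [h3] at h2
    have h4 : BrZero (Subgroup.zpowers u) (e * i - i) := by
      have h := (brZero_comm_ef hM hVp hd.mem_centralizer hf hi).mul_right hM hVp
        (sub_mem (mul_mem hi hes) (mul_mem hes hi)) hi
      rw [sub_mul, mul_assoc e i i, hii] at h
      simpa using hif.sub h
    have h5 := h4 g hg
    rw [coef_sub, Pi.sub_apply] at h5
    convert memLocalIdeal_add (memLocalIdeal_sub h1 h2) h5 using 1
    simp only [resFun]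
    ring
  rw [← ev_eq_of_congr hM hd hχ hJfix hi hJJ hii hJi, ← hJe, ev_el_mul]
  simp only [coef_mul, conv, Finset.sum_mul]
  rw [Finset.sum_comm]
  have hinner : ∀ a : G, ∑ h, coef J a * coef e (a⁻¹ * h) * χ (u * y * h) =
      coef J a * pieceVal u f χ (u * (y * a)) := by
    intro a
    rw [pieceVal, Finset.mul_sum]
    refine (Fintype.sum_equiv (Equiv.mulLeft a) _ _ fun b => ?_).symm
    rw [Equiv.coe_mulLeft, inv_mul_cancel_left, he, coef_ef hM hf]
    simp only [mul_assoc]
  rw [Finset.sum_congr rfl fun a _ => hinner a, hcJ, sum_extendByZero_mul]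
  have hθc : IsClassFunction (Cz u) (blockPart f (shiftRes (Cz u) u χ)) := isClassFunction_blockPart _ _
  have hconv : ∀ k : (Cz u), pieceVal u f χ (u * (y * (k : G))) = blockPart f (shiftRes (Cz u) u χ) (yK * k) :=
    fun k => pieceVal_mul u f hχ (yK * k)
  simp only [hconv]
  refine sum_idem_mul_eq_zero hM (memLocalRing_coef j) (by rw [← coef_mul, hjj])
    (by rw [Subgroup.orderOf_mk]; exact hd.reg)
    (fun t => cj_eq_self_iff.1 (mem_fixV.1 hj).2 t) hθc fun k hk => ?_
  rw [← pieceVal_mul u f hχ k]
  refine hcon _ k.2 ?_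
  rwa [IsPRegular, Subgroup.orderOf_coe]

/-- The value of a character of height zero at a defect class is a unit. -/
theorem not_memLocalIdeal_apply (hM : IsPModular p M) (hB : IsPBlock M B) {χ : IrrCharacter G}
    (hχ : χ ∈ B) (h0 : blockHeight p B (χ : G → ℂ) = 0) {y : G} (hy : IsDefectClass M B y)
    (R : Sylow p (Subgroup.centralizer ({y} : Set G))) :
    ¬ MemLocalIdeal M ((χ : G → ℂ) y) := by
  classical
  haveI := Fact.mk hM.1
  set L : Subgroup G := Subgroup.centralizer ({y} : Set G) with hL
  have hcard : (Nat.card L).factorization p = blockDefect p B := by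
    have h := card_isDefectGroup hM hB ⟨y, hy, R, rfl⟩
    rw [Subgroup.card_map_of_injective L.subtype_injective, Sylow.card_eq_multiplicity] at h
    exact Nat.pow_right_injective hM.1.two_le h
  have hidx : L.index.factorization p = nu p (χ : G → ℂ) := by
    have h1 := blockDefect_add_minExp (p := p) hB
    have h2 := minExp_add_blockHeight (p := p) hχ
    rw [← L.index_mul_card, Nat.factorization_mul Subgroup.index_ne_zero_of_finite
      Nat.card_pos.ne', Finsupp.add_apply, hcard] at h1
    omega
  intro h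
  apply hy.2.2 χ hχ
  rw [centralChar, mul_div_right_comm]
  refine memLocalIdeal_mul_left ?_ h
  rw [irr_apply_one, memLocalRing_div_natCast_iff hM (charDegree_irr_pos χ).ne']
  obtain ⟨i', hi'⟩ := Nat.ordProj_dvd L.index p
  rw [hidx] at hi'
  conv => arg 2; rw [hi']
  push_cast
  rw [mul_div_cancel_left₀ _ (pow_ne_zero _ (Nat.cast_ne_zero.2 hM.1.ne_zero))]
  exact memLocalRing_natCast i'

/-- **A character of height zero sees every pair below some maximal pair.** -/
theorem exists_pair_pieceVal_ne_zero (hM : IsPModular p M) {P : Subgroup G}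
    {e : Set (IrrCharacter (Subgroup.centralizer (P : Set G)))}
    (hmax : IsMaximalBrauerPair p M B P e) {χ : IrrCharacter G} (hχ : χ ∈ B)
    (h0 : blockHeight p B (χ : G → ℂ) = 0) :
    ∃ g : Set (IrrCharacter (Subgroup.centralizer (P : Set G))), IsBrauerPairOf p M B P g ∧
      ∀ u ∈ P, ∀ f : Set (IrrCharacter (Subgroup.centralizer (Subgroup.zpowers u : Set G))),
        SubpairLE p M (Subgroup.zpowers u) f P g →
          ∃ s ∈ Subgroup.centralizer (Subgroup.zpowers u : Set G), IsPRegular p s ∧
            pieceVal u f (χ : G → ℂ) (u * s) ≠ 0 := by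
  classical
  haveI := Fact.mk hM.1
  have hB := hmax.1.2.1
  have hP := hmax.1.1.1
  have hcl := irr_isClassFunction χ
  obtain ⟨y, hy, R, hR⟩ := isDefectGroup_of_isMaximal hM hmax
  have hPy : ∀ w ∈ P, Commute w y := by
    intro w hw
    rw [hR] at hw
    obtain ⟨w', -, rfl⟩ := hw
    exact Subgroup.mem_centralizer_singleton_iff.1 w'.2
  have hyr : ¬ p ∣ orderOf y := isPRegular_of_isDefectClass hM hB hy
  have hχy := not_memLocalIdeal_apply hM hB hχ h0 hy R
  have hχR : ∀ g, MemLocalRing M ((χ : G → ℂ) g) := fun g =>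
    memLocalRing_of_isIntegral' (isIntegral_char χ g)
  set S := fixV M P y with hS
  obtain ⟨T, hT⟩ := exists_isDecomp (fun r a => smul_eq_zero' r a) (one_mem S) (mul_one 1)
  obtain ⟨i, hiT, hival⟩ : ∃ i ∈ T, ¬ MemLocalIdeal M (ev (χ : G → ℂ) (el y * i)) := by
    by_contra hcon
    push Not at hcon
    apply hχy
    rw [← ev_el (M := M) (χ : G → ℂ) y, ← mul_one (el y : RG M G), ← hT.sum, Finset.mul_sum, ev_sum]
    exact memLocalIdeal_sum _ hcon
  have hi := hT.prim i hiT
  have hnz : ¬ BrZero P i := by
    intro hb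
    obtain ⟨Q, u, a, hstep, ha, hia⟩ := exists_trU_of_brZero hM hP hPy hyr hi hb
    apply hival
    have hcomm : ∀ t : ℕ, cj (u ^ t) (el y : RG M G) = el y := fun t => by
      rw [cj_el, ((hPy u hstep.mem).pow_left t).eq, mul_inv_cancel_right]
    rw [hia, trU, Finset.mul_sum, ev_sum, Finset.sum_congr rfl fun t _ => ?_, Finset.sum_const,
      Finset.card_range, nsmul_eq_mul]
    · exact memLocalIdeal_mul_right ((memLocalIdeal_natCast_iff hM p).2 dvd_rfl)
        (memLocalRing_ev hχR (el y * a))
    · rw [← ev_cj hcl (u ^ t) (el y * a), map_mul, hcomm]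
  obtain ⟨g, hgb, hne⟩ : ∃ g : Set (IrrCharacter (Subgroup.centralizer (P : Set G))),
      IsPBlock M g ∧ ¬ BrZero P (i * ef M (Subgroup.centralizer (P : Set G)) g) := by
    by_contra hcon
    push Not at hcon
    apply hnz
    haveI := Fintype.ofFinite (Bl M (Subgroup.centralizer (P : Set G)))
    rw [← mul_one i, ← sum_ef hM (Subgroup.centralizer (P : Set G)), Finset.mul_sum]
    exact BrZero.sum _ fun f _ => hcon f.1 f.2
  have hyC : y ∈ Subgroup.centralizer (P : Set G) :=
    mem_centralizer_subgroup_iff.2 fun w hw => (hPy w hw).eq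
  have hpair : IsBrauerPairOf p M B P g := by
    by_contra hnot
    set E := eBlock hM hB
    have hE := eBlock_mem hM hB P y
    have heg : ef M (Subgroup.centralizer (P : Set G)) g ∈ S := ef_mem hM hyC hgb
    have hiE : i * E = i := by
      have h1 : i * E * (i * E) = i * E := by
        rw [show i * E * (i * E) = i * (E * i) * E by simp only [mul_assoc], eBlock_mul_comm hM hB,
          show i * (i * E) * E = i * i * (E * E) by simp only [mul_assoc], hi.idem,
          eBlock_idem hM hB]
      rcases hi.eq_or _ (mul_mem hi.mem hE) h1 (by rw [← mul_assoc, hi.idem])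
          (by rw [mul_assoc, eBlock_mul_comm hM hB, ← mul_assoc, hi.idem]) with h | h
      · exfalso
        apply hival
        rw [← ev_mul_eBlock hM hB hχ, mul_assoc, h, mul_zero, ev_zero]
        exact memLocalIdeal_zero
      · exact h
    apply hne
    rw [← hiE, mul_assoc]
    exact (brZero_block_mul hM hB ⟨hP, hgb⟩ hnot).mul_left hM hP hi.mem (mul_mem hE heg)
  refine ⟨g, hpair, fun u hu f hle => ?_⟩
  have hf := (isBrauerPair_of_subpairLE ⟨hP, hgb⟩ hle).2
  have hd := secData_of_mem hM hP hPy hyr hu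
  have hb := brZero_below hM hPy hyr ⟨hP, hgb⟩ hi hne hle
  refine exists_pieceVal_ne_zero hM hd hcl hf (fixV_mono (Subgroup.zpowers_le.2 hu) y hi.mem)
    hi.idem hb fun h => hival ?_
  have hc : ∀ w : P, Commute (el (w : G)) (el y * i : RG M G) := fun w =>
    Commute.mul_right (by
      show el (w : G) * el y = el y * el (w : G)
      rw [← el_mul, ← el_mul, (hPy w w.2).eq])
      (commute_el_iff.2 ((mem_fixV.1 hi.mem).1 w w.2))
  have h1 : IsLocTrace M P (fun g => ev (χ : G → ℂ) (el g * (el y * i))) :=
    isLocTrace_irr hM χ P.subtype hc fun _ => rfl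
  have h2 := h1.congr_one hM hP hu
  simp only [el_one, one_mul] at h2
  rw [← mul_assoc (el u), ← el_mul, h, zero_sub] at h2
  simpa using memLocalIdeal_neg h2

end Cfsg.Agent.Lib.BrauerStar
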