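import Cfsg.Agent.Lib.BrauerStar.PieceSection
import Mathlib.GroupTheory.FiniteAbelian.Duality

/-!
# The linear characters of `P / foc` act on the characters of a block

Stated relative to the local integrality of the star products, and to a nonvanishing property of
the characters of height zero.
-/

set_option autoImplicit false
set_option linter.unusedSectionVars false
set_option linter.style.haveILetI false

namespace Cfsg.Agent.Lib.BrauerStar

open Cfsg Cfsg.Agent.Lib.Blocks Cfsg.Agent.Lib.Characters Cfsg.Agent.Lib.BrauerPairs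
  Cfsg.Agent.Lib.BlockHeights

universe u

variable {G : Type u} [Group G] [Fintype G] {M : Ideal AlgInt} [hMp : M.IsPrime] {p : ℕ}
  {B : Set (IrrCharacter G)} {P : Subgroup G}
  {e : Set (IrrCharacter (Subgroup.centralizer (P : Set G)))} {F : FusionSystem P}

omit [Fintype G] hMp in
theorem commutator_mem_focal {y g : G} (hy : y ∈ P) (hg : g ∈ P) :
    y⁻¹ * (g * y * g⁻¹) ∈ F.focalSubgroup :=
  Subgroup.subset_closure ⟨P, conjHom P g, ⟨y, hy⟩, F.conj_mem le_rfl hg, rfl⟩

omit [Fintype G] hMp in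
theorem focal_subgroupOf_normal : (F.focalSubgroup.subgroupOf P).Normal := by
  refine ⟨fun n hn g => ?_⟩
  rw [Subgroup.mem_subgroupOf] at hn ⊢
  have h := mul_mem hn (commutator_mem_focal (F := F) n.2 g.2)
  rw [mul_inv_cancel_left] at h
  exact h

omit [Fintype G] hMp in
theorem focal_quotient_comm [(F.focalSubgroup.subgroupOf P).Normal]
    (a b : P ⧸ F.focalSubgroup.subgroupOf P) : a * b = b * a := by
  obtain ⟨x, rfl⟩ := QuotientGroup.mk_surjective a
  obtain ⟨y, rfl⟩ := QuotientGroup.mk_surjective b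
  rw [← QuotientGroup.mk_mul, ← QuotientGroup.mk_mul, QuotientGroup.eq, Subgroup.mem_subgroupOf]
  have h := commutator_mem_focal (F := F) y.2 (inv_mem x.2)
  simp only [inv_inv] at h
  simpa [mul_assoc] using h

/-- A linear character of `P / foc` as one of `P`. -/
noncomputable def liftChar [(F.focalSubgroup.subgroupOf P).Normal]
    (γ : P ⧸ F.focalSubgroup.subgroupOf P →* ℂˣ) : P →* ℂˣ :=
  γ.comp (QuotientGroup.mk' _)

omit [Fintype G] hMp in
theorem isFocTrivial_liftChar [(F.focalSubgroup.subgroupOf P).Normal]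
    (γ : P ⧸ F.focalSubgroup.subgroupOf P →* ℂˣ) : IsFocTrivial F (liftChar γ) := by
  intro y hy
  show γ ((y : P) : P ⧸ F.focalSubgroup.subgroupOf P) = 1
  rw [(QuotientGroup.eq_one_iff y).2 (Subgroup.mem_subgroupOf.2 hy), map_one]

theorem linWeight_mem_rootRing (hM : IsPModular p M) (hmax : IsMaximalBrauerPair p M B P e)
    (hF : IsBlockFusionSystemOn p M B P e F) {lam : P →* ℂˣ} (hlam : IsFocTrivial F lam) (u : G)
    (f : Set (IrrCharacter (Subgroup.centralizer (Subgroup.zpowers u : Set G)))) :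
    linWeight p M e lam u f ∈ rootRing p ((Nat.card G).factorization p) := by
  by_cases hf : IsBrauerPairOf p M B (Subgroup.zpowers u) f
  · refine mem_rootRing_of_pow_eq_one hM.1 ?_
    haveI := Fact.mk hM.1
    obtain ⟨k, hk⟩ := IsPGroup.iff_card.1 hmax.1.1.1
    have hle : k ≤ (Nat.card G).factorization p :=
      (hM.1.pow_dvd_iff_le_factorization Nat.card_pos.ne').1 (hk ▸ Subgroup.card_subgroup_dvd_card P)
    obtain ⟨c, hc⟩ := pow_dvd_pow p (hle.trans (Nat.le_succ _))
    rw [hc, ← hk, pow_mul, linWeight_pow_card hM hmax hF hlam hf, one_pow]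
  · rw [linWeight_eq_zero_of_not_pair hM hmax hf]
    exact zero_mem _

/-- The hypothesis of local integrality. -/
abbrev StarIntegral (p : ℕ) (M : Ideal AlgInt)
    (e : Set (IrrCharacter (Subgroup.centralizer (P : Set G)))) (F : FusionSystem P) : Prop :=
  ∀ lam : P →* ℂˣ, IsFocTrivial F lam → ∀ χ θ : IrrCharacter G,
    MemLocalRing M (classInner (starFun p M (linWeight p M e lam) (χ : G → ℂ)) (θ : G → ℂ))

theorem exists_star (hM : IsPModular p M) (hmax : IsMaximalBrauerPair p M B P e)
    (hF : IsBlockFusionSystemOn p M B P e F) (hint : StarIntegral p M e F) {lam : P →* ℂˣ}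
    (hlam : IsFocTrivial F lam) {χ : IrrCharacter G} (hχ : χ ∈ B) :
    ∃ ψ : IrrCharacter G, ψ ∈ B ∧
      (ψ : G → ℂ) = starFun p M (linWeight p M e lam) (χ : G → ℂ) ∧
      (ψ : G → ℂ) 1 = (χ : G → ℂ) 1 :=
  exists_irr_eq_starFun hM hmax.1.2.1
    (fun u a f f' _ h => linWeight_conj hF hlam u a f f' h)
    (fun _ _ hf => norm_linWeight hM hmax hF hlam hf)
    (fun _ hf => linWeight_id hM hmax hF hlam hf)
    (linWeight_mem_rootRing hM hmax hF hlam) hχ (fun θ => hint lam hlam χ θ)

/-- The characters of height `h`. -/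
abbrev HeightSet (p : ℕ) (B : Set (IrrCharacter G)) (h : ℕ) : Type u :=
  {χ : IrrCharacter G // χ ∈ B ∧ blockHeight p B (χ : G → ℂ) = h}

theorem exists_star_height (hM : IsPModular p M) (hmax : IsMaximalBrauerPair p M B P e)
    (hF : IsBlockFusionSystemOn p M B P e F) (hint : StarIntegral p M e F) {lam : P →* ℂˣ}
    (hlam : IsFocTrivial F lam) {h : ℕ} (χ : HeightSet p B h) :
    ∃ ψ : HeightSet p B h,
      (ψ.1 : G → ℂ) = starFun p M (linWeight p M e lam) (χ.1 : G → ℂ) := by
  obtain ⟨ψ, hψ, heq, h1⟩ := exists_star hM hmax hF hint hlam χ.2.1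
  have hdeg : charDegree (ψ : G → ℂ) = charDegree (χ.1 : G → ℂ) := by
    simp only [charDegree, h1]
  refine ⟨⟨ψ, hψ, ?_⟩, heq⟩
  have h2 := χ.2.2
  simp only [blockHeight, hdeg] at h2 ⊢
  exact h2

/-- The action of the characters of `P / foc`. -/
noncomputable def starAction (hM : IsPModular p M) (hmax : IsMaximalBrauerPair p M B P e)
    (hF : IsBlockFusionSystemOn p M B P e F) (hint : StarIntegral p M e F) (h : ℕ)
    [(F.focalSubgroup.subgroupOf P).Normal] :
    MulAction (P ⧸ F.focalSubgroup.subgroupOf P →* ℂˣ) (HeightSet p B h) where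
  smul γ χ := (exists_star_height hM hmax hF hint (isFocTrivial_liftChar γ) χ).choose
  one_smul χ := by
    refine Subtype.ext (Subtype.ext ?_)
    refine (exists_star_height hM hmax hF hint (isFocTrivial_liftChar _) χ).choose_spec.trans ?_
    funext g
    refine starFun_apply_eq_self hM hmax.1.2.1 _ χ.2.1 g fun f hf => ?_
    rw [show liftChar (1 : P ⧸ F.focalSubgroup.subgroupOf P →* ℂˣ) = 1 from rfl]
    exact linWeight_one hM hmax hF hf
  mul_smul γ γ' χ := by
    refine Subtype.ext (Subtype.ext ?_)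
    have h1 := (exists_star_height hM hmax hF hint (isFocTrivial_liftChar γ') χ).choose_spec
    refine (exists_star_height hM hmax hF hint (isFocTrivial_liftChar (γ * γ')) χ).choose_spec.trans ?_
    refine Eq.trans ?_ (exists_star_height hM hmax hF hint (isFocTrivial_liftChar γ) _).choose_spec.symm
    erw [h1]
    rw [starFun_starFun hM (fun u a f f' _ hh =>
      linWeight_conj hF (isFocTrivial_liftChar γ') u a f f' hh) _ (irr_isClassFunction χ.1)]
    congr 1
    funext u f
    rw [show liftChar (γ * γ') = liftChar γ * liftChar γ' from rfl,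
      linWeight_mul hF (isFocTrivial_liftChar γ) (isFocTrivial_liftChar γ')]

/-- Where the decomposition is not zero a fixing weight is one. -/
theorem linWeight_eq_one_of_fixed (hM : IsPModular p M)
    (hF : IsBlockFusionSystemOn p M B P e F) {lam : P →* ℂˣ} (hlam : IsFocTrivial F lam)
    {χ : IrrCharacter G} (hfix : starFun p M (linWeight p M e lam) (χ : G → ℂ) = (χ : G → ℂ))
    {u : G} (hu : ∃ k : ℕ, orderOf u = p ^ k)
    {f : Set (IrrCharacter (Subgroup.centralizer (Subgroup.zpowers u : Set G)))}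
    (hf : IsPBlock M f) (hne : sect p u f (χ : G → ℂ) ≠ 0) :
    linWeight p M e lam u f = 1 := by
  classical
  haveI := Fintype.ofFinite (Subgroup.centralizer (Subgroup.zpowers u : Set G))
  obtain ⟨s, hs⟩ := Function.ne_iff.1 hne
  have h := sect_starFun hM (η := linWeight p M e lam)
    (fun u a f f' _ hh => linWeight_conj hF hlam u a f f' hh) (irr_isClassFunction χ) hu hf
  rw [hfix] at h
  have h1 := congrFun h s
  rw [Pi.smul_apply, smul_eq_mul] at h1
  exact mul_right_cancel₀ hs (by rw [one_mul]; exact h1.symm)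

theorem orderOf_pow_of_mem (hM : IsPModular p M) (hmax : IsMaximalBrauerPair p M B P e) {z : G}
    (hz : z ∈ P) : ∃ k : ℕ, orderOf z = p ^ k := by
  haveI := Fact.mk hM.1
  obtain ⟨k, hk⟩ := IsPGroup.iff_orderOf.1 hmax.1.1.1 ⟨z, hz⟩
  exact ⟨k, by rw [← hk, Subgroup.orderOf_mk]⟩

/-- A fixing character is trivial on the centre of `P`. -/
theorem apply_eq_one_of_fixed_center (hM : IsPModular p M)
    (hmax : IsMaximalBrauerPair p M B P e) (hF : IsBlockFusionSystemOn p M B P e F)
    {lam : P →* ℂˣ} (hlam : IsFocTrivial F lam) {χ : IrrCharacter G} (hχ : χ ∈ B)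
    (hfix : starFun p M (linWeight p M e lam) (χ : G → ℂ) = (χ : G → ℂ)) {z : G} (hz : z ∈ P)
    (hzC : z ∈ Subgroup.centralizer (P : Set G)) : lam ⟨z, hz⟩ = 1 := by
  classical
  haveI := Fintype.ofFinite (Subgroup.centralizer (Subgroup.zpowers z : Set G))
  have hu := orderOf_pow_of_mem hM hmax hz
  obtain ⟨f, hf, hle⟩ := exists_subpairLE hM hmax.1.1 (Subgroup.zpowers_le.2 hz)
  obtain ⟨hind, hd⟩ := HeightCenter.major_of_center hM (isDefectGroup_of_isMaximal hM hmax) hmax
    hz hzC hle
  have hne := HeightCenter.weight_ne_zero hM (fun g => mem_centralizer_zpowers_iff) hu hind hd hχ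
  have h1 := linWeight_eq_one_of_fixed hM hF hlam hfix hu hf.2 fun h0 => hne (by
    unfold HeightCenter.weight
    rw [h0]
    simp [classInner])
  have h2 : SubpairLE p M ((Subgroup.zpowers z).map (MulAut.conj (1 : G)).toMonoidHom)
      (conjBlock (Subgroup.zpowers z) 1 f) P e := subpairLE_conj_one hle
  rw [linWeight_eq hF hlam h2] at h1
  have h3 : (⟨1 * z * 1⁻¹, conj_mem_of_subpairLE h2⟩ : P) = ⟨z, hz⟩ := Subtype.ext (by simp)
  rw [h3] at h1
  exact Units.val_eq_one.1 h1

/-- The hypothesis on the characters of height zero. -/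
abbrev HeightZeroNonvanishing (p : ℕ) (M : Ideal AlgInt) (B : Set (IrrCharacter G))
    (P : Subgroup G) : Prop :=
  ∀ χ : IrrCharacter G, χ ∈ B → blockHeight p B (χ : G → ℂ) = 0 →
    ∃ g : Set (IrrCharacter (Subgroup.centralizer (P : Set G))), IsBrauerPairOf p M B P g ∧
      ∀ u ∈ P, ∀ f : Set (IrrCharacter (Subgroup.centralizer (Subgroup.zpowers u : Set G))),
        SubpairLE p M (Subgroup.zpowers u) f P g →
          ∃ s ∈ Subgroup.centralizer (Subgroup.zpowers u : Set G), IsPRegular p s ∧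
            pieceVal u f (χ : G → ℂ) (u * s) ≠ 0

/-- A character fixing one of height zero is trivial. -/
theorem eq_one_of_fixed_height_zero (hM : IsPModular p M)
    (hmax : IsMaximalBrauerPair p M B P e) (hF : IsBlockFusionSystemOn p M B P e F)
    (hzero : HeightZeroNonvanishing p M B P) {lam : P →* ℂˣ} (hlam : IsFocTrivial F lam)
    {χ : IrrCharacter G} (hχ : χ ∈ B) (h0 : blockHeight p B (χ : G → ℂ) = 0)
    (hfix : starFun p M (linWeight p M e lam) (χ : G → ℂ) = (χ : G → ℂ)) : lam = 1 := by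
  classical
  obtain ⟨g, hg, hne⟩ := hzero χ hχ h0
  obtain ⟨n, hn, hng⟩ := isOrbitBlock_of_isBrauerPairOf hM hmax hg
  have hpair := pair_eq_of_isOrbitBlock hn hng
  refine MonoidHom.ext fun y => ?_
  set u := n * (y : G) * n⁻¹ with hudef
  have hu : u ∈ P := (Subgroup.mem_normalizer_iff.1 hn _).1 y.2
  haveI := Fintype.ofFinite (Subgroup.centralizer (Subgroup.zpowers u : Set G))
  obtain ⟨f, hf, hle⟩ := exists_subpairLE hM hg.1 (Subgroup.zpowers_le.2 hu)
  obtain ⟨s, hsC, hs, hpv⟩ := hne u hu f hle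
  have hs' : IsPRegular p (⟨s, hsC⟩ : Subgroup.centralizer (Subgroup.zpowers u : Set G)) := by
    rwa [IsPRegular, Subgroup.orderOf_mk]
  have h1 := linWeight_eq_one_of_fixed hM hF hlam hfix (orderOf_pow_of_mem hM hmax hu) hf.2
    fun h0 => hpv (by
      have h2 := sect_apply_regular (p := p) u f (irr_isClassFunction χ) hs'
      rw [h0] at h2
      exact h2.symm)
  have h2 : SubpairLE p M ((Subgroup.zpowers u).map (MulAut.conj n⁻¹).toMonoidHom)
      (conjBlock (Subgroup.zpowers u) n⁻¹ f) P e := by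
    have h3 := subpairLE_conj hle n⁻¹
    show Relation.ReflTransGen (NormalSubpairRel p M) _ _
    rw [← conjPair_inv_conjPair n ⟨P, e⟩, ← hpair]
    exact h3
  rw [linWeight_eq hF hlam h2] at h1
  have h3 : (⟨n⁻¹ * u * n⁻¹⁻¹, conj_mem_of_subpairLE h2⟩ : P) = y :=
    Subtype.ext (show n⁻¹ * (n * (y : G) * n⁻¹) * n⁻¹⁻¹ = (y : G) by group)
  rw [h3] at h1
  rw [MonoidHom.one_apply]
  exact Units.val_eq_one.1 h1

theorem dvd_card_of_stabilizer_le {Γ S : Type*} [Group Γ] [Finite Γ] [Finite S] [MulAction Γ S]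
    (K : Subgroup Γ) (h : ∀ x : S, MulAction.stabilizer Γ x ≤ K) : K.index ∣ Nat.card S := by
  classical
  haveI := Fintype.ofFinite (MulAction.orbitRel.Quotient Γ S)
  rw [Nat.card_congr (MulAction.selfEquivSigmaOrbitsQuotientStabilizer Γ S), Nat.card_sigma]
  exact Finset.dvd_sum fun ω _ => Subgroup.index_dvd_of_le (h ω.out)

/-- **Counting by the centre.** -/
theorem index_dvd_card_height (hM : IsPModular p M) (hmax : IsMaximalBrauerPair p M B P e)
    (hF : IsBlockFusionSystemOn p M B P e F) (hint : StarIntegral p M e F) (h : ℕ) :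
    ((P ⊓ Subgroup.centralizer (P : Set G) ⊓ F.focalSubgroup).subgroupOf
      (P ⊓ Subgroup.centralizer (P : Set G))).index ∣
      Nat.card {χ : IrrCharacter G // χ ∈ B ∧ blockHeight p B (χ : G → ℂ) = h} := by
  classical
  haveI := focal_subgroupOf_normal (F := F)
  letI : CommGroup (P ⧸ F.focalSubgroup.subgroupOf P) :=
    { (inferInstance : Group (P ⧸ F.focalSubgroup.subgroupOf P)) with
      mul_comm := focal_quotient_comm }
  letI := starAction hM hmax hF hint h
  set Z := P ⊓ Subgroup.centralizer (P : Set G) with hZ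
  let φ : Z →* P ⧸ F.focalSubgroup.subgroupOf P :=
    (QuotientGroup.mk' _).comp (Subgroup.inclusion (inf_le_left : Z ≤ P))
  have hker : φ.ker = (Z ⊓ F.focalSubgroup).subgroupOf Z := by
    ext z
    rw [MonoidHom.mem_ker, Subgroup.mem_subgroupOf, Subgroup.mem_inf]
    show ((Subgroup.inclusion (inf_le_left : Z ≤ P) z : P) : P ⧸ F.focalSubgroup.subgroupOf P) = 1 ↔ _
    rw [QuotientGroup.eq_one_iff, Subgroup.mem_subgroupOf]
    exact ⟨fun hh => ⟨z.2, hh⟩, fun hh => hh.2⟩
  rw [← hker, Subgroup.index_ker]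
  set K := (MonoidHom.domRestrictHom φ.range ℂˣ).ker with hK
  have hKidx : K.index = Nat.card φ.range := by
    have h1 := K.index_mul_card
    rw [hK, CommGroup.card_domRestrictHom_ker, CommGroup.card_monoidHom_of_hasEnoughRootsOfUnity,
      Subgroup.card_eq_card_quotient_mul_card_subgroup φ.range,
      mul_comm (Nat.card _) (Nat.card φ.range)] at h1
    exact Nat.eq_of_mul_eq_mul_right Nat.card_pos h1
  rw [← hKidx]
  refine dvd_card_of_stabilizer_le K fun χ γ hγ => ?_
  have hfix : starFun p M (linWeight p M e (liftChar γ)) (χ.1 : G → ℂ) = (χ.1 : G → ℂ) :=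
    ((exists_star_height hM hmax hF hint (isFocTrivial_liftChar γ) χ).choose_spec).symm.trans
      (congrArg (fun ψ : HeightSet p B h => (ψ.1 : G → ℂ)) hγ)
  rw [hK, MonoidHom.mem_ker]
  refine MonoidHom.ext ?_
  rintro ⟨_, z, rfl⟩
  exact apply_eq_one_of_fixed_center hM hmax hF (isFocTrivial_liftChar γ) χ.2.1 hfix z.2.1 z.2.2

/-- **Counting the characters of height zero.** -/
theorem index_dvd_card_height_zero (hM : IsPModular p M) (hmax : IsMaximalBrauerPair p M B P e)
    (hF : IsBlockFusionSystemOn p M B P e F) (hint : StarIntegral p M e F)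
    (hzero : HeightZeroNonvanishing p M B P) :
    (F.focalSubgroup.subgroupOf P).index ∣
      Nat.card {χ : IrrCharacter G // χ ∈ B ∧ blockHeight p B (χ : G → ℂ) = 0} := by
  classical
  haveI := focal_subgroupOf_normal (F := F)
  letI : CommGroup (P ⧸ F.focalSubgroup.subgroupOf P) :=
    { (inferInstance : Group (P ⧸ F.focalSubgroup.subgroupOf P)) with
      mul_comm := focal_quotient_comm }
  letI := starAction hM hmax hF hint 0
  have h1 : (⊥ : Subgroup (P ⧸ F.focalSubgroup.subgroupOf P →* ℂˣ)).index =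
      (F.focalSubgroup.subgroupOf P).index := by
    rw [Subgroup.index_bot, CommGroup.card_monoidHom_of_hasEnoughRootsOfUnity,
      Subgroup.index_eq_card]
  rw [← h1]
  refine dvd_card_of_stabilizer_le ⊥ fun χ γ hγ => ?_
  have hfix : starFun p M (linWeight p M e (liftChar γ)) (χ.1 : G → ℂ) = (χ.1 : G → ℂ) :=
    ((exists_star_height hM hmax hF hint (isFocTrivial_liftChar γ) χ).choose_spec).symm.trans
      (congrArg (fun ψ : HeightSet p B 0 => (ψ.1 : G → ℂ)) hγ)
  rw [Subgroup.mem_bot]
  have h2 := eq_one_of_fixed_height_zero hM hmax hF hzero (isFocTrivial_liftChar γ) χ.2.1 χ.2.2 hfix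
  refine MonoidHom.ext fun q => ?_
  obtain ⟨y, rfl⟩ := QuotientGroup.mk_surjective q
  exact DFunLike.congr_fun h2 y

end Cfsg.Agent.Lib.BrauerStar
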