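import Cfsg.Agent.Lib.BrauerStar.Idem
import Cfsg.Agent.Lib.BrauerStar.Defs
import Cfsg.Agent.Lib.BrauerPairs.Maximal

/-!
# The parts of the value of a class function at an idempotent, sorted by blocks of centralisers
-/

set_option autoImplicit false
set_option linter.unusedSectionVars false
set_option linter.style.haveILetI false

namespace Cfsg.Agent.Lib.BrauerStar

open Cfsg Cfsg.Agent.Lib.Blocks Cfsg.Agent.Lib.Characters Cfsg.Agent.Lib.BrauerPairs

universe u

variable {G : Type u} [Group G] [Fintype G] {M : Ideal AlgInt} [hMp : M.IsPrime] {p : ℕ}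

open scoped Classical in
/-- The idempotent of a set of characters of a subgroup, in the group ring. -/
noncomputable def ef (M : Ideal AlgInt) [M.IsPrime] (K : Subgroup G) (f : Set (IrrCharacter K)) :
    RG M G :=
  if h : ∀ g, MemLocalRing M (subgroupBlockCoeff K f g) then ofFun (subgroupBlockCoeff K f) h else 0

theorem coef_ef (hM : IsPModular p M) {K : Subgroup G} {f : Set (IrrCharacter K)}
    (hf : IsPBlock M f) : coef (ef M K f) = subgroupBlockCoeff K f := by
  classical
  rw [ef, dif_pos (memLocalRing_subgroupBlockCoeff hM hf), coef_ofFun]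

theorem cj_ef (hM : IsPModular p M) {K : Subgroup G} {f : Set (IrrCharacter K)}
    (hf : IsPBlock M f) {v : G} (hv : gconj v (subgroupBlockCoeff K f) = subgroupBlockCoeff K f) :
    cj v (ef M K f) = ef M K f := by
  refine cj_eq_self_iff.2 fun h => ?_
  rw [coef_ef hM hf]
  exact gconj_eq_self_iff.1 hv h

theorem gconj_of_mem {K : Subgroup G} (f : Set (IrrCharacter K)) {v : G} (hv : v ∈ K) :
    gconj v (subgroupBlockCoeff K f) = subgroupBlockCoeff K f :=
  (isPInv_iff_gconj.1 (isPInv_subgroupBlockCoeff_self f)) v hv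

theorem gconj_of_mem_self {Q : Subgroup G}
    (f : Set (IrrCharacter (Subgroup.centralizer (Q : Set G)))) {v : G} (hv : v ∈ Q) :
    gconj v (subgroupBlockCoeff (Subgroup.centralizer (Q : Set G)) f) =
      subgroupBlockCoeff (Subgroup.centralizer (Q : Set G)) f := by
  funext x
  by_cases hx : x ∈ Subgroup.centralizer (Q : Set G)
  · exact gconj_subgroupBlockCoeff_of_mem f hv hx
  · rw [gconj_apply, subgroupBlockCoeff_of_notMem f hx, subgroupBlockCoeff_of_notMem f fun h =>
      hx ((mem_centralizer_conj_iff (Subgroup.le_normalizer hv) x).2 h)]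

variable {V : Subgroup G} {s : G}
  {f f' : Set (IrrCharacter (Subgroup.centralizer (V : Set G)))}

theorem ef_mem (hM : IsPModular p M) (hs : s ∈ Subgroup.centralizer (V : Set G))
    (hf : IsPBlock M f) : ef M (Subgroup.centralizer (V : Set G)) f ∈ fixV M V s :=
  mem_fixV.2 ⟨fun v hv => cj_ef hM hf (gconj_of_mem_self f hv),
    cj_ef hM hf (gconj_of_mem f hs)⟩

theorem ef_mul_self (hM : IsPModular p M) {K : Subgroup G} {f : Set (IrrCharacter K)}
    (hf : IsPBlock M f) : ef M K f * ef M K f = ef M K f :=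
  coef_injective (by rw [coef_mul, coef_ef hM hf, conv_subgroupBlockCoeff_self])

theorem ef_mul_ne (hM : IsPModular p M) {K : Subgroup G} {f f' : Set (IrrCharacter K)}
    (hf : IsPBlock M f) (hf' : IsPBlock M f') (hne : f ≠ f') : ef M K f * ef M K f' = 0 :=
  coef_injective (by
    rw [coef_mul, coef_ef hM hf, coef_ef hM hf', conv_subgroupBlockCoeff_eq_zero hf hf' hne,
      coef_zero])

theorem sum_ef (hM : IsPModular p M) (K : Subgroup G) [Fintype (Bl M K)] :
    ∑ f : Bl M K, ef M K f.1 = (1 : RG M G) := by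
  classical
  refine coef_injective ?_
  rw [coef_sum, Finset.sum_congr rfl fun (f : Bl M K) _ => coef_ef hM f.2, sum_subgroupBlockCoeff]
  funext g
  rw [← el_one, el, MonoidAlgebra.of_apply, coef_single, deltaOne_apply]
  by_cases h : g = 1
  · subst h; simp
  · rw [if_neg h, if_neg (Ne.symm h)]

/-- **Block idempotents are central modulo the Brauer congruence.** -/
theorem brZero_comm_ef (hM : IsPModular p M) (hV : IsPGroup p V)
    (hs : s ∈ Subgroup.centralizer (V : Set G)) (hf : IsPBlock M f) {x : RG M G}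
    (hx : x ∈ fixV M V s) :
    BrZero V (x * ef M (Subgroup.centralizer (V : Set G)) f -
      ef M (Subgroup.centralizer (V : Set G)) f * x) := by
  classical
  intro g hg
  set e := ef M (Subgroup.centralizer (V : Set G)) f with he
  have hes := ef_mem hM hs hf
  have h1 := trunc_conv_congr hM V hV (memLocalRing_coef x) (memLocalRing_coef e) (isPInv_coef hx)
    (isPInv_coef hes) g
  have h2 := trunc_conv_congr hM V hV (memLocalRing_coef e) (memLocalRing_coef x) (isPInv_coef hes)
    (isPInv_coef hx) g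
  rw [trunc_of_mem hg] at h1 h2
  have hcomm : conv (trunc V (coef x)) (trunc V (coef e)) g =
      conv (trunc V (coef e)) (trunc V (coef x)) g := by
    have hte : trunc V (coef e) = coef e := by
      funext c
      by_cases hc : c ∈ Subgroup.centralizer (V : Set G)
      · rw [trunc_of_mem hc]
      · rw [trunc_of_notMem hc, coef_ef hM hf, subgroupBlockCoeff_of_notMem f hc]
    rw [hte]
    simp only [conv]
    refine Fintype.sum_equiv ((Equiv.inv G).trans (Equiv.mulLeft g)) _ _ fun c => ?_
    show trunc V (coef x) c * coef e (c⁻¹ * g) = coef e (g * c⁻¹) * trunc V (coef x) ((g * c⁻¹)⁻¹ * g)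
    rw [show (g * c⁻¹)⁻¹ * g = c by group]
    by_cases hc : c ∈ Subgroup.centralizer (V : Set G)
    · rw [mul_comm, coef_ef hM hf, ← isPInv_subgroupBlockCoeff_self f c hc (c⁻¹ * g),
        show c * (c⁻¹ * g) * c⁻¹ = g * c⁻¹ by group]
    · rw [trunc_of_notMem hc, zero_mul, mul_zero]
  rw [coef_sub, Pi.sub_apply, coef_mul, coef_mul]
  have h3 := memLocalIdeal_sub h1 h2
  rw [hcomm] at h3
  simpa using h3

/-- An element of the group ring killed on the section by every class function outside `V`. -/
theorem brZero_trans {x y z : RG M G} (h1 : BrZero V (x - y)) (h2 : BrZero V (y - z)) :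
    BrZero V (x - z) := by simpa using h1.add h2

theorem brZero_symm {x y : RG M G} (h : BrZero V (x - y)) : BrZero V (y - x) := by
  simpa using h.neg

/-- The piece of `x` in the block `f`. -/
def IsPiece (M : Ideal AlgInt) [M.IsPrime] (V : Subgroup G) (s : G)
    (f : Set (IrrCharacter (Subgroup.centralizer (V : Set G)))) (x y : RG M G) : Prop :=
  y ∈ fixV M V s ∧ y * y = y ∧
    BrZero V (y - x * ef M (Subgroup.centralizer (V : Set G)) f * x)

theorem exists_isPiece (hM : IsPModular p M) (hV : IsPGroup p V)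
    (hs : s ∈ Subgroup.centralizer (V : Set G)) (hf : IsPBlock M f) {x : RG M G}
    (hx : x ∈ fixV M V s) (hxx : x * x = x) : ∃ y, IsPiece M V s f x y := by
  set e := ef M (Subgroup.centralizer (V : Set G)) f with he
  have hes : e ∈ fixV M V s := ef_mem hM hs hf
  have hc : BrZero V (x * e * x * (x * e * x) - x * e * x) := by
    have hD : e * x - x * e ∈ fixV M V s := sub_mem (mul_mem hes hx) (mul_mem hx hes)
    have h0 : BrZero V (e * x - x * e) := brZero_symm (brZero_comm_ef hM hV hs hf hx)
    have h1 := (h0.mul_left hM hV hx hD).mul_right hM hV (mul_mem hx hD) (mul_mem hes hx)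
    have e1 : x * e * x * (x * e * x) = x * (e * x) * (e * x) := by
      rw [show x * e * x * (x * e * x) = x * e * (x * x) * e * x by simp only [mul_assoc], hxx]
      simp only [mul_assoc]
    have e2 : x * (x * e) * (e * x) = x * e * x := by
      rw [← mul_assoc x x e, hxx, show x * e * (e * x) = x * (e * e) * x by simp only [mul_assoc],
        ef_mul_self hM hf]
    rw [mul_sub, sub_mul, e2, ← e1] at h1
    exact h1
  obtain ⟨y, hy, hyy, -, -, hyc⟩ := exists_piece hM hV hx hes hxx hc
  exact ⟨y, hy, hyy, hyc⟩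

/-! ### The parts of the values -/

variable {u : G}

open scoped Classical in
/-- The value on the section of the piece of `x` in the block `f`. -/
noncomputable def pieceEv (χ : G → ℂ) (u s : G)
    (f : Set (IrrCharacter (Subgroup.centralizer (Subgroup.zpowers u : Set G)))) (x : RG M G) : ℂ :=
  if h : ∃ y, IsPiece M (Subgroup.zpowers u) s f x y then ev χ (el (u * s) * h.choose) else 0

theorem pieceEv_eq (hM : IsPModular p M) (hd : SecData p u s) {χ : G → ℂ}
    (hχ : IsClassFunction G χ)
    {f : Set (IrrCharacter (Subgroup.centralizer (Subgroup.zpowers u : Set G)))} {x y : RG M G}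
    (hy : IsPiece M (Subgroup.zpowers u) s f x y) :
    pieceEv χ u s f x = ev χ (el (u * s) * y) := by
  classical
  have h : ∃ y, IsPiece M (Subgroup.zpowers u) s f x y := ⟨y, hy⟩
  rw [pieceEv, dif_pos h]
  exact ev_eq_of_congr hM hd hχ h.choose_spec.1 hy.1 h.choose_spec.2.1 hy.2.1
    (brZero_trans h.choose_spec.2.2 (brZero_symm hy.2.2))

theorem SecData.mem_centralizer (hd : SecData p u s) :
    s ∈ Subgroup.centralizer (Subgroup.zpowers u : Set G) :=
  mem_centralizer_zpowers_iff.2 hd.comm

/-- The pieces of an orthogonal sum. -/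
theorem pieceEv_sum (hM : IsPModular p M) (hd : SecData p u s) {χ : G → ℂ}
    (hχ : IsClassFunction G χ)
    {f : Set (IrrCharacter (Subgroup.centralizer (Subgroup.zpowers u : Set G)))} (hf : IsPBlock M f)
    (T : Finset (RG M G)) (hT : ∀ l ∈ T, l ∈ fixV M (Subgroup.zpowers u) s ∧ l * l = l)
    (horth : ∀ l ∈ T, ∀ m ∈ T, l ≠ m → l * m = 0) :
    pieceEv χ u s f (∑ l ∈ T, l) = ∑ l ∈ T, pieceEv χ u s f l := by
  classical
  set S := fixV M (Subgroup.zpowers u) s with hSdef
  set e := ef M (Subgroup.centralizer (Subgroup.zpowers u : Set G)) f with he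
  have hV := hd.isPGroup
  have hes : e ∈ S := ef_mem hM hd.mem_centralizer hf
  have hex : ∀ l ∈ T, ∃ y, y ∈ S ∧ y * y = y ∧ l * y = y ∧ y * l = y ∧
      BrZero (Subgroup.zpowers u) (y - l * e * l) := by
    intro l hl
    obtain ⟨y₀, hy₀⟩ := exists_isPiece hM hV hd.mem_centralizer hf (hT l hl).1 (hT l hl).2
    have hc : BrZero (Subgroup.zpowers u) (l * e * l * (l * e * l) - l * e * l) := by
      have hle : l * e * l ∈ S := mul_mem (mul_mem (hT l hl).1 hes) (hT l hl).1
      have h1 := hy₀.2.2
      have h2 := ((h1.mul_left hM hV hle (sub_mem hy₀.1 hle)).add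
        (h1.mul_right hM hV (sub_mem hy₀.1 hle) hy₀.1)).neg.add h1
      convert h2 using 1
      rw [mul_sub, sub_mul, hy₀.2.1]
      abel
    exact exists_piece hM hV (hT l hl).1 hes (hT l hl).2 hc
  choose! Y hYS hYY hYl hYr hYc using hex
  have hpiece : IsPiece M (Subgroup.zpowers u) s f (∑ l ∈ T, l) (∑ l ∈ T, Y l) := by
    refine ⟨sum_mem hYS, ?_, ?_⟩
    · rw [Finset.sum_mul]
      refine Finset.sum_congr rfl fun l hl => ?_
      rw [Finset.mul_sum, Finset.sum_eq_single l ?_ (fun h => absurd hl h), hYY l hl]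
      intro m hm hne
      rw [← hYr l hl, ← hYl m hm, mul_assoc, ← mul_assoc l m, horth l hl m hm (Ne.symm hne),
        zero_mul, mul_zero]
    · have hcross : ∀ l ∈ T, ∀ m ∈ T, l ≠ m → BrZero (Subgroup.zpowers u) (l * e * m) := by
        intro l hl m hm hne
        have hdS : e * m - m * e ∈ S :=
          sub_mem (mul_mem hes (hT m hm).1) (mul_mem (hT m hm).1 hes)
        have h1 := (brZero_comm_ef hM hV hd.mem_centralizer hf (hT m hm).1).neg
        rw [neg_sub] at h1
        have h2 := h1.mul_left hM hV (hT l hl).1 hdS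
        convert h2 using 1
        rw [mul_sub, ← mul_assoc l m, horth l hl m hm hne, zero_mul, sub_zero, mul_assoc]
      have h3 : BrZero (Subgroup.zpowers u) ((∑ l ∈ T, Y l) - ∑ l ∈ T, l * e * l) := by
        rw [← Finset.sum_sub_distrib]
        exact BrZero.sum T hYc
      refine brZero_trans h3 ?_
      rw [Finset.sum_mul, Finset.sum_mul, ← Finset.sum_sub_distrib]
      refine BrZero.sum T fun l hl => ?_
      rw [Finset.mul_sum, ← Finset.add_sum_erase T (fun m => l * e * m) hl, sub_add_cancel_left]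
      exact (BrZero.sum _ fun m hm => hcross l hl m (Finset.mem_of_mem_erase hm)
        (Ne.symm (Finset.ne_of_mem_erase hm))).neg
  rw [pieceEv_eq hM hd hχ hpiece, Finset.mul_sum, ev_sum]
  exact Finset.sum_congr rfl fun l hl =>
    (pieceEv_eq hM hd hχ ⟨hYS l hl, hYY l hl, hYc l hl⟩).symm

/-- The pieces of equivalent idempotents. -/
theorem pieceEv_equiv (hM : IsPModular p M) (hd : SecData p u s) {χ : G → ℂ}
    (hχ : IsClassFunction G χ)
    {f : Set (IrrCharacter (Subgroup.centralizer (Subgroup.zpowers u : Set G)))} (hf : IsPBlock M f)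
    {S₀ : Subalgebra (locSubring M) (RG M G)} (hS₀ : S₀ ≤ fixV M (Subgroup.zpowers u) s)
    {x y : RG M G} (hxy : IsEquivIn S₀ x y) :
    pieceEv χ u s f x = pieceEv χ u s f y := by
  classical
  obtain ⟨α, β, ⟨hαS, hxα, hαy⟩, ⟨hβS, hyβ, hβx⟩, hab, hba⟩ := hxy
  set S := fixV M (Subgroup.zpowers u) s
  have hα : α ∈ S := hS₀ hαS
  have hβ : β ∈ S := hS₀ hβS
  have hx : x ∈ S := hab ▸ mul_mem hα hβ
  have hy : y ∈ S := hba ▸ mul_mem hβ hα
  have hxx : x * x = x := by
    conv_lhs => arg 2; rw [← hab]
    rw [← mul_assoc, hxα, hab]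
  have hyy : y * y = y := by
    conv_lhs => arg 2; rw [← hba]
    rw [← mul_assoc, hyβ, hba]
  set e := ef M (Subgroup.centralizer (Subgroup.zpowers u : Set G)) f with he
  have hes : e ∈ S := ef_mem hM hd.mem_centralizer hf
  have hV := hd.isPGroup
  obtain ⟨z₀, hz₀⟩ := exists_isPiece hM hV hd.mem_centralizer hf hx hxx
  have hc : BrZero (Subgroup.zpowers u) (x * e * x * (x * e * x) - x * e * x) := by
    have hle : x * e * x ∈ S := mul_mem (mul_mem hx hes) hx
    have h1 := hz₀.2.2
    have h2 := ((h1.mul_left hM hV hle (sub_mem hz₀.1 hle)).add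
      (h1.mul_right hM hV (sub_mem hz₀.1 hle) hz₀.1)).neg.add h1
    convert h2 using 1
    rw [mul_sub, sub_mul, hz₀.2.1]
    abel
  obtain ⟨z, hzS, hzz, hxz, hzx, hzc⟩ := exists_piece hM hV hx hes hxx hc
  have hpiece : IsPiece M (Subgroup.zpowers u) s f y (β * z * α) := by
    refine ⟨mul_mem (mul_mem hβ hzS) hα, ?_, ?_⟩
    · rw [show β * z * α * (β * z * α) = β * (z * (α * β) * z) * α by simp only [mul_assoc], hab,
        hzx, hzz]
    · have hD : z - x * e * x ∈ S := sub_mem hzS (mul_mem (mul_mem hx hes) hx)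
      have h1 := (hzc.mul_left hM hV hβ hD).mul_right hM hV (mul_mem hβ hD) hα
      have e1 : β * (z - x * e * x) * α = β * z * α - β * e * α := by
        rw [mul_sub, sub_mul, show β * (x * e * x) * α = (β * x) * e * (x * α) by
          simp only [mul_assoc], hβx, hxα]
      rw [e1] at h1
      refine brZero_trans h1 ?_
      have hcS : α * e - e * α ∈ S := sub_mem (mul_mem hα hes) (mul_mem hes hα)
      have h2 : BrZero (Subgroup.zpowers u) (β * e * α - y * e) := by
        convert ((brZero_comm_ef hM hV hd.mem_centralizer hf hα).mul_left hM hV hβ hcS).neg using 1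
        rw [mul_sub, ← mul_assoc, ← mul_assoc, hba, neg_sub]
      have hcy : y * e - e * y ∈ S := sub_mem (mul_mem hy hes) (mul_mem hes hy)
      refine brZero_trans h2 ?_
      convert (brZero_comm_ef hM hV hd.mem_centralizer hf hy).mul_left hM hV hy hcy using 1
      rw [mul_sub, ← mul_assoc y y, hyy, ← mul_assoc]
  have hcommβ : el (u * s) * β = β * el (u * s) := by
    refine (commute_el_iff.2 ?_).eq
    rw [cj_mul, (mem_fixV.1 hβ).2, (mem_fixV.1 hβ).1 u (Subgroup.mem_zpowers u)]
  rw [pieceEv_eq hM hd hχ hpiece, pieceEv_eq hM hd hχ ⟨hzS, hzz, hzc⟩]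
  have e3 : el (u * s) * (β * z * α) = β * (el (u * s) * (z * α)) := by
    rw [← mul_assoc, ← mul_assoc, hcommβ]
    simp only [mul_assoc]
  symm
  rw [e3, ev_mul_comm hχ, mul_assoc, mul_assoc, hab, hzx]

theorem pieceEv_eq_zero (hM : IsPModular p M) (hd : SecData p u s) {χ : G → ℂ}
    (hχ : IsClassFunction G χ)
    {f : Set (IrrCharacter (Subgroup.centralizer (Subgroup.zpowers u : Set G)))} {x : RG M G}
    (h : BrZero (Subgroup.zpowers u)
      (x * ef M (Subgroup.centralizer (Subgroup.zpowers u : Set G)) f * x)) :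
    pieceEv χ u s f x = 0 := by
  rw [pieceEv_eq hM hd hχ (y := 0) ⟨Subalgebra.zero_mem _, mul_zero 0, by simpa using h.neg⟩,
    mul_zero, ev_zero]

theorem pieceEv_one (hM : IsPModular p M) (hd : SecData p u s) {χ : G → ℂ}
    (hχ : IsClassFunction G χ)
    {f : Set (IrrCharacter (Subgroup.centralizer (Subgroup.zpowers u : Set G)))}
    (hf : IsPBlock M f) :
    pieceEv χ u s f (1 : RG M G) = pieceVal u f χ (u * s) := by
  rw [pieceEv_eq hM hd hχ (y := ef M (Subgroup.centralizer (Subgroup.zpowers u : Set G)) f)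
    ⟨ef_mem hM hd.mem_centralizer hf, ef_mul_self hM hf,
      by rw [one_mul, mul_one, sub_self]; exact brZero_zero _⟩,
    ev_el_mul, pieceVal, coef_ef hM hf]

/-- The weighted value at an idempotent. -/
noncomputable def Hval (η : PairWeight G) (χ : G → ℂ) (s : G) (x : RG M G) (u : G) : ℂ :=
  ∑ᶠ f : Bl M (Subgroup.centralizer (Subgroup.zpowers u : Set G)),
    η u f.1 * pieceEv χ u s f.1 x

theorem Hval_sum (hM : IsPModular p M) (hd : SecData p u s) (η : PairWeight G) {χ : G → ℂ}
    (hχ : IsClassFunction G χ) (T : Finset (RG M G))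
    (hT : ∀ l ∈ T, l ∈ fixV M (Subgroup.zpowers u) s ∧ l * l = l)
    (horth : ∀ l ∈ T, ∀ m ∈ T, l ≠ m → l * m = 0) :
    Hval η χ s (∑ l ∈ T, l) u = ∑ l ∈ T, Hval η χ s l u := by
  classical
  haveI := Fintype.ofFinite (Bl M (Subgroup.centralizer (Subgroup.zpowers u : Set G)))
  simp only [Hval, finsum_eq_sum_of_fintype]
  rw [Finset.sum_comm]
  refine Finset.sum_congr rfl fun f _ => ?_
  rw [pieceEv_sum hM hd hχ f.2 T hT horth, Finset.mul_sum]

theorem Hval_equiv (hM : IsPModular p M) (hd : SecData p u s) (η : PairWeight G) {χ : G → ℂ}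
    (hχ : IsClassFunction G χ)
    {S₀ : Subalgebra (locSubring M) (RG M G)} (hS₀ : S₀ ≤ fixV M (Subgroup.zpowers u) s)
    {x y : RG M G} (hxy : IsEquivIn S₀ x y) : Hval η χ s x u = Hval η χ s y u :=
  finsum_congr fun f => by rw [pieceEv_equiv hM hd hχ f.2 hS₀ hxy]

theorem Hval_one (hM : IsPModular p M) (hd : SecData p u s) (η : PairWeight G) {χ : G → ℂ}
    (hχ : IsClassFunction G χ) :
    Hval η χ s (1 : RG M G) u = ∑ᶠ f : Bl M (Subgroup.centralizer (Subgroup.zpowers u : Set G)),
      η u f.1 * pieceVal u f.1 χ (u * s) :=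
  finsum_congr fun f => by rw [pieceEv_one hM hd hχ f.2]

end Cfsg.Agent.Lib.BrauerStar
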