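import Cfsg.Agent.Lib.BrauerStar.Algebra
import Cfsg.Agent.Lib.Blocks.PermTrace
import Mathlib.RingTheory.LocalRing.ResidueField.Basic
import Mathlib.LinearAlgebra.Dimension.StrongRankCondition

/-!
# Primitive decompositions, their classes, and the counting lemma modulo `p`
-/

set_option autoImplicit false
set_option linter.unusedSectionVars false

namespace Cfsg.Agent.Lib.BrauerStar

open Polynomial

variable {R : Type*} [CommRing R] [IsLocalRing R]
variable {A : Type*} [Ring A] [Algebra R A] [Module.Finite R A]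
variable {S : Subalgebra R A}

/-- An orthogonal family of primitive idempotents of `S` with sum `e`. -/
structure IsDecomp (S : Subalgebra R A) (e : A) (T : Finset A) : Prop where
  prim : ∀ l ∈ T, IsPrimIn S l
  orth : ∀ l ∈ T, ∀ m ∈ T, l ≠ m → l * m = 0
  sum : ∑ l ∈ T, l = e

omit [IsLocalRing R] [Module.Finite R A] in
theorem sum_mul_of_orth {T : Finset A} (horth : ∀ l ∈ T, ∀ m ∈ T, l ≠ m → l * m = 0)
    {l : A} (hl : l ∈ T) (hll : l * l = l) :
    (∑ m ∈ T, m) * l = l ∧ l * (∑ m ∈ T, m) = l := by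
  refine ⟨?_, ?_⟩
  · rw [Finset.sum_mul, Finset.sum_eq_single l (fun m hm hne => horth m hm l hl hne)
      (fun h => absurd hl h), hll]
  · rw [Finset.mul_sum, Finset.sum_eq_single l (fun m hm hne => horth l hl m hm (Ne.symm hne))
      (fun h => absurd hl h), hll]

theorem IsDecomp.mul_left {e : A} {T : Finset A} (h : IsDecomp S e T) {l : A} (hl : l ∈ T) :
    e * l = l := h.sum ▸ (sum_mul_of_orth h.orth hl (h.prim l hl).idem).1

theorem IsDecomp.mul_right {e : A} {T : Finset A} (h : IsDecomp S e T) {l : A} (hl : l ∈ T) :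
    l * e = l := h.sum ▸ (sum_mul_of_orth h.orth hl (h.prim l hl).idem).2

/-- Orthogonal nonzero idempotents are linearly independent. -/
theorem card_le_finrank [IsDomain R] (hT : ∀ (r : R) (a : A), r • a = 0 → r = 0 ∨ a = 0)
    {T : Finset A} (hid : ∀ l ∈ T, l * l = l) (h0 : (0 : A) ∉ T)
    (horth : ∀ l ∈ T, ∀ m ∈ T, l ≠ m → l * m = 0) :
    T.card ≤ Module.finrank R A := by
  classical
  have hli : LinearIndependent R (fun l : T => (l : A)) := by
    rw [Fintype.linearIndependent_iff]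
    intro g hg l
    have h := congrArg (fun x => x * (l : A)) hg
    simp only [Finset.sum_mul, zero_mul, smul_mul_assoc] at h
    rw [Finset.sum_eq_single l (fun m _ hne => by
      rw [horth m m.2 l l.2 (fun e => hne (Subtype.ext e)), smul_zero])
      (fun hh => absurd (Finset.mem_univ l) hh), hid l l.2] at h
    exact (hT _ _ h).resolve_right fun e => h0 (e ▸ l.2)
  simpa using hli.fintype_card_le_finrank

/-- **Primitive decompositions exist.** -/
theorem exists_isDecomp [IsDomain R] (hT : ∀ (r : R) (a : A), r • a = 0 → r = 0 ∨ a = 0)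
    {e : A} (he : e ∈ S) (hee : e * e = e) : ∃ T : Finset A, IsDecomp S e T := by
  classical
  let Fam : Finset A → Prop := fun T => (∀ l ∈ T, l ∈ S ∧ l * l = l) ∧ (0 : A) ∉ T ∧
    (∀ l ∈ T, ∀ m ∈ T, l ≠ m → l * m = 0) ∧ ∑ l ∈ T, l = e
  let N : Set ℕ := {n | ∃ T, Fam T ∧ T.card = n}
  have hbdd : BddAbove N := ⟨Module.finrank R A, by
    rintro n ⟨T, ⟨h1, h2, h3, -⟩, rfl⟩
    exact card_le_finrank hT (fun l hl => (h1 l hl).2) h2 h3⟩
  have hne : N.Nonempty := by
    by_cases h0 : e = 0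
    · exact ⟨0, ∅, ⟨by simp, by simp, by simp, by simp [h0]⟩, rfl⟩
    · refine ⟨1, {e}, ⟨?_, by simpa using Ne.symm h0, ?_, by simp⟩, rfl⟩
      · simpa using ⟨he, hee⟩
      · simp
  obtain ⟨T, ⟨h1, h2, h3, h4⟩, hcard⟩ := Nat.sSup_mem hne hbdd
  refine ⟨T, fun l hl => ⟨(h1 l hl).1, (h1 l hl).2, fun h => h2 (h ▸ hl), ?_⟩, h3, h4⟩
  intro f hf hff hlf hfl
  by_contra hcon
  rw [not_or] at hcon
  set g := l - f with hg
  have hgS : g ∈ S := S.sub_mem (h1 l hl).1 hf
  have hgg : g * g = g := by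
    rw [hg, mul_sub, sub_mul, sub_mul, (h1 l hl).2, hfl, hlf, hff]; abel
  have hfg : f * g = 0 := by rw [hg, mul_sub, hfl, hff, sub_self]
  have hgf : g * f = 0 := by rw [hg, sub_mul, hlf, hff, sub_self]
  have hg0 : g ≠ 0 := fun h => hcon.2 (sub_eq_zero.1 (hg ▸ h)).symm
  have hgf' : f ≠ g := fun h => hcon.1 (by rw [← hff]; nth_rw 2 [h]; exact hfg)
  have hgl : g * l = g := by rw [hg, sub_mul, (h1 l hl).2, hfl]
  have hlg : l * g = g := by rw [hg, mul_sub, (h1 l hl).2, hlf]
  have hrest : ∀ x ∈ T.erase l, x * f = 0 ∧ f * x = 0 ∧ x * g = 0 ∧ g * x = 0 := fun x hx => by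
    obtain ⟨hne, hxT⟩ := Finset.mem_erase.1 hx
    refine ⟨?_, ?_, ?_, ?_⟩
    · rw [← hlf, ← mul_assoc, h3 x hxT l hl hne, zero_mul]
    · rw [← hfl, mul_assoc, h3 l hl x hxT (Ne.symm hne), mul_zero]
    · rw [← hlg, ← mul_assoc, h3 x hxT l hl hne, zero_mul]
    · rw [← hgl, mul_assoc, h3 l hl x hxT (Ne.symm hne), mul_zero]
  have hfT : f ∉ T.erase l := fun h => hcon.1 (by rw [← hff]; exact (hrest f h).1)
  have hgT : g ∉ T.erase l := fun h => hg0 (by rw [← hgg]; exact (hrest g h).2.2.1)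
  have hmem : T.card + 1 ∈ N := by
    refine ⟨insert f (insert g (T.erase l)), ⟨?_, ?_, ?_, ?_⟩, ?_⟩
    · intro x hx
      rcases Finset.mem_insert.1 hx with rfl | hx
      · exact ⟨hf, hff⟩
      rcases Finset.mem_insert.1 hx with rfl | hx
      · exact ⟨hgS, hgg⟩
      exact h1 x (Finset.mem_erase.1 hx).2
    · simp only [Finset.mem_insert, not_or]
      exact ⟨Ne.symm hcon.1, Ne.symm hg0, fun h => h2 (Finset.mem_erase.1 h).2⟩
    · intro x hx y hy hxy
      simp only [Finset.mem_insert] at hx hy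
      rcases hx with rfl | rfl | hx <;> rcases hy with rfl | rfl | hy
      · exact absurd rfl hxy
      · exact hfg
      · exact (hrest y hy).2.1
      · exact hgf
      · exact absurd rfl hxy
      · exact (hrest y hy).2.2.2
      · exact (hrest x hx).1
      · exact (hrest x hx).2.2.1
      · exact h3 x (Finset.mem_erase.1 hx).2 y (Finset.mem_erase.1 hy).2 hxy
    · rw [Finset.sum_insert (by simp [hfT, hgf']), Finset.sum_insert hgT, ← add_assoc, hg,
        add_sub_cancel, Finset.add_sum_erase T (fun x => x) hl, h4]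
    · rw [Finset.card_insert_of_notMem (by simp [hfT, hgf']), Finset.card_insert_of_notMem hgT,
        Finset.card_erase_add_one hl]
  have := le_csSup hbdd hmem
  omega

/-! ### The residue of a corner -/

section Residue

variable {i c d : A}

omit [IsLocalRing R] [Module.Finite R A] in
theorem smul_corner (hi : IsPrimIn S i) (r : R) :
    r • i ∈ S ∧ i * (r • i) = r • i ∧ (r • i) * i = r • i := by
  refine ⟨S.smul_mem hi.mem r, ?_, ?_⟩
  · rw [mul_smul_comm, hi.idem]
  · rw [smul_mul_assoc, hi.idem]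

/-- The corner of `S` at `i`. -/
def InCorner (S : Subalgebra R A) (i j c : A) : Prop := c ∈ S ∧ i * c = c ∧ c * j = c

theorem InCorner.mul {i j k x y : A} (hx : InCorner S i j x) (hy : InCorner S j k y) :
    InCorner S i k (x * y) :=
  ⟨S.mul_mem hx.1 hy.1, by rw [← mul_assoc, hx.2.1], by rw [mul_assoc, hy.2.2]⟩

theorem InCorner.sub {i j x y : A} (hx : InCorner S i j x) (hy : InCorner S i j y) :
    InCorner S i j (x - y) :=
  ⟨S.sub_mem hx.1 hy.1, by rw [mul_sub, hx.2.1, hy.2.1], by rw [sub_mul, hx.2.2, hy.2.2]⟩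

theorem InCorner.add {i j x y : A} (hx : InCorner S i j x) (hy : InCorner S i j y) :
    InCorner S i j (x + y) :=
  ⟨S.add_mem hx.1 hy.1, by rw [mul_add, hx.2.1, hy.2.1], by rw [add_mul, hx.2.2, hy.2.2]⟩

theorem inCorner_smul (hi : IsPrimIn S i) (r : R) : InCorner S i i (r • i) := smul_corner hi r

theorem inCorner_self (hi : IsPrimIn S i) : InCorner S i i i := ⟨hi.mem, hi.idem, hi.idem⟩


theorem not_isUnitIn_mul_right (hi : IsPrimIn S i) {x y : A} (hx : InCorner S i i x)
    (hy : InCorner S i i y) (h : IsUnitIn S i (x * y)) : IsUnitIn S i y := by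
  obtain ⟨a, ha, hal, har, -, h⟩ := h
  exact hi.isUnitIn_of_left hy.1 hy.2.1 hy.2.2 (S.mul_mem ha hx.1) (by rw [← mul_assoc, hal])
    (by rw [mul_assoc, hx.2.2]) (by rw [mul_assoc, h])

theorem not_isUnitIn_mul_left (hi : IsPrimIn S i) {x y : A} (hx : InCorner S i i x)
    (hy : InCorner S i i y) (h : IsUnitIn S i (x * y)) : IsUnitIn S i x := by
  obtain ⟨a, ha, hal, har, h, -⟩ := h
  have hyai : IsUnitIn S i (y * a) := by
    refine hi.isUnitIn_of_left (S.mul_mem hy.1 ha) (by rw [← mul_assoc, hy.2.1])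
      (by rw [mul_assoc, har]) hx.1 hx.2.1 hx.2.2 ?_
    rw [← mul_assoc, h]
  obtain ⟨b, -, hbl, -, hb, -⟩ := hyai
  have hxb : x = b := by
    calc x = x * i := hx.2.2.symm
      _ = x * (y * a * b) := by rw [hb]
      _ = (x * y * a) * b := by simp only [mul_assoc]
      _ = b := by rw [h, hbl]
  refine ⟨y * a, S.mul_mem hy.1 ha, by rw [← mul_assoc, hy.2.1], by rw [mul_assoc, har],
    by rw [← mul_assoc, h], ?_⟩
  rw [hxb, hb]

theorem exists_residue (hR : MonicSplits R) (hi : IsPrimIn S i) (hc : InCorner S i i c) :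
    ∃ r : R, ¬ IsUnitIn S i (c - r • i) := by
  classical
  obtain ⟨f, hf, hfc⟩ := Algebra.IsIntegral.isIntegral (R := R) c
  obtain ⟨m, hm⟩ := hR f hf
  by_contra hcon
  simp only [not_exists, not_not] at hcon
  suffices key : ∀ s : Multiset R, IsUnitIn S i (aeval c (s.map fun r => X - C r).prod * i) by
    have := key m
    rw [← hm, show aeval c f = 0 from hfc, zero_mul] at this
    exact hi.not_isUnitIn_zero this
  intro s
  induction s using Multiset.induction_on with
  | empty =>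
    simp only [Multiset.map_zero, Multiset.prod_zero, map_one, one_mul]
    exact ⟨i, hi.mem, hi.idem, hi.idem, hi.idem, hi.idem⟩
  | cons r s ih =>
    obtain ⟨a, ha, hal, har, ha1, ha2⟩ := ih
    obtain ⟨b, hb, hbl, hbr, hb1, hb2⟩ := hcon r
    set q := (s.map fun r => X - C r).prod with hq
    have hcomm : Commute i (aeval c q) := commute_aeval (hc.2.1.trans hc.2.2.symm) q
    have e : aeval c ((r ::ₘ s).map fun r => X - C r).prod * i =
        (c - r • i) * (aeval c q * i) := by
      rw [Multiset.map_cons, Multiset.prod_cons, map_mul, map_sub, aeval_X, aeval_C,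
        Algebra.algebraMap_eq_smul_one, mul_assoc, sub_mul, sub_mul, smul_mul_assoc,
        smul_mul_assoc, one_mul, ← mul_assoc i, hcomm.eq, mul_assoc _ i i, hi.idem]
    rw [e]
    refine ⟨a * b, S.mul_mem ha hb, by rw [← mul_assoc, hal], by rw [mul_assoc, hbr], ?_, ?_⟩
    · calc (c - r • i) * (aeval c q * i) * (a * b)
          = (c - r • i) * ((aeval c q * i) * a * b) := by simp only [mul_assoc]
        _ = i := by rw [ha1, hbl, hb1]
    · calc a * b * ((c - r • i) * (aeval c q * i))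
          = a * ((b * (c - r • i)) * (aeval c q * i)) := by simp only [mul_assoc]
        _ = i := by rw [hb2, ← mul_assoc i, hcomm.eq, mul_assoc _ i i, hi.idem, ha2]

open scoped Classical in
/-- The residue of a corner element. -/
noncomputable def rho (S : Subalgebra R A) (i c : A) : IsLocalRing.ResidueField R :=
  if h : ∃ r : R, ¬ IsUnitIn S i (c - r • i) then IsLocalRing.residue R h.choose else 0

theorem rho_eq (hR : MonicSplits R) (hi : IsPrimIn S i) (hc : InCorner S i i c) {r : R}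
    (h : ¬ IsUnitIn S i (c - r • i)) : rho S i c = IsLocalRing.residue R r := by
  classical
  have hex : ∃ r : R, ¬ IsUnitIn S i (c - r • i) := ⟨r, h⟩
  rw [rho, dif_pos hex, ← sub_eq_zero, ← map_sub, IsLocalRing.residue_eq_zero_iff,
    IsLocalRing.mem_maximalIdeal, mem_nonunits_iff]
  rintro ⟨u, hu⟩
  have hus : IsUnitIn S i ((u : R) • i) := by
    obtain ⟨h1, h2, h3⟩ := smul_corner hi ((u⁻¹ : Rˣ) : R)
    exact ⟨_, h1, h2, h3, by rw [smul_mul_smul_comm, Units.mul_inv, one_smul, hi.idem],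
      by rw [smul_mul_smul_comm, Units.inv_mul, one_smul, hi.idem]⟩
  have e : (u : R) • i = (c - r • i) + ((hex.choose • i) - c) := by
    rw [hu, sub_smul]; abel
  rw [e] at hus
  obtain ⟨hc1, hc2, hc3⟩ := hc.sub (inCorner_smul hi r)
  obtain ⟨hd1, hd2, hd3⟩ := (inCorner_smul hi hex.choose).sub hc
  rcases hi.isUnitIn_or hR hc1 hc2 hc3 hd1 hd2 hd3 hus with h' | ⟨a, ha, hal, har, ha1, ha2⟩
  · exact h h'
  · refine hex.choose_spec ⟨-a, S.neg_mem ha, by rw [mul_neg, hal], by rw [neg_mul, har], ?_, ?_⟩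
    · rw [mul_neg, ← neg_mul, neg_sub, ha1]
    · rw [neg_mul, ← mul_neg, neg_sub, ha2]

theorem rho_zero_of_nonunit (hR : MonicSplits R) (hi : IsPrimIn S i) (hc : InCorner S i i c)
    (h : ¬ IsUnitIn S i c) : rho S i c = 0 := by
  rw [rho_eq hR hi hc (r := 0) (by rwa [zero_smul, sub_zero]), map_zero]

theorem rho_self (hR : MonicSplits R) (hi : IsPrimIn S i) : rho S i i = 1 := by
  rw [rho_eq hR hi (inCorner_self hi) (r := 1)
    (by rw [one_smul, sub_self]; exact hi.not_isUnitIn_zero), map_one]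

theorem rho_add (hR : MonicSplits R) (hi : IsPrimIn S i) (hc : InCorner S i i c)
    (hd : InCorner S i i d) : rho S i (c + d) = rho S i c + rho S i d := by
  obtain ⟨r, hr⟩ := exists_residue hR hi hc
  obtain ⟨s, hs⟩ := exists_residue hR hi hd
  rw [rho_eq hR hi hc hr, rho_eq hR hi hd hs, ← map_add]
  refine rho_eq hR hi (hc.add hd) fun h => ?_
  rw [show c + d - (r + s) • i = (c - r • i) + (d - s • i) by rw [add_smul]; abel] at h
  obtain ⟨hc1, hc2, hc3⟩ := hc.sub (inCorner_smul hi r)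
  obtain ⟨hd1, hd2, hd3⟩ := hd.sub (inCorner_smul hi s)
  exact (hi.isUnitIn_or hR hc1 hc2 hc3 hd1 hd2 hd3 h).elim hr hs

theorem rho_mul (hR : MonicSplits R) (hi : IsPrimIn S i) (hc : InCorner S i i c)
    (hd : InCorner S i i d) : rho S i (c * d) = rho S i c * rho S i d := by
  obtain ⟨r, hr⟩ := exists_residue hR hi hc
  obtain ⟨s, hs⟩ := exists_residue hR hi hd
  rw [rho_eq hR hi hc hr, rho_eq hR hi hd hs, ← map_mul]
  refine rho_eq hR hi (hc.mul hd) fun h => ?_
  have hA := hc.sub (inCorner_smul hi r)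
  have hB := hd.sub (inCorner_smul hi s)
  have hC := (inCorner_smul hi r).mul hB
  rw [show c * d - (r * s) • i = (c - r • i) * d + (r • i) * (d - s • i) by
    rw [sub_mul, mul_sub, smul_mul_smul_comm, hi.idem]; abel] at h
  rcases hi.isUnitIn_or hR (hA.mul hd).1 (hA.mul hd).2.1 (hA.mul hd).2.2 hC.1 hC.2.1 hC.2.2 h with
    h' | h'
  · exact hr (not_isUnitIn_mul_left hi hA hd h')
  · exact hs (not_isUnitIn_mul_right hi (inCorner_smul hi r) hB h')

theorem rho_sum (hR : MonicSplits R) (hi : IsPrimIn S i) {ι : Type*} (t : Finset ι) (f : ι → A)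
    (hf : ∀ j ∈ t, InCorner S i i (f j)) :
    rho S i (∑ j ∈ t, f j) = ∑ j ∈ t, rho S i (f j) := by
  classical
  induction t using Finset.induction_on with
  | empty =>
    rw [Finset.sum_empty, Finset.sum_empty]
    exact rho_zero_of_nonunit hR hi ⟨S.zero_mem, mul_zero i, zero_mul i⟩ hi.not_isUnitIn_zero
  | insert a t ha ih =>
    have hf' := fun j hj => hf j (Finset.mem_insert_of_mem hj)
    have hs : InCorner S i i (∑ j ∈ t, f j) := ⟨S.sum_mem fun j hj => (hf' j hj).1,
      by rw [Finset.mul_sum]; exact Finset.sum_congr rfl fun j hj => (hf' j hj).2.1,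
      by rw [Finset.sum_mul]; exact Finset.sum_congr rfl fun j hj => (hf' j hj).2.2⟩
    rw [Finset.sum_insert ha, Finset.sum_insert ha,
      rho_add hR hi (hf a (Finset.mem_insert_self a t)) hs, ih hf']

end Residue

/-! ### Equivalent idempotents and the trace of a class -/

/-- Equivalence of idempotents in `S`. -/
def IsEquivIn (S : Subalgebra R A) (i j : A) : Prop :=
  ∃ x y : A, InCorner S i j x ∧ InCorner S j i y ∧ x * y = i ∧ y * x = j

theorem IsEquivIn.symm {i j : A} (h : IsEquivIn S i j) : IsEquivIn S j i := by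
  obtain ⟨x, y, hx, hy, h1, h2⟩ := h
  exact ⟨y, x, hy, hx, h2, h1⟩

theorem IsEquivIn.trans {i j k : A} (h : IsEquivIn S i j) (h' : IsEquivIn S j k) :
    IsEquivIn S i k := by
  obtain ⟨x, y, hx, hy, h1, h2⟩ := h
  obtain ⟨x', y', hx', hy', h1', h2'⟩ := h'
  refine ⟨x * x', y' * y, hx.mul hx', hy'.mul hy, ?_, ?_⟩
  · rw [show x * x' * (y' * y) = x * (x' * y') * y by simp only [mul_assoc], h1', hx.2.2, h1]
  · rw [show y' * y * (x * x') = y' * (y * x) * x' by simp only [mul_assoc], h2, hy'.2.2, h2']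

theorem IsEquivIn.refl {i : A} (hi : IsPrimIn S i) : IsEquivIn S i i :=
  ⟨i, i, inCorner_self hi, inCorner_self hi, hi.idem, hi.idem⟩

theorem isEquivIn_of_isUnitIn {i j x y : A} (hi : IsPrimIn S i) (hj : IsPrimIn S j)
    (hx : InCorner S i j x) (hy : InCorner S j i y) (h : IsUnitIn S i (x * y)) :
    IsEquivIn S i j := by
  obtain ⟨a, ha, hal, har, h, -⟩ := h
  have hya : InCorner S j i (y * a) := hy.mul ⟨ha, hal, har⟩
  have hxy : x * (y * a) = i := by rw [← mul_assoc, h]
  refine ⟨x, y * a, hx, hya, hxy, ?_⟩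
  have hid : y * a * x * (y * a * x) = y * a * x := by
    rw [show y * a * x * (y * a * x) = y * a * (x * (y * a)) * x by simp only [mul_assoc], hxy,
      hya.2.2]
  have hc := hya.mul hx
  rcases hj.eq_or _ hc.1 hid hc.2.1 hc.2.2 with h0 | h0
  · refine absurd ?_ hi.ne_zero
    rw [← hi.idem]
    nth_rw 1 [← hxy]
    nth_rw 1 [← hxy]
    rw [show x * (y * a) * (x * (y * a)) = x * (y * a * x) * (y * a) by simp only [mul_assoc], h0,
      mul_zero, zero_mul]
  · exact h0

variable {l₀ : A} {T : Finset A}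

open scoped Classical in
/-- The contribution of one idempotent to the trace of the class of `l₀`. -/
noncomputable def tauTerm (S : Subalgebra R A) (l₀ l a : A) : IsLocalRing.ResidueField R :=
  if h : IsEquivIn S l l₀ then rho S l₀ (h.choose_spec.choose * a * h.choose) else 0

theorem tauTerm_eq (hR : MonicSplits R) (h₀ : IsPrimIn S l₀) {l a x y : A} (ha : a ∈ S)
    (hl : IsPrimIn S l) (hx : InCorner S l l₀ x) (hy : InCorner S l₀ l y) (h1 : x * y = l)
    (h2 : y * x = l₀) : tauTerm S l₀ l a = rho S l₀ (y * a * x) := by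
  classical
  have h : IsEquivIn S l l₀ := ⟨x, y, hx, hy, h1, h2⟩
  rw [tauTerm, dif_pos h]
  obtain ⟨hx', hy', h1', h2'⟩ := h.choose_spec.choose_spec
  generalize h.choose_spec.choose = y' at hx' hy' h1' h2' ⊢
  generalize h.choose = x' at hx' hy' h1' h2' ⊢
  have hA : InCorner S l₀ l₀ (y' * x) := hy'.mul hx
  have hB : InCorner S l₀ l₀ (y * a * x') :=
    ⟨S.mul_mem (S.mul_mem hy.1 ha) hx'.1, by rw [← mul_assoc, ← mul_assoc, hy.2.1],
      by rw [mul_assoc, hx'.2.2]⟩
  have hC : InCorner S l₀ l₀ (y * x') := hy.mul hx'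
  have hD : InCorner S l₀ l₀ (y * a * x) :=
    ⟨S.mul_mem (S.mul_mem hy.1 ha) hx.1, by rw [← mul_assoc, ← mul_assoc, hy.2.1],
      by rw [mul_assoc, hx.2.2]⟩
  have e1 : y' * a * x' = (y' * x) * (y * a * x') := by
    rw [show (y' * x) * (y * a * x') = y' * (x * y) * a * x' by simp only [mul_assoc], h1,
      hy'.2.2]
  have e2 : (y * a * x') * (y' * x) = y * a * x := by
    rw [show (y * a * x') * (y' * x) = y * a * ((x' * y') * x) by simp only [mul_assoc], h1',
      hx.2.1]
  rw [e1, rho_mul hR h₀ hA hB, mul_comm, ← rho_mul hR h₀ hB hA, e2]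

open scoped Classical in
/-- The trace of `a` on the class of `l₀`, computed in the decomposition `T`. -/
noncomputable def tau (S : Subalgebra R A) (l₀ : A) (T : Finset A) (a : A) :
    IsLocalRing.ResidueField R :=
  ∑ l ∈ T, tauTerm S l₀ l a

theorem tauTerm_add (hR : MonicSplits R) (h₀ : IsPrimIn S l₀) {l a b : A} (ha : a ∈ S)
    (hb : b ∈ S) : tauTerm S l₀ l (a + b) = tauTerm S l₀ l a + tauTerm S l₀ l b := by
  classical
  by_cases h : IsEquivIn S l l₀
  · obtain ⟨hx, hy, h1, h2⟩ := h.choose_spec.choose_spec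
    rw [tauTerm, tauTerm, tauTerm, dif_pos h, dif_pos h, dif_pos h, mul_add, add_mul]
    exact rho_add hR h₀
      ⟨S.mul_mem (S.mul_mem hy.1 ha) hx.1, by rw [← mul_assoc, ← mul_assoc, hy.2.1],
        by rw [mul_assoc, hx.2.2]⟩
      ⟨S.mul_mem (S.mul_mem hy.1 hb) hx.1, by rw [← mul_assoc, ← mul_assoc, hy.2.1],
        by rw [mul_assoc, hx.2.2]⟩
  · simp [tauTerm, dif_neg h]

theorem tau_add (hR : MonicSplits R) (h₀ : IsPrimIn S l₀) {a b : A} (ha : a ∈ S) (hb : b ∈ S) :
    tau S l₀ T (a + b) = tau S l₀ T a + tau S l₀ T b := by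
  rw [tau, tau, tau, ← Finset.sum_add_distrib]
  exact Finset.sum_congr rfl fun l _ => tauTerm_add hR h₀ ha hb

/-- The trace does not depend on the decomposition. -/
theorem tau_congr (hR : MonicSplits R) (h₀ : IsPrimIn S l₀) {T' : Finset A}
    (hT : IsDecomp S 1 T) (hT' : IsDecomp S 1 T') {a : A} (ha : a ∈ S) :
    tau S l₀ T a = tau S l₀ T' a := by
  classical
  -- the term of `l`, cut at `k`
  let mid : A → A → IsLocalRing.ResidueField R := fun l k =>
    if h : IsEquivIn S l l₀ then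
      rho S l₀ (h.choose_spec.choose * a * k * h.choose) else 0
  let mid' : A → A → IsLocalRing.ResidueField R := fun l k =>
    if h : IsEquivIn S k l₀ then
      rho S l₀ (h.choose_spec.choose * l * a * h.choose) else 0
  have hL : ∀ l, tauTerm S l₀ l a = ∑ k ∈ T', mid l k := by
    intro l
    by_cases h : IsEquivIn S l l₀
    · obtain ⟨hx, hy, h1, h2⟩ := h.choose_spec.choose_spec
      simp only [mid, dif_pos h, tauTerm]
      rw [← rho_sum hR h₀ T' (fun k => h.choose_spec.choose * a * k * h.choose) fun k hk =>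
        ⟨S.mul_mem (S.mul_mem (S.mul_mem hy.1 ha) (hT'.prim k hk).mem) hx.1,
          by rw [← mul_assoc, ← mul_assoc, ← mul_assoc, hy.2.1],
          by rw [mul_assoc, hx.2.2]⟩]
      rw [← Finset.sum_mul, ← Finset.mul_sum, hT'.sum, mul_one]
    · simp [mid, tauTerm, dif_neg h]
  have hR' : ∀ k, tauTerm S l₀ k a = ∑ l ∈ T, mid' l k := by
    intro k
    by_cases h : IsEquivIn S k l₀
    · obtain ⟨hx, hy, h1, h2⟩ := h.choose_spec.choose_spec
      simp only [mid', dif_pos h, tauTerm]
      rw [← rho_sum hR h₀ T (fun l => h.choose_spec.choose * l * a * h.choose) fun l hl =>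
        ⟨S.mul_mem (S.mul_mem (S.mul_mem hy.1 (hT.prim l hl).mem) ha) hx.1,
          by rw [← mul_assoc, ← mul_assoc, ← mul_assoc, hy.2.1],
          by rw [mul_assoc, hx.2.2]⟩]
      rw [← Finset.sum_mul, ← Finset.sum_mul, ← Finset.mul_sum, hT.sum, mul_one]
    · simp [mid', tauTerm, dif_neg h]
  rw [tau, tau, Finset.sum_congr rfl fun l _ => hL l, Finset.sum_congr rfl fun k _ => hR' k]
  rw [Finset.sum_comm]
  refine Finset.sum_congr rfl fun k hk => Finset.sum_congr rfl fun l hl => ?_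
  have hlp := hT.prim l hl
  have hkp := hT'.prim k hk
  have hak : InCorner S l k (l * a * k) :=
    ⟨S.mul_mem (S.mul_mem hlp.mem ha) hkp.mem, by rw [← mul_assoc, ← mul_assoc, hlp.idem],
      by rw [mul_assoc, hkp.idem]⟩
  by_cases hlE : IsEquivIn S l l₀ <;> by_cases hkE : IsEquivIn S k l₀
  · simp only [mid, mid', dif_pos hlE, dif_pos hkE]
    obtain ⟨hx, hy, h1, h2⟩ := hlE.choose_spec.choose_spec
    obtain ⟨hx', hy', h1', h2'⟩ := hkE.choose_spec.choose_spec
    generalize hlE.choose_spec.choose = y at hx hy h1 h2 ⊢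
    generalize hlE.choose = x at hx hy h1 h2 ⊢
    generalize hkE.choose_spec.choose = y' at hx' hy' h1' h2' ⊢
    generalize hkE.choose = x' at hx' hy' h1' h2' ⊢
    have hA : InCorner S l₀ l₀ (y * a * x') :=
      ⟨S.mul_mem (S.mul_mem hy.1 ha) hx'.1, by rw [← mul_assoc, ← mul_assoc, hy.2.1],
        by rw [mul_assoc, hx'.2.2]⟩
    have hB : InCorner S l₀ l₀ (y' * x) :=
      ⟨S.mul_mem hy'.1 hx.1, by rw [← mul_assoc, hy'.2.1], by rw [mul_assoc, hx.2.2]⟩
    rw [show y * a * k * x = (y * a * x') * (y' * x) by rw [← h1']; simp only [mul_assoc],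
      show y' * l * a * x' = (y' * x) * (y * a * x') by rw [← h1]; simp only [mul_assoc],
      rho_mul hR h₀ hA hB, rho_mul hR h₀ hB hA, mul_comm]
  · simp only [mid, mid', dif_pos hlE, dif_neg hkE]
    obtain ⟨hx, hy, h1, h2⟩ := hlE.choose_spec.choose_spec
    generalize hlE.choose_spec.choose = y at hx hy h1 h2 ⊢
    generalize hlE.choose = x at hx hy h1 h2 ⊢
    have e : y * a * k * x = (y * a * k) * (k * x) := by
      rw [show y * a * k * (k * x) = y * a * (k * k) * x by simp only [mul_assoc], hkp.idem]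
    have c1 : InCorner S l₀ k (y * a * k) :=
      ⟨S.mul_mem (S.mul_mem hy.1 ha) hkp.mem, by rw [← mul_assoc, ← mul_assoc, hy.2.1],
        by rw [mul_assoc, hkp.idem]⟩
    have c2 : InCorner S k l₀ (k * x) :=
      ⟨S.mul_mem hkp.mem hx.1, by rw [← mul_assoc, hkp.idem], by rw [mul_assoc, hx.2.2]⟩
    rw [e]
    exact rho_zero_of_nonunit hR h₀ (c1.mul c2) fun hu =>
      hkE (isEquivIn_of_isUnitIn h₀ hkp c1 c2 hu).symm
  · simp only [mid, mid', dif_neg hlE, dif_pos hkE]
    obtain ⟨hx, hy, h1, h2⟩ := hkE.choose_spec.choose_spec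
    generalize hkE.choose_spec.choose = y at hx hy h1 h2 ⊢
    generalize hkE.choose = x at hx hy h1 h2 ⊢
    have e : y * l * a * x = (y * l) * (l * a * x) := by
      rw [show y * l * (l * a * x) = y * (l * l) * a * x by simp only [mul_assoc], hlp.idem]
    have c1 : InCorner S l₀ l (y * l) :=
      ⟨S.mul_mem hy.1 hlp.mem, by rw [← mul_assoc, hy.2.1], by rw [mul_assoc, hlp.idem]⟩
    have c2 : InCorner S l l₀ (l * a * x) :=
      ⟨S.mul_mem (S.mul_mem hlp.mem ha) hx.1, by rw [← mul_assoc, ← mul_assoc, hlp.idem],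
        by rw [mul_assoc, hx.2.2]⟩
    rw [e]
    exact (rho_zero_of_nonunit hR h₀ (c1.mul c2) fun hu =>
      hlE (isEquivIn_of_isUnitIn h₀ hlp c1 c2 hu).symm).symm
  · simp only [mid, mid', dif_neg hlE, dif_neg hkE]

open scoped Classical in
/-- On a sum of members of the decomposition the trace counts the members in the class. -/
theorem tau_subsum (hR : MonicSplits R) (h₀ : IsPrimIn S l₀) (hT : IsDecomp S 1 T) {J : Finset A}
    (hJ : J ⊆ T) :
    tau S l₀ T (∑ l ∈ J, l) =
      ((J.filter fun l => IsEquivIn S l l₀).card : IsLocalRing.ResidueField R) := by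
  classical
  have hJS : ∑ l ∈ J, l ∈ S := S.sum_mem fun l hl => (hT.prim l (hJ hl)).mem
  have hterm : ∀ l ∈ T, tauTerm S l₀ l (∑ m ∈ J, m) =
      if l ∈ J ∧ IsEquivIn S l l₀ then 1 else 0 := by
    intro l hl
    by_cases h : IsEquivIn S l l₀
    · obtain ⟨hx, hy, h1, h2⟩ := h.choose_spec.choose_spec
      rw [tauTerm_eq hR h₀ hJS (hT.prim l hl) hx hy h1 h2]
      generalize h.choose_spec.choose = y at hx hy h1 h2 ⊢
      generalize h.choose = x at hx hy h1 h2 ⊢
      have e : ∀ m, y * m * x = y * (l * m * l) * x := fun m => by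
        calc y * m * x = (y * l) * m * (l * x) := by rw [hy.2.2, hx.2.1]
          _ = _ := by simp only [mul_assoc]
      rw [e, Finset.mul_sum, Finset.sum_mul]
      have hlm : ∀ m ∈ J, l * m * l = if m = l then l else 0 := fun m hm => by
        split_ifs with he
        · rw [he, (hT.prim l hl).idem, (hT.prim l hl).idem]
        · rw [hT.orth l hl m (hJ hm) (Ne.symm he), zero_mul]
      rw [Finset.sum_congr rfl hlm, Finset.sum_ite_eq']
      by_cases hlJ : l ∈ J
      · rw [if_pos hlJ, if_pos ⟨hlJ, h⟩, hy.2.2, h2, rho_self hR h₀]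
      · rw [if_neg hlJ, if_neg fun hh => hlJ hh.1, mul_zero, zero_mul]
        exact rho_zero_of_nonunit hR h₀ ⟨S.zero_mem, mul_zero _, zero_mul _⟩ h₀.not_isUnitIn_zero
    · rw [tauTerm, dif_neg h, if_neg fun hh => h hh.2]
  rw [tau, Finset.sum_congr rfl hterm, Finset.sum_boole]
  congr 2
  ext l
  simp only [Finset.mem_filter]
  exact ⟨fun h => h.2, fun h => ⟨hJ h.1, h⟩⟩

end Cfsg.Agent.Lib.BrauerStar
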