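import Cfsg.Agent.Lib.BrauerStar.GroupRing
import Mathlib.GroupTheory.Nilpotent
import Mathlib.GroupTheory.PGroup
import Mathlib.RingTheory.RootsOfUnity.Complex

/-!
# Relative traces, vanishing and congruence of character values at idempotents
-/

set_option autoImplicit false
set_option linter.unusedSectionVars false
set_option linter.style.haveILetI false

namespace Cfsg.Agent.Lib.BrauerStar

open Cfsg Cfsg.Agent.Lib.Blocks Cfsg.Agent.Lib.Characters Polynomial

universe u

variable {G : Type u} [Group G] [Fintype G] {M : Ideal AlgInt} [hMp : M.IsPrime] {p : ℕ}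

/-- A maximal subgroup of a `p`-group with a generator of the quotient. -/
structure MaxStep (p : ℕ) (U Q : Subgroup G) (u : G) : Prop where
  le : Q ≤ U
  mem : u ∈ U
  notMem : u ∉ Q
  pow_mem : u ^ p ∈ Q
  normal : u ∈ Subgroup.normalizer (Q : Set G)
  cover : ∀ w ∈ U, ∃ t < p, ∃ q ∈ Q, w = u ^ t * q

theorem dvd_of_pow_mem {H : Subgroup G} (hp : p.Prime) {u : G} (hu : u ∉ H) (hup : u ^ p ∈ H)
    {j : ℕ} (hj : u ^ j ∈ H) : p ∣ j := by
  by_contra h
  apply hu
  obtain ⟨a, b, hab⟩ := Nat.isCoprime_iff_coprime.2 ((hp.coprime_iff_not_dvd).2 h)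
  rw [show u = (u ^ p) ^ a * (u ^ j) ^ b by
    rw [← zpow_natCast u p, ← zpow_natCast u j, ← zpow_mul, ← zpow_mul, ← zpow_add,
      show (p : ℤ) * a + (j : ℤ) * b = 1 by rw [← hab]; ring, zpow_one]]
  exact mul_mem (zpow_mem hup a) (zpow_mem hj b)

theorem exists_maxStep [Fact p.Prime] {U W : Subgroup G} (hU : IsPGroup p U) (hWU : W < U) :
    ∃ (Q : Subgroup G) (u : G), MaxStep p U Q u ∧ W ≤ Q := by
  classical
  have hp : p.Prime := Fact.out
  obtain ⟨N, hN, hWN⟩ := (IsCoatomic.eq_top_or_exists_le_coatom (W.subgroupOf U)).resolve_left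
    (fun h => hWU.not_ge (Subgroup.subgroupOf_eq_top.1 h))
  haveI : Group.IsNilpotent U := hU.isNilpotent
  have hn : N.Normal :=
    Subgroup.NormalizerCondition.normal_of_coatom N (Group.normalizerCondition_of_isNilpotent) hN
  haveI := hn
  obtain ⟨v, hv⟩ : ∃ v : U, v ∉ N := by
    by_contra h
    push Not at h
    exact hN.1 ((Subgroup.eq_top_iff' N).2 h)
  have hgen : ∀ w : U, w ∉ N → ∀ z : U, ∃ (t : ℤ) (q : U), q ∈ N ∧ z = w ^ t * q := by
    intro w hw z
    have htop : Subgroup.zpowers w ⊔ N = ⊤ := hN.2 _ (lt_of_le_of_ne le_sup_right fun h =>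
      hw (h ▸ (le_sup_left : Subgroup.zpowers w ≤ Subgroup.zpowers w ⊔ N)
        (Subgroup.mem_zpowers w)))
    have hz : z ∈ Subgroup.zpowers w ⊔ N := htop ▸ Subgroup.mem_top z
    rw [Subgroup.mem_sup_of_normal_right] at hz
    obtain ⟨a, ⟨t, rfl⟩, q, hq, rfl⟩ := hz
    exact ⟨t, q, hq, rfl⟩
  have hpow : v ^ p ∈ N := by
    by_contra hvp
    obtain ⟨t, q, hq, he⟩ := hgen _ hvp v
    obtain ⟨k, hk⟩ := hU v
    have h1 : ∀ n : ℕ, v ^ p ^ n ∈ N → v ∈ N := by
      intro n
      induction n with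
      | zero => simp
      | succ n ih =>
        intro hn1
        refine ih ?_
        have hv' : v = v ^ ((p : ℤ) * t) * q := by
          rw [zpow_mul, zpow_natCast]; exact he
        have hq' : v ^ (1 - (p : ℤ) * t) ∈ N := by
          have hconj : (v ^ ((p : ℤ) * t))⁻¹ * v = q := by
            nth_rw 2 [hv']
            group
          rw [show (1 : ℤ) - p * t = -(p * t) + 1 by ring, zpow_add, zpow_neg, zpow_one, hconj]
          exact hq
        have e1 : v ^ p ^ n = (v ^ (1 - (p : ℤ) * t)) ^ (p ^ n : ℕ) * (v ^ p ^ (n + 1)) ^ t := by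
          rw [← zpow_natCast v (p ^ (n + 1)), ← zpow_natCast (v ^ (1 - (p : ℤ) * t)), ← zpow_mul,
            ← zpow_mul, ← zpow_add, ← zpow_natCast v (p ^ n)]
          congr 1
          push_cast
          ring
        rw [e1]
        exact mul_mem (pow_mem hq' _) (zpow_mem hn1 t)
    exact hv (h1 k (hk ▸ one_mem N))
  refine ⟨N.map U.subtype, (v : G),
    ⟨Subgroup.map_subtype_le _, v.2, ?_, ⟨v ^ p, hpow, by simp⟩, ?_, ?_⟩, fun w hw =>
      ⟨⟨w, hWU.le hw⟩, hWN (Subgroup.mem_subgroupOf.2 hw), rfl⟩⟩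
  · rintro ⟨v', hv', e⟩
    exact hv (Subtype.ext e ▸ hv')
  · rw [Subgroup.mem_normalizer_iff]
    intro h
    constructor
    · rintro ⟨h', hh', rfl⟩
      exact ⟨v * h' * v⁻¹, hn.conj_mem h' hh' v, by simp⟩
    · rintro ⟨h', hh', e⟩
      refine ⟨v⁻¹ * h' * v, by simpa using hn.conj_mem h' hh' v⁻¹, ?_⟩
      simp only [Subgroup.subtype_apply] at e ⊢
      push_cast
      rw [e]
      group
  · intro w hw
    obtain ⟨t, q, hq, he⟩ := hgen v hv ⟨w, hw⟩
    have hp0 : (0 : ℤ) < (p : ℤ) := by exact_mod_cast hp.pos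
    refine ⟨(t % p).toNat, ?_, _, ⟨v ^ ((p : ℤ) * (t / p)) * q, mul_mem ?_ hq, rfl⟩, ?_⟩
    · have h1 := Int.emod_lt_of_pos t hp0
      have h2 := Int.emod_nonneg t hp0.ne'
      omega
    · rw [zpow_mul, zpow_natCast]; exact zpow_mem hpow _
    · have h2 : (((t % p).toNat : ℕ) : ℤ) = t % p := Int.toNat_of_nonneg (Int.emod_nonneg t hp0.ne')
      have e3 : (⟨w, hw⟩ : U) = v ^ (t % p).toNat * (v ^ ((p : ℤ) * (t / p)) * q) := by
        rw [← mul_assoc, ← zpow_natCast v, h2, ← zpow_add, Int.emod_add_mul_ediv, he]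
      simpa using congrArg Subtype.val e3

/-- The orbit of `g` under `U`, as an element of the group ring. -/
noncomputable def orbitSum (M : Ideal AlgInt) [M.IsPrime] (U : Subgroup G) (g : G) : RG M G :=
  ofFun ({h | ∃ w ∈ U, w * g * w⁻¹ = h}.indicator 1) fun h => by
    by_cases hh : h ∈ {h | ∃ w ∈ U, w * g * w⁻¹ = h}
    · rw [Set.indicator_of_mem hh]; exact memLocalRing_one
    · rw [Set.indicator_of_notMem hh]; exact memLocalRing_zero

theorem coef_orbitSum (U : Subgroup G) (g h : G) [Decidable (∃ w ∈ U, w * g * w⁻¹ = h)] :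
    coef (orbitSum M U g) h = if ∃ w ∈ U, w * g * w⁻¹ = h then 1 else 0 := by
  rw [orbitSum, coef_ofFun]
  split_ifs with hh
  · rw [Set.indicator_of_mem (show h ∈ {h | ∃ w ∈ U, w * g * w⁻¹ = h} from hh)]; rfl
  · exact Set.indicator_of_notMem (show h ∉ {h | ∃ w ∈ U, w * g * w⁻¹ = h} from hh) _

theorem orbitSum_mem (U : Subgroup G) (g : G) : orbitSum M U g ∈ fixV M U 1 := by
  classical
  refine mem_fixV.2 ⟨fun v hv => cj_eq_self_iff.2 fun h => ?_, cj_one _⟩
  rw [coef_orbitSum, coef_orbitSum]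
  refine if_congr ⟨?_, ?_⟩ rfl rfl
  · rintro ⟨w, hw, e⟩
    exact ⟨v⁻¹ * w, mul_mem (inv_mem hv) hw, by
      rw [show v⁻¹ * w * g * (v⁻¹ * w)⁻¹ = v⁻¹ * (w * g * w⁻¹) * v by group, e]; group⟩
  · rintro ⟨w, hw, e⟩
    exact ⟨v * w, mul_mem hv hw, by
      rw [show v * w * g * (v * w)⁻¹ = v * (w * g * w⁻¹) * v⁻¹ by group, e]⟩

/-- The relative trace along one step. -/
noncomputable def trU (p : ℕ) (u : G) (a : RG M G) : RG M G :=
  ∑ t ∈ Finset.range p, cj (u ^ t) a

theorem orbitSum_eq_trU (hp : p.Prime) {U Q : Subgroup G} {u g : G} (h : MaxStep p U Q u)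
    (hst : ∀ w ∈ U, w * g * w⁻¹ = g → w ∈ Q) :
    orbitSum M U g = trU p u (orbitSum M Q g) := by
  classical
  refine coef_injective (funext fun x => ?_)
  rw [trU, coef_sum, Finset.sum_apply, coef_orbitSum]
  simp only [coef_cj, coef_orbitSum, Finset.sum_boole]
  set T := (Finset.range p).filter
    (fun t => ∃ w ∈ Q, w * g * w⁻¹ = (u ^ t)⁻¹ * x * u ^ t) with hT
  have hne : (∃ w ∈ U, w * g * w⁻¹ = x) ↔ T.Nonempty := by
    constructor
    · rintro ⟨w, hw, rfl⟩
      obtain ⟨t, ht, q, hq, rfl⟩ := h.cover w hw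
      exact ⟨t, Finset.mem_filter.2 ⟨Finset.mem_range.2 ht, q, hq, by group⟩⟩
    · rintro ⟨t, ht⟩
      obtain ⟨-, q, hq, e⟩ := Finset.mem_filter.1 ht
      exact ⟨u ^ t * q, mul_mem (pow_mem h.mem t) (h.le hq), by
        rw [show u ^ t * q * g * (u ^ t * q)⁻¹ = u ^ t * (q * g * q⁻¹) * (u ^ t)⁻¹ by group, e]
        group⟩
  have hkey : ∀ t ∈ T, ∀ t' ∈ T, t' ≤ t → t = t' := by
    intro t ht t' ht' hle
    obtain ⟨htr, q, hq, e⟩ := Finset.mem_filter.1 ht
    obtain ⟨-, q', hq', e'⟩ := Finset.mem_filter.1 ht'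
    have e1 : q * g * q⁻¹ = (u ^ (t - t'))⁻¹ * (q' * g * q'⁻¹) * u ^ (t - t') := by
      rw [e, e']
      conv_lhs => rw [show u ^ t = u ^ t' * u ^ (t - t') by rw [← pow_add, Nat.add_sub_cancel' hle]]
      group
    have h1 := hst (q'⁻¹ * u ^ (t - t') * q)
      (mul_mem (mul_mem (h.le (inv_mem hq')) (pow_mem h.mem _)) (h.le hq)) (by
      calc q'⁻¹ * u ^ (t - t') * q * g * (q'⁻¹ * u ^ (t - t') * q)⁻¹
          = q'⁻¹ * u ^ (t - t') * (q * g * q⁻¹) * (u ^ (t - t'))⁻¹ * q' := by group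
        _ = g := by rw [e1]; group)
    have h2 : u ^ (t - t') ∈ Q := by
      have := mul_mem (mul_mem hq' h1) (inv_mem hq)
      rwa [show q' * (q'⁻¹ * u ^ (t - t') * q) * q⁻¹ = u ^ (t - t') by group] at this
    obtain ⟨c, hc⟩ := dvd_of_pow_mem hp h.notMem h.pow_mem h2
    have : t < p := Finset.mem_range.1 htr
    rcases Nat.eq_zero_or_pos c with rfl | hc0
    · omega
    · have : p ≤ p * c := Nat.le_mul_of_pos_right p hc0
      omega
  have hone : T.card ≤ 1 := Finset.card_le_one.2 fun t ht t' ht' =>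
    (le_total t' t).elim (hkey t ht t' ht') fun hle => (hkey t' ht' t ht hle).symm
  split_ifs with hx
  · rw [le_antisymm hone (Finset.card_pos.2 (hne.1 hx)), Nat.cast_one]
  · rw [Finset.not_nonempty_iff_eq_empty.1 (fun hh => hx (hne.2 hh)), Finset.card_empty,
      Nat.cast_zero]

/-- The average over the powers of `s`. -/
noncomputable def avg (hM : IsPModular p M) {s : G} (hs : ¬ p ∣ orderOf s) (y : RG M G) : RG M G :=
  (⟨((orderOf s : ℕ) : ℂ)⁻¹, memLocalRing_inv_natCast hM hs⟩ : locSubring M) •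
    ∑ j ∈ Finset.range (orderOf s), cj (s ^ j) y

variable (hM : IsPModular p M) {s : G} (hs : ¬ p ∣ orderOf s)

theorem cj_avg {w : G} (hw : Commute w s) (y : RG M G) :
    cj w (avg hM hs y) = avg hM hs (cj w y) := by
  simp only [avg, map_smul, map_sum, ← cj_mul]
  congr 1
  refine Finset.sum_congr rfl fun j _ => ?_
  rw [(hw.pow_right j).eq]

theorem avg_mem {U : Subgroup G} (hUs : ∀ w ∈ U, Commute w s) {y : RG M G}
    (hy : y ∈ fixV M U 1) : avg hM hs y ∈ fixV M U s := by
  refine mem_fixV.2 ⟨fun v hv => by rw [cj_avg hM hs (hUs v hv), (mem_fixV.1 hy).1 v hv], ?_⟩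
  simp only [avg, map_smul, map_sum, ← cj_mul, ← pow_succ']
  congr 1
  have h1 := Finset.sum_range_succ' (fun j => cj (s ^ j) y) (orderOf s)
  rw [Finset.sum_range_succ, pow_orderOf_eq_one, pow_zero] at h1
  exact (add_right_cancel h1).symm

theorem avg_eq_self {U : Subgroup G} {y : RG M G} (hy : y ∈ fixV M U s) : avg hM hs y = y := by
  have hall : ∀ j : ℕ, cj (s ^ j) y = y := fun j => by
    induction j with
    | zero => rw [pow_zero, cj_one]
    | succ j ih => rw [pow_succ, cj_mul, (mem_fixV.1 hy).2, ih]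
  rw [avg, Finset.sum_congr rfl fun j _ => hall j, Finset.sum_const, Finset.card_range,
    ← Nat.cast_smul_eq_nsmul (locSubring M), smul_smul]
  rw [show (⟨((orderOf s : ℕ) : ℂ)⁻¹, memLocalRing_inv_natCast hM hs⟩ : locSubring M) *
    ((orderOf s : ℕ) : locSubring M) = 1 from Subtype.ext (by
      push_cast
      exact inv_mul_cancel₀ (Nat.cast_ne_zero.2 (orderOf_pos s).ne')), one_smul]

theorem avg_small {y : RG M G} (hy : BrZero ⊥ y) : BrZero ⊥ (avg hM hs y) :=
  (BrZero.sum _ fun _ _ => (BrZero.mul_bot _ hy).bot_mul _).smul _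

theorem avg_add (y z : RG M G) : avg hM hs (y + z) = avg hM hs y + avg hM hs z := by
  simp only [avg, map_add, Finset.sum_add_distrib, smul_add]

theorem avg_trU {u : G} (hu : Commute u s) (a : RG M G) :
    avg hM hs (trU p u a) = trU p u (avg hM hs a) := by
  rw [trU, trU, Finset.sum_congr rfl fun t _ => cj_avg hM hs (hu.pow_left t) a]
  induction p with
  | zero => simp [avg]
  | succ n _ => simp only [avg, map_sum, ← Finset.smul_sum]; rw [Finset.sum_comm]

include hM hs in
/-- **The kernel of the Brauer congruence is spanned by traces and small elements.** -/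
theorem trace_induction {U : Subgroup G} (hU : IsPGroup p U) (hUs : ∀ w ∈ U, Commute w s)
    (Good : Subgroup G → G → Prop)
    (hsel : ∀ g, g ∉ Subgroup.centralizer (U : Set G) →
      ∃ Q u, MaxStep p U Q u ∧ (∀ w ∈ U, w * g * w⁻¹ = g → w ∈ Q) ∧ Good Q u)
    (P : RG M G → Prop) (hsmall : ∀ y ∈ fixV M U s, BrZero ⊥ y → P y)
    (htr : ∀ Q u, MaxStep p U Q u → Good Q u → ∀ a ∈ fixV M Q s, trU p u a ∈ fixV M U s →
      P (trU p u a))
    (hadd : ∀ y z, y ∈ fixV M U s → z ∈ fixV M U s → P y → P z → P (y + z))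
    {x : RG M G} (hx : x ∈ fixV M U s) (h0 : BrZero U x) : P x := by
  classical
  suffices key : ∀ (n : ℕ) (y : RG M G), y ∈ fixV M U 1 → BrZero U y →
      (Finset.univ.filter fun g => ¬ MemLocalIdeal M (coef y g)).card ≤ n → P (avg hM hs y) by
    have hx1 : x ∈ fixV M U 1 := mem_fixV.2 ⟨(mem_fixV.1 hx).1, cj_one x⟩
    simpa [avg_eq_self hM hs hx] using key _ x hx1 h0 le_rfl
  intro n
  induction n with
  | zero =>
    intro y hy _ hc
    refine hsmall _ (avg_mem hM hs hUs hy) (avg_small hM hs (brZero_bot_iff.2 fun g => ?_))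
    by_contra hg
    have : g ∈ Finset.univ.filter fun g => ¬ MemLocalIdeal M (coef y g) :=
      Finset.mem_filter.2 ⟨Finset.mem_univ g, hg⟩
    rw [Finset.card_eq_zero.1 (Nat.le_zero.1 hc)] at this
    exact absurd this (Finset.notMem_empty g)
  | succ n ih =>
    intro y hy hy0 hc
    by_cases hall : ∀ g, MemLocalIdeal M (coef y g)
    · exact hsmall _ (avg_mem hM hs hUs hy) (avg_small hM hs (brZero_bot_iff.2 hall))
    push Not at hall
    obtain ⟨g, hg⟩ := hall
    have hgC : g ∉ Subgroup.centralizer (U : Set G) := fun h => hg (hy0 g h)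
    obtain ⟨Q, u, hstep, hst, hgood⟩ := hsel g hgC
    set r : locSubring M := y.coeff g
    set o := r • orbitSum M U g with ho
    have hoU : o ∈ fixV M U 1 := Subalgebra.smul_mem _ (orbitSum_mem U g) r
    have hodef : o = trU p u (r • orbitSum M Q g) := by
      rw [ho, orbitSum_eq_trU hM.1 hstep hst, trU, trU, Finset.smul_sum]
      simp only [map_smul]
    have horb : ∀ h, (∃ w ∈ U, w * g * w⁻¹ = h) → coef (y - o) h = 0 := by
      rintro h ⟨w, hw, rfl⟩
      rw [coef_sub, Pi.sub_apply, ho, coef_smul, Pi.smul_apply, coef_orbitSum,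
        if_pos ⟨w, hw, rfl⟩, cj_eq_self_iff.1 ((mem_fixV.1 hy).1 w hw) g]
      simp [r, coef]
    have hout : ∀ h, ¬ (∃ w ∈ U, w * g * w⁻¹ = h) → coef (y - o) h = coef y h := by
      intro h hh
      rw [coef_sub, Pi.sub_apply, ho, coef_smul, Pi.smul_apply, coef_orbitSum, if_neg hh,
        smul_zero, sub_zero]
    have hy' : BrZero U (y - o) := by
      intro h hh
      by_cases hor : ∃ w ∈ U, w * g * w⁻¹ = h
      · rw [horb h hor]; exact memLocalIdeal_zero
      · rw [hout h hor]; exact hy0 h hh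
    have hcard : (Finset.univ.filter fun h => ¬ MemLocalIdeal M (coef (y - o) h)).card ≤ n := by
      have hsub : (Finset.univ.filter fun h => ¬ MemLocalIdeal M (coef (y - o) h)) ⊆
          (Finset.univ.filter fun h => ¬ MemLocalIdeal M (coef y h)).erase g := by
        intro h hh
        simp only [Finset.mem_filter, Finset.mem_univ, true_and] at hh
        by_cases hor : ∃ w ∈ U, w * g * w⁻¹ = h
        · exact absurd (by rw [horb h hor]; exact memLocalIdeal_zero) hh
        · rw [hout h hor] at hh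
          exact Finset.mem_erase.2 ⟨fun e => hor ⟨1, one_mem U, by rw [e]; group⟩,
            Finset.mem_filter.2 ⟨Finset.mem_univ h, hh⟩⟩
      have := Finset.card_le_card hsub
      rw [Finset.card_erase_of_mem (Finset.mem_filter.2 ⟨Finset.mem_univ g, hg⟩)] at this
      omega
    rw [show y = (y - o) + o by abel, avg_add]
    refine hadd _ _ (avg_mem hM hs hUs (sub_mem hy hoU)) (avg_mem hM hs hUs hoU)
      (ih _ (sub_mem hy hoU) hy' hcard) ?_
    have hm := avg_mem hM hs hUs hoU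
    rw [hodef, avg_trU hM hs (hUs u hstep.mem)] at hm ⊢
    exact htr Q u hstep hgood _ (avg_mem hM hs (fun w hw => hUs w (hstep.le hw))
      (Subalgebra.smul_mem _ (orbitSum_mem Q g) r)) hm

end Cfsg.Agent.Lib.BrauerStar
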