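import Cfsg.Agent.Lib.BrauerStar.WatanabeSum
import Cfsg.Agent.Lib.BlockHeights.AbelianInertial
import Cfsg.Agent.Lib.BlockHeights.ChainCount

/-!
# Watanabe's theorem on abelian defect groups
-/

set_option autoImplicit false
set_option linter.unusedSectionVars false
set_option linter.style.haveILetI false

namespace Cfsg.Agent.Lib.BrauerStar

open Cfsg Cfsg.Agent.Lib.Blocks Cfsg.Agent.Lib.Characters Cfsg.Agent.Lib.BrauerPairs
  Cfsg.Agent.Lib.BlockHeights

universe u

section

variable {G : Type u} [Group G] [Fintype G] {M : Ideal AlgInt} [hMp : M.IsPrime] {p : ℕ}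
  {B : Set (IrrCharacter G)} {P : Subgroup G}
  {c : Set (IrrCharacter (Subgroup.centralizer (P : Set G)))}

noncomputable local instance fintypeSubgroupWatB (H : Subgroup G) : Fintype H := Fintype.ofFinite H

/-- A block read on an equal subgroup. -/
theorem exists_block_congr {K L : Subgroup G} (h : K = L) {r : Set (IrrCharacter K)}
    (hr : IsPBlock M r) :
    ∃ q : Set (IrrCharacter L), subgroupBlockCoeff L q = subgroupBlockCoeff K r ∧
      blockRank p q = blockRank p r ∧ IsPBlock M q := by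
  subst h
  exact ⟨r, rfl, rfl, hr⟩

/-- Equal centralisers give equal ranks. -/
theorem rkQ_of_centralizer_le (hM : IsPModular p M) (hPc : IsBrauerPair p M P c)
    (hab : ∀ x ∈ P, ∀ y ∈ P, x * y = y * x) {Q R : Subgroup G} (hQR : Q ≤ R) (hRP : R ≤ P)
    (hC : Subgroup.centralizer (Q : Set G) ≤ Subgroup.centralizer (R : Set G)) :
    rkQ p M P c Q = rkQ p M P c R := by
  classical
  obtain ⟨r, hr, hrle⟩ := exists_subpairLE hM hPc hRP
  have hCeq : Subgroup.centralizer (R : Set G) = Subgroup.centralizer (Q : Set G) :=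
    le_antisymm (Subgroup.centralizer_le hQR) hC
  obtain ⟨q, hq, hqrk, hqB⟩ := exists_block_congr (p := p) hCeq hr.2
  have hRQ : R ≤ Subgroup.centralizer (Q : Set G) :=
    hRP.trans (BrauerPairs.le_normalizer_of_comm hab (hQR.trans hRP))
  have hRN : R ≤ Subgroup.normalizer (Q : Set G) := hRQ.trans (centralizer_le_normalizer' _)
  have hnormal : IsNormalSubpair p M Q q R r := by
    refine ⟨⟨IsPGroup.to_le hr.1 hQR, hqB⟩, hr, hQR, hRN, fun x hx => ?_, fun ξ hξ => ?_⟩
    · rw [stabilizesBlock_iff (normalizer_le_normalizer_centralizer _ (hRN hx))]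
      exact gconj_eq_self_iff.2 fun y => isPInv_subgroupBlockCoeff_self _ _ (hRQ hx) y
    · rw [hq, brauerOmega_eq_omega, show resFun (Subgroup.centralizer (R : Set G))
          (subgroupBlockCoeff (Subgroup.centralizer (R : Set G)) r) = blockCoeff r from
        funext fun x => subgroupBlockCoeff_of_mem r x.2, omega_blockCoeff, if_pos hξ, sub_self]
      exact memLocalIdeal_zero
  have hle : SubpairLE p M Q q P c := Relation.ReflTransGen.head
    (show NormalSubpairRel p M (⟨Q, q⟩ : BrauerPairIdx G) ⟨R, r⟩ from hnormal) hrle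
  rw [rkQ_eq hM hPc hle, rkQ_eq hM hPc hrle, hqrk]

/-- The rank of the trivial subgroup is the rank of the block. -/
theorem rkQ_bot (hM : IsPModular p M) (hmax : IsMaximalBrauerPair p M B P c) :
    rkQ p M P c ⊥ = blockRank p B := by
  classical
  obtain ⟨q, hq, hqle⟩ := exists_subpairLE hM hmax.1.1 (bot_le : (⊥ : Subgroup G) ≤ P)
  obtain ⟨-, hB, hone⟩ := isBrauerPairOf_of_subpairLE hM hmax hqle
  have htop : Subgroup.centralizer ((⊥ : Subgroup G) : Set G) = ⊤ :=
    eq_top_iff.2 fun x _ => Subgroup.mem_centralizer_iff.2 fun y hy => by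
      rw [Subgroup.mem_bot.1 hy, one_mul, mul_one]
  let e : Subgroup.centralizer ((⊥ : Subgroup G) : Set G) ≃* G :=
    (MulEquiv.subgroupCongr htop).trans Subgroup.topEquiv
  obtain ⟨ξ, hξ⟩ := IsPBlock.nonempty hq.2
  have hmem : transIrr e ξ ∈ B := by
    by_contra hn
    have h0 : brauerOmega (⊥ : Subgroup G) (blockCoeff B)
        (ξ : Subgroup.centralizer ((⊥ : Subgroup G) : Set G) → ℂ) =
        omega (transIrr e ξ : G → ℂ) (blockCoeff B) := by
      rw [brauerOmega, omega, Finset.sum_div, ← finsum_eq_sum_of_fintype]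
      refine Eq.trans (finsum_congr fun x => ?_) (finsum_comp_equiv e.toEquiv)
      show _ = blockCoeff B (e x) * (transIrr e ξ : G → ℂ) (e x) / (transIrr e ξ : G → ℂ) 1
      rw [transIrr_apply, ← map_one e, transIrr_apply]
      rfl
    have h1 := hone ξ hξ
    rw [h0, omega_blockCoeff, if_neg hn, zero_sub] at h1
    exact not_memLocalIdeal_one (by simpa using memLocalIdeal_neg h1)
  rw [rkQ_eq hM hmax.1.1 hqle, ← blockRank_transBlock e q,
    IsPBlock.eq_of_mem (isPBlock_transBlock e hq.2) hB ⟨ξ, hξ, rfl⟩ hmem]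

variable {H : Subgroup G}

/-- The pair inside a subgroup containing the centraliser of the defect group. -/
theorem exists_local_pair (hM : IsPModular p M) (hmax : IsMaximalBrauerPair p M B P c)
    (hPH : P ≤ H) (hCH : Subgroup.centralizer (P : Set G) ≤ H) {f : Set (IrrCharacter H)}
    (hf : IsInducedBlockIn M H (Subgroup.centralizer (P : Set G)) c f) :
    ∃ (P' : Subgroup H) (c' : Set (IrrCharacter (Subgroup.centralizer (P' : Set H)))),
      IsMaximalBrauerPair p M f P' c' ∧
        IsPush (⟨P', c'⟩ : BrauerPairIdx H) (⟨P, c⟩ : BrauerPairIdx G) := by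
  classical
  haveI := Fact.mk hM.1
  have hV := Subgroup.map_subgroupOf_eq_of_le hPH
  let ε := relEquiv hV hCH
  let P' := P.subgroupOf H
  let c' : Set (IrrCharacter (Subgroup.centralizer (P' : Set H))) := transBlock ε.symm c
  have hind := (isInducedBlockIn_iff hPH hCH hmax.1.1.2 f).1 hf
  have hP'p : IsPGroup p P' := hmax.1.1.1.of_equiv (Subgroup.subgroupOfEquivOfLe hPH).symm
  have hpair := isBrauerPairOf_of_induced hM hP'p hind
  have hcoe : subgroupBlockCoeff (Subgroup.centralizer (P : Set G)) c =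
      extendByZero H (subgroupBlockCoeff (Subgroup.centralizer (P' : Set H)) c') := by
    rw [← subgroupBlockCoeff_relEquiv hV hCH c']
    congr 1
    ext ξ
    constructor
    · intro hξ
      exact ⟨transIrr ε.symm ξ, ⟨ξ, hξ, rfl⟩, transIrr_symm ε ξ⟩
    · rintro ⟨_, ⟨ξ', hξ', rfl⟩, rfl⟩
      exact (transIrr_symm ε ξ').symm ▸ hξ'
  have hpush : IsPush (⟨P', c'⟩ : BrauerPairIdx H) (⟨P, c⟩ : BrauerPairIdx G) := ⟨hV, hcoe⟩
  refine ⟨P', c', ⟨hpair, fun R r hR hle => ?_⟩, hpush⟩
  have hPR : P' ≤ R := subpairLE_le hle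
  have hCR : Subgroup.centralizer ((R.map H.subtype : Subgroup G) : Set G) ≤ H :=
    (Subgroup.centralizer_le ((hV ▸ Subgroup.map_mono hPR : P ≤ R.map H.subtype))).trans hCH
  obtain ⟨⟨R', r'⟩, hR'⟩ := exists_push (⟨R, r⟩ : BrauerPairIdx H) hCR
  have hR'1 : R.map H.subtype = R' := hR'.1
  have hle' : SubpairLE p M P c R' r' := subpairLE_push (Q := P) hCH hpush hR' le_rfl hle
  have hbr : IsBrauerPair p M R' r' := isBrauerPair_push hR' (hR'1 ▸ hCR) hR.1
  have h1 := hmax.2 R' r'
    ((isBrauerPairOf_iff_of_subpairLE hM hbr hle' hmax.1.2.1).2 hmax.1) hle'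
  exact Subgroup.map_injective (Subgroup.subtype_injective _) (hR'1.trans (h1.trans hV.symm))

variable {P' : Subgroup H} {c' : Set (IrrCharacter (Subgroup.centralizer (P' : Set H)))}

theorem mem_local_iff (hpush : IsPush (⟨P', c'⟩ : BrauerPairIdx H) (⟨P, c⟩ : BrauerPairIdx G))
    {v : H} : v ∈ P' ↔ (v : G) ∈ P := by
  have h : P'.map H.subtype = P := hpush.1
  rw [← h]
  exact (Subgroup.mem_map_iff_mem H.subtype_injective).symm

theorem local_le (hpush : IsPush (⟨P', c'⟩ : BrauerPairIdx H) (⟨P, c⟩ : BrauerPairIdx G)) :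
    P ≤ H := by
  have h : P'.map H.subtype = P := hpush.1
  rw [← h]
  exact Subgroup.map_subtype_le _

theorem pairStab_local (hpush : IsPush (⟨P', c'⟩ : BrauerPairIdx H) (⟨P, c⟩ : BrauerPairIdx G))
    (g : H) : (g : G) ∈ pairStab P c ↔ g ∈ pairStab P' c' := by
  have hPH := local_le hpush
  rw [mem_pairStab, mem_pairStab]
  refine and_congr ?_ ?_
  · rw [Subgroup.mem_normalizer_iff, Subgroup.mem_normalizer_iff]
    constructor
    · intro h z
      rw [mem_local_iff hpush, mem_local_iff hpush]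
      exact h (z : G)
    · intro h z
      by_cases hz : z ∈ H
      · have h' := h ⟨z, hz⟩
        rw [mem_local_iff hpush, mem_local_iff hpush] at h'
        exact h'
      · exact ⟨fun h' => absurd (hPH h') hz, fun h' => absurd (by
          simpa [mul_assoc] using mul_mem (mul_mem (inv_mem g.2) (hPH h')) g.2) hz⟩
  · have hc : subgroupBlockCoeff (Subgroup.centralizer (P : Set G)) c =
        extendByZero H (subgroupBlockCoeff (Subgroup.centralizer (P' : Set H)) c') := hpush.2
    rw [hc, gconj_extendByZero]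
    exact ⟨fun h => funext fun z => by
      simpa [extendByZero_of_mem _ _ z.2] using congrFun h z, fun h => by rw [h]⟩

theorem hab_local (hab : ∀ x ∈ P, ∀ y ∈ P, x * y = y * x)
    (hpush : IsPush (⟨P', c'⟩ : BrauerPairIdx H) (⟨P, c⟩ : BrauerPairIdx G)) :
    ∀ x ∈ P', ∀ y ∈ P', x * y = y * x := fun x hx y hy =>
  Subtype.ext (hab _ ((mem_local_iff hpush).1 hx) _ ((mem_local_iff hpush).1 hy))

/-- Ranks above a subgroup with centraliser inside `H` are computed inside `H`. -/
theorem rkQ_push (hM : IsPModular p M) (hPc : IsBrauerPair p M P c)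
    (hP'c : IsBrauerPair p M P' c')
    (hpush : IsPush (⟨P', c'⟩ : BrauerPairIdx H) (⟨P, c⟩ : BrauerPairIdx G))
    {Q' : Subgroup H} (hQ' : Q' ≤ P')
    (hC : Subgroup.centralizer ((Q'.map H.subtype : Subgroup G) : Set G) ≤ H) :
    rkQ p M P c (Q'.map H.subtype) = rkQ p M P' c' Q' := by
  obtain ⟨r', -, hr'⟩ := exists_subpairLE hM hP'c hQ'
  obtain ⟨⟨Q, r⟩, hr⟩ := exists_push (⟨Q', r'⟩ : BrauerPairIdx H) hC
  have hQ : Q'.map H.subtype = Q := hr.1
  subst hQ
  have hle : SubpairLE p M (Q'.map H.subtype) r P c :=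
    subpairLE_push (Q := Q'.map H.subtype) hC hr hpush le_rfl hr'
  rw [rkQ_eq hM hPc hle, rkQ_eq hM hP'c hr', IsPush.eq_transBlock hr hC, blockRank_transBlock]

/-- A central element of `H` may be adjoined to a subgroup of `H`. -/
theorem rkQ_local (hM : IsPModular p M) (hPc : IsBrauerPair p M P c)
    (hab : ∀ x ∈ P, ∀ y ∈ P, x * y = y * x) (hP'c : IsBrauerPair p M P' c')
    (hpush : IsPush (⟨P', c'⟩ : BrauerPairIdx H) (⟨P, c⟩ : BrauerPairIdx G))
    {w : G} (hw : w ∈ P) (hH : H = Subgroup.centralizer (Subgroup.zpowers w : Set G))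
    {v : H} (hv : (v : G) ∈ P) :
    rkQ p M P' c' (Subgroup.zpowers v) =
      rkQ p M P c (Subgroup.zpowers w ⊔ Subgroup.zpowers (v : G)) := by
  set w' : H := ⟨w, local_le hpush hw⟩
  have hwP : w' ∈ P' := (mem_local_iff hpush).2 hw
  have hvP : v ∈ P' := (mem_local_iff hpush).2 hv
  have hmap : (Subgroup.zpowers w' ⊔ Subgroup.zpowers v).map H.subtype =
      Subgroup.zpowers w ⊔ Subgroup.zpowers (v : G) := by
    rw [Subgroup.map_sup, MonoidHom.map_zpowers, MonoidHom.map_zpowers]
    rfl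
  have hle : Subgroup.zpowers w' ⊔ Subgroup.zpowers v ≤ P' :=
    sup_le (Subgroup.zpowers_le.2 hwP) (Subgroup.zpowers_le.2 hvP)
  rw [rkQ_of_centralizer_le hM hP'c (hab_local hab hpush) (le_sup_right : _ ≤
    Subgroup.zpowers w' ⊔ Subgroup.zpowers v) hle ?_, ← rkQ_push hM hPc hP'c hpush hle ?_, hmap]
  · rw [hmap]
    exact (Subgroup.centralizer_le (le_sup_left : Subgroup.zpowers w ≤
      Subgroup.zpowers w ⊔ Subgroup.zpowers (v : G))).trans hH.ge
  · intro x hx
    have hxw : w' ∈ Subgroup.centralizer ({x} : Set H) := by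
      have h := x.2
      rw [Subgroup.mem_centralizer_singleton_iff]
      refine Subtype.ext ?_
      show w * (x : G) = (x : G) * w
      have h' : (x : G) ∈ Subgroup.centralizer (Subgroup.zpowers w : Set G) := hH ▸ h
      exact Subgroup.mem_centralizer_iff.1 h' w (Subgroup.mem_zpowers w)
    have hxv : v ∈ Subgroup.centralizer ({x} : Set H) :=
      Subgroup.mem_centralizer_singleton_iff.2
        (Subgroup.mem_centralizer_iff.1 hx v (Subgroup.mem_zpowers v))
    rw [Subgroup.mem_centralizer_iff]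
    intro y hy
    exact Subgroup.mem_centralizer_singleton_iff.1
      ((sup_le (Subgroup.zpowers_le.2 hxw) (Subgroup.zpowers_le.2 hxv) :
        Subgroup.zpowers w' ⊔ Subgroup.zpowers v ≤ Subgroup.centralizer ({x} : Set H)) hy)

theorem stabFocal_local (hpush : IsPush (⟨P', c'⟩ : BrauerPairIdx H) (⟨P, c⟩ : BrauerPairIdx G))
    (hT : pairStab P c ≤ H) : (stabFocal P' c').map H.subtype = stabFocal P c := by
  rw [stabFocal, stabFocal, MonoidHom.map_closure]
  congr 1
  ext z
  constructor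
  · rintro ⟨_, ⟨v, hv, t, ht, rfl⟩, rfl⟩
    exact ⟨v, (mem_local_iff hpush).1 hv, t, (pairStab_local hpush t).2 ht, by simp⟩
  · rintro ⟨v, hv, t, ht, rfl⟩
    exact ⟨_, ⟨⟨v, local_le hpush hv⟩, (mem_local_iff hpush).2 hv, ⟨t, hT ht⟩,
      (pairStab_local hpush ⟨t, hT ht⟩).1 ht, rfl⟩, rfl⟩

open scoped Classical in
/-- The weighted sum inside `H` read in `G`. -/
theorem rankSum_local [Fintype H] (hpush : IsPush (⟨P', c'⟩ : BrauerPairIdx H) (⟨P, c⟩ : BrauerPairIdx G))
    (hT : pairStab P c ≤ H) {w' : H → ℂ} {w : G → ℂ} {R : G → ℕ}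
    (hR : ∀ v : H, v ∈ P' → R v = rkQ p M P' c' (Subgroup.zpowers v))
    (hw : ∀ v : H, v ∈ P' → w' v = w v) :
    rankSum p M P' c' w' =
      ∑ v ∈ Finset.univ.filter (· ∈ P), w v * (R v : ℂ) / ((inertialOrbit P c v).card : ℂ) := by
  refine Finset.sum_bij (fun v _ => (v : G)) (fun v hv => ?_) (fun _ _ _ _ h => Subtype.ext h)
    (fun g hg => ?_) (fun v hv => ?_)
  · exact Finset.mem_filter.2 ⟨Finset.mem_univ _, (mem_local_iff hpush).1 (Finset.mem_filter.1 hv).2⟩
  · exact ⟨⟨g, local_le hpush (Finset.mem_filter.1 hg).2⟩, Finset.mem_filter.2 ⟨Finset.mem_univ _,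
      (mem_local_iff hpush).2 (Finset.mem_filter.1 hg).2⟩, rfl⟩
  · have hvP := (Finset.mem_filter.1 hv).2
    rw [← hR v hvP, ← hw v hvP]
    have horb : (inertialOrbit P' c' v).card = (inertialOrbit P c (v : G)).card := by
      refine Finset.card_bij (fun a _ => (a : G)) (fun a ha => ?_)
        (fun _ _ _ _ h => Subtype.ext h) (fun g hg => ?_)
      · obtain ⟨t, ht, rfl⟩ := mem_inertialOrbit.1 ha
        exact mem_inertialOrbit.2 ⟨t, (pairStab_local hpush t).2 ht, rfl⟩
      · obtain ⟨t, ht, rfl⟩ := mem_inertialOrbit.1 hg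
        exact ⟨⟨t, hT ht⟩ * v * ⟨t, hT ht⟩⁻¹, mem_inertialOrbit.2
          ⟨⟨t, hT ht⟩, (pairStab_local hpush ⟨t, hT ht⟩).1 ht, rfl⟩, rfl⟩
    rw [horb]

/-- A central element has the rank of the block. -/
theorem rkQ_central (hM : IsPModular p M) (hPc : IsBrauerPair p M P c)
    (hab : ∀ x ∈ P, ∀ y ∈ P, x * y = y * x) {v : G} (hv : v ∈ P)
    (hvc : v ∈ Subgroup.center G) :
    rkQ p M P c ⊥ = rkQ p M P c (Subgroup.zpowers v) :=
  rkQ_of_centralizer_le hM hPc hab bot_le (Subgroup.zpowers_le.2 hv) fun x _ =>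
    Subgroup.mem_centralizer_iff.2 fun y hy =>
      (Subgroup.mem_center_iff.1 ((Subgroup.zpowers_le.2 hvc) hy) x).symm

end

theorem stab_le_centralizer {G : Type u} [Group G] [Fintype G] {P : Subgroup G}
    {c : Set (IrrCharacter (Subgroup.centralizer (P : Set G)))} {u : G}
    (hfix : ∀ t ∈ pairStab P c, t * u * t⁻¹ = u) :
    pairStab P c ≤ Subgroup.centralizer (Subgroup.zpowers u : Set G) := fun t ht => by
  rw [Subgroup.mem_centralizer_iff]
  rintro _ ⟨j, rfl⟩
  exact ((show Commute t u from mul_inv_eq_iff_eq_mul.1 (hfix t ht)).zpow_right j).eq.symm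

/-- **The local comparison in a group, given it in all smaller groups.** -/
theorem watanabe_step {G : Type u} [Group G] [Fintype G] {M : Ideal AlgInt} [hMp : M.IsPrime]
    {p : ℕ} (hM : IsPModular p M)
    (ih : ∀ {K : Type u} [Group K] [Fintype K], Nat.card K < Nat.card G →
      ∀ (B : Set (IrrCharacter K)) (P : Subgroup K)
        (c : Set (IrrCharacter (Subgroup.centralizer (P : Set K)))),
        IsMaximalBrauerPair p M B P c → (∀ x ∈ P, ∀ y ∈ P, x * y = y * x) →
        ∀ u ∈ P, (∀ t ∈ pairStab P c, t * u * t⁻¹ = u) →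
          rkQ p M P c ⊥ = rkQ p M P c (Subgroup.zpowers u))
    {B : Set (IrrCharacter G)} {P : Subgroup G}
    {c : Set (IrrCharacter (Subgroup.centralizer (P : Set G)))}
    (hmax : IsMaximalBrauerPair p M B P c) (hab : ∀ x ∈ P, ∀ y ∈ P, x * y = y * x)
    {u : G} (hu : u ∈ P) (hfix : ∀ t ∈ pairStab P c, t * u * t⁻¹ = u)
    {v : G} (hv : v ∈ P) (hvc : v ∉ Subgroup.center G) :
    rkQ p M P c (Subgroup.zpowers v) =
      rkQ p M P c (Subgroup.zpowers u ⊔ Subgroup.zpowers v) := by
  classical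
  set L := Subgroup.centralizer (Subgroup.zpowers v : Set G) with hL
  haveI : Fintype L := Fintype.ofFinite L
  have hPL : P ≤ L := BrauerPairs.le_normalizer_of_comm hab (Subgroup.zpowers_le.2 hv)
  have hCL : Subgroup.centralizer (P : Set G) ≤ L :=
    Subgroup.centralizer_le (Subgroup.zpowers_le.2 hv : Subgroup.zpowers v ≤ P)
  obtain ⟨f, hf⟩ := exists_inducedIn hM hmax.1.1.1 hPL hab hCL hmax.1.1.2
  obtain ⟨P', c', hmax', hpush⟩ := exists_local_pair hM hmax hPL hCL hf
  have hlt : Nat.card L < Nat.card G := by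
    refine lt_of_le_of_ne (Subgroup.card_le_card_group L) fun h => hvc ?_
    have htop : L = ⊤ := Subgroup.eq_top_of_card_eq L h
    rw [Subgroup.mem_center_iff]
    intro g
    have hg : g ∈ L := htop ▸ Subgroup.mem_top g
    exact (Subgroup.mem_centralizer_iff.1 hg v (Subgroup.mem_zpowers v)).symm
  set u' : L := ⟨u, hPL hu⟩
  set v' : L := ⟨v, hPL hv⟩
  have hv'c : v' ∈ Subgroup.center L := Subgroup.mem_center_iff.2 fun g => Subtype.ext
    ((Subgroup.mem_centralizer_iff.1 g.2 v (Subgroup.mem_zpowers v)).symm)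
  have h1 := ih hlt f P' c' hmax' (hab_local hab hpush) u' ((mem_local_iff hpush).2 hu)
    fun t ht => Subtype.ext (hfix t ((pairStab_local hpush t).2 ht))
  rw [rkQ_central hM hmax'.1.1 (hab_local hab hpush) ((mem_local_iff hpush).2 hv) hv'c,
    rkQ_local hM hmax.1.1 hab hmax'.1.1 hpush hv hL (v := v') hv,
    rkQ_local hM hmax.1.1 hab hmax'.1.1 hpush hv hL (v := u') hu] at h1
  rw [show (v' : G) = v from rfl, show (u' : G) = u from rfl, sup_idem] at h1
  rw [h1, sup_comm]

/-- **An element fixed by the inertial group does not change the rank.** -/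
theorem rkQ_bot_eq_of_fixed {M : Ideal AlgInt} [hMp : M.IsPrime] {p : ℕ} (hM : IsPModular p M) :
    ∀ (n : ℕ) {G : Type u} [Group G] [Fintype G], Nat.card G = n →
      ∀ (B : Set (IrrCharacter G)) (P : Subgroup G)
        (c : Set (IrrCharacter (Subgroup.centralizer (P : Set G)))),
        IsMaximalBrauerPair p M B P c → (∀ x ∈ P, ∀ y ∈ P, x * y = y * x) →
        ∀ u ∈ P, (∀ t ∈ pairStab P c, t * u * t⁻¹ = u) →
          rkQ p M P c ⊥ = rkQ p M P c (Subgroup.zpowers u) := by
  intro n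
  induction n using Nat.strong_induction_on with
  | _ n ih =>
  intro G _ _ hn B P c hmax hab u hu hfix
  classical
  by_cases huc : u ∈ Subgroup.center G
  · exact rkQ_central hM hmax.1.1 hab hu huc
  have hstep : ∀ v ∈ P, v ∉ Subgroup.center G → rkQ p M P c (Subgroup.zpowers v) =
      rkQ p M P c (Subgroup.zpowers u ⊔ Subgroup.zpowers v) := fun v hv hvc =>
    watanabe_step hM (fun {K} _ _ hK => ih (Nat.card K) (hn ▸ hK) rfl) hmax hab hu hfix hv hvc
  set H := Subgroup.centralizer (Subgroup.zpowers u : Set G) with hH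
  haveI : Fintype H := Fintype.ofFinite H
  have hT : pairStab P c ≤ H := stab_le_centralizer hfix
  have hPH : P ≤ H := BrauerPairs.le_normalizer_of_comm hab (Subgroup.zpowers_le.2 hu)
  have hCH : Subgroup.centralizer (P : Set G) ≤ H :=
    Subgroup.centralizer_le (Subgroup.zpowers_le.2 hu : Subgroup.zpowers u ≤ P)
  obtain ⟨f, hf⟩ := exists_inducedIn hM hmax.1.1.1 hPH hab hCH hmax.1.1.2
  obtain ⟨P', c', hmax', hpush⟩ := exists_local_pair hM hmax hPH hCH hf
  set R : G → ℕ := fun v => rkQ p M P c (Subgroup.zpowers u ⊔ Subgroup.zpowers v)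
  have hR : ∀ v : H, v ∈ P' → R v = rkQ p M P' c' (Subgroup.zpowers v) := fun v hv =>
    (rkQ_local hM hmax.1.1 hab hmax'.1.1 hpush hu hH ((mem_local_iff hpush).1 hv)).symm
  set D := stabFocal P c
  have hD : stabFocal P' c' = D.subgroupOf H := by
    rw [show D = (stabFocal P' c').map H.subtype from (stabFocal_local hpush hT).symm,
      Subgroup.subgroupOf, Subgroup.comap_map_eq_self_of_injective H.subtype_injective]
  -- the sum over a coset, in `G` and in `H`
  let S : G → (G → ℕ) → ℂ := fun y F => ∑ v ∈ Finset.univ.filter (· ∈ P),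
    (if y⁻¹ * v ∈ D then (1 : ℂ) else 0) * (F v : ℂ) / ((inertialOrbit P c v).card : ℂ)
  let i : ℂ := (D.relIndex P : ℕ)
  let i' : ℂ := ((stabFocal P' c').relIndex P' : ℕ)
  have hSG : ∀ y ∈ P, i * S y (fun v => rkQ p M P c (Subgroup.zpowers v)) = (Nat.card B : ℂ) :=
    fun y hy => rankSum_coset hM hmax hab hy
  have hSH : ∀ y ∈ P, i' * S y R = (Nat.card f : ℂ) := fun y hy => by
    rw [← rankSum_coset hM hmax' (hab_local hab hpush)
      ((mem_local_iff hpush).2 hy : (⟨y, hPH hy⟩ : H) ∈ P')]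
    congr 1
    refine (rankSum_local hpush hT hR fun v _ => ?_).symm
    refine if_congr ?_ rfl rfl
    rw [hD, Subgroup.mem_subgroupOf]
    rfl
  have hi : i ≠ 0 := Nat.cast_ne_zero.2 Subgroup.FiniteIndex.index_ne_zero
  have hi' : i' ≠ 0 := Nat.cast_ne_zero.2 Subgroup.FiniteIndex.index_ne_zero
  have hG1 := mul_left_cancel₀ hi ((hSG 1 (one_mem P)).trans (hSG u hu).symm)
  have hH1 := mul_left_cancel₀ hi' ((hSH 1 (one_mem P)).trans (hSH u hu).symm)
  -- the differences
  set d : ℂ := (rkQ p M P c ⊥ : ℂ) - (rkQ p M P c (Subgroup.zpowers u) : ℂ)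
  have hdiff : ∀ v ∈ P, (rkQ p M P c (Subgroup.zpowers v) : ℂ) - (R v : ℂ) =
      if v ∈ Subgroup.center G then d else 0 := by
    intro v hv
    split_ifs with hvc
    · simp only [R, d]
      rw [← rkQ_central hM hmax.1.1 hab hv hvc,
        ← rkQ_of_centralizer_le hM hmax.1.1 hab (le_sup_left : Subgroup.zpowers u ≤
          Subgroup.zpowers u ⊔ Subgroup.zpowers v)
          (sup_le (Subgroup.zpowers_le.2 hu) (Subgroup.zpowers_le.2 hv)) fun x hx => ?_]
      rw [Subgroup.mem_centralizer_iff]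
      intro y hy
      exact Subgroup.mem_centralizer_singleton_iff.1
        ((sup_le (Subgroup.zpowers_le.2 (Subgroup.mem_centralizer_singleton_iff.2
            (Subgroup.mem_centralizer_iff.1 hx u (Subgroup.mem_zpowers u))))
          (Subgroup.zpowers_le.2 (Subgroup.mem_centralizer_singleton_iff.2
            (Subgroup.mem_center_iff.1 hvc x).symm)) :
          Subgroup.zpowers u ⊔ Subgroup.zpowers v ≤ Subgroup.centralizer ({x} : Set G)) hy)
    · simp only [R]
      rw [hstep v hv hvc, sub_self]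
  have hsub : ∀ y, S y (fun v => rkQ p M P c (Subgroup.zpowers v)) - S y R =
      ∑ v ∈ Finset.univ.filter (· ∈ P), (if y⁻¹ * v ∈ D then (1 : ℂ) else 0) *
        (if v ∈ Subgroup.center G then d else 0) / ((inertialOrbit P c v).card : ℂ) := fun y => by
    simp only [S]
    rw [← Finset.sum_sub_distrib]
    refine Finset.sum_congr rfl fun v hv => ?_
    rw [← hdiff v (Finset.mem_filter.1 hv).2, ← sub_div, ← mul_sub]
  have hcfix : ∀ v ∈ Subgroup.center G, ∀ t ∈ pairStab P c, t * v * t⁻¹ = v := fun v hv t _ => by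
    rw [Subgroup.mem_center_iff.1 hv t, mul_inv_cancel_right]
  have hone : ∀ z ∈ D, (∀ t ∈ pairStab P c, t * z * t⁻¹ = z) → z = 1 := fun z hz =>
    eq_one_of_mem_stabFocal hM hmax hab hz
  have hkey : S 1 (fun v => rkQ p M P c (Subgroup.zpowers v)) - S 1 R =
      S u (fun v => rkQ p M P c (Subgroup.zpowers v)) - S u R := by rw [hG1, hH1]
  rw [hsub, hsub, Finset.sum_eq_single (1 : G),
    Finset.sum_eq_zero (s := Finset.univ.filter (· ∈ P))
      (f := fun v => (if u⁻¹ * v ∈ D then (1 : ℂ) else 0) *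
        (if v ∈ Subgroup.center G then d else 0) / ((inertialOrbit P c v).card : ℂ))] at hkey
  · rw [if_pos (by simp), if_pos (one_mem _), one_mul, div_eq_zero_iff] at hkey
    rcases hkey with h | h
    · exact Nat.cast_injective (sub_eq_zero.1 h)
    · exact absurd h (Nat.cast_ne_zero.2 (Finset.card_ne_zero.2
        ⟨1, mem_inertialOrbit.2 ⟨1, one_mem _, by group⟩⟩))
  · intro v hv
    split_ifs with h1 h2 <;> try simp
    have huv : u⁻¹ * v = 1 := hone _ h1 fun t ht => by
      have e1 : t * u⁻¹ * t⁻¹ = u⁻¹ := by rw [← conj_inv, hfix t ht]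
      calc t * (u⁻¹ * v) * t⁻¹ = (t * u⁻¹ * t⁻¹) * (t * v * t⁻¹) := by group
        _ = _ := by rw [e1, hcfix v h2 t ht]
    exact absurd ((inv_mul_eq_one.1 huv) ▸ h2) huc
  · intro v hv hv1
    split_ifs with h1 h2 <;> try simp
    exact absurd (hone v (by simpa using h1) (hcfix v h2)) hv1
  · exact fun h => absurd (Finset.mem_filter.2 ⟨Finset.mem_univ _, one_mem P⟩) h

/-- **Watanabe's theorem.** -/
theorem watanabe {G : Type u} [Group G] [Fintype G] {M : Ideal AlgInt} [hMp : M.IsPrime]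
    {p : ℕ} (hM : IsPModular p M) {B : Set (IrrCharacter G)} {P : Subgroup G}
    {c : Set (IrrCharacter (Subgroup.centralizer (P : Set G)))}
    (hmax : IsMaximalBrauerPair p M B P c) (hab : ∀ x ∈ P, ∀ y ∈ P, x * y = y * x)
    {u : G} (hu : u ∈ P) (hfix : ∀ t ∈ pairStab P c, t * u * t⁻¹ = u)
    {H : Subgroup G} [Fintype H] (hH : H = Subgroup.centralizer (Subgroup.zpowers u : Set G))
    {f : Set (IrrCharacter H)}
    (hf : IsInducedBlockIn M H (Subgroup.centralizer (P : Set G)) c f) :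
    blockRank p B = blockRank p f ∧ Nat.card B = Nat.card f := by
  classical
  have hT : pairStab P c ≤ H := hH ▸ stab_le_centralizer hfix
  have hPH : P ≤ H := hH ▸ BrauerPairs.le_normalizer_of_comm hab (Subgroup.zpowers_le.2 hu)
  have hCH : Subgroup.centralizer (P : Set G) ≤ H :=
    hH ▸ Subgroup.centralizer_le (Subgroup.zpowers_le.2 hu : Subgroup.zpowers u ≤ P)
  obtain ⟨P', c', hmax', hpush⟩ := exists_local_pair hM hmax hPH hCH hf
  set R : G → ℕ := fun v => rkQ p M P c (Subgroup.zpowers u ⊔ Subgroup.zpowers v)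
  have hR : ∀ v : H, v ∈ P' → R v = rkQ p M P' c' (Subgroup.zpowers v) := fun v hv =>
    (rkQ_local hM hmax.1.1 hab hmax'.1.1 hpush hu hH ((mem_local_iff hpush).1 hv)).symm
  have hmain := rkQ_bot_eq_of_fixed hM (Nat.card G) rfl B P c hmax hab u hu hfix
  have hall : ∀ v ∈ P, rkQ p M P c (Subgroup.zpowers v) = R v := by
    intro v hv
    by_cases hvc : v ∈ Subgroup.center G
    · simp only [R]
      rw [← rkQ_central hM hmax.1.1 hab hv hvc, hmain]
      refine rkQ_of_centralizer_le hM hmax.1.1 hab le_sup_left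
        (sup_le (Subgroup.zpowers_le.2 hu) (Subgroup.zpowers_le.2 hv)) fun x hx => ?_
      rw [Subgroup.mem_centralizer_iff]
      intro y hy
      exact Subgroup.mem_centralizer_singleton_iff.1
        ((sup_le (Subgroup.zpowers_le.2 (Subgroup.mem_centralizer_singleton_iff.2
            (Subgroup.mem_centralizer_iff.1 hx u (Subgroup.mem_zpowers u))))
          (Subgroup.zpowers_le.2 (Subgroup.mem_centralizer_singleton_iff.2
            (Subgroup.mem_center_iff.1 hvc x).symm)) :
          Subgroup.zpowers u ⊔ Subgroup.zpowers v ≤ Subgroup.centralizer ({x} : Set G)) hy)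
    · exact watanabe_step hM (fun {K} _ _ _ => rkQ_bot_eq_of_fixed hM (Nat.card K) rfl)
        hmax hab hu hfix hv hvc
  constructor
  · have h0 : rkQ p M P c (Subgroup.zpowers u) = rkQ p M P' c' ⊥ := by
      have h := hR 1 (one_mem P')
      simp only [R, OneMemClass.coe_one, Subgroup.zpowers_one_eq_bot, sup_bot_eq] at h
      exact h
    rw [← rkQ_bot hM hmax, hmain, h0, rkQ_bot hM hmax']
  · have h1 := rankSum_lam hM hmax hab (lam := 1) (fun _ _ _ => rfl) (w := fun _ => 1)
      (fun _ => by simp)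
    have h2 := rankSum_lam hM hmax' (hab_local hab hpush) (lam := 1) (fun _ _ _ => rfl)
      (w := fun _ => 1) (fun _ => by simp)
    rw [if_pos rfl] at h1 h2
    rw [rankSum_local hpush hT hR (w := fun _ => 1) (fun _ _ => rfl)] at h2
    have h3 : rankSum p M P c (fun _ => 1) =
        ∑ v ∈ Finset.univ.filter (· ∈ P), (1 : ℂ) * (R v : ℂ) / ((inertialOrbit P c v).card : ℂ) :=
      Finset.sum_congr rfl fun v hv => by rw [hall v (Finset.mem_filter.1 hv).2]
    exact_mod_cast h1.symm.trans (h3.trans h2)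

end Cfsg.Agent.Lib.BrauerStar
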