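import Cfsg.Agent.Lib.BrauerStar.Integral
import Cfsg.Agent.Lib.BrauerStar.OrbitCount
import Cfsg.Agent.Lib.Blocks.CyclicDefect

/-!
# Ranks of the subsections of a block with abelian defect group, weighted by linear characters
-/

set_option autoImplicit false
set_option linter.unusedSectionVars false
set_option linter.style.haveILetI false

namespace Cfsg.Agent.Lib.BrauerStar

open Cfsg Cfsg.Agent.Lib.Blocks Cfsg.Agent.Lib.Characters Cfsg.Agent.Lib.BrauerPairs
  Cfsg.Agent.Lib.BlockHeights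
open scoped ComplexConjugate

universe u

variable {G : Type u} [Group G] [Fintype G] {M : Ideal AlgInt} [hMp : M.IsPrime] {p : ℕ}
  {B : Set (IrrCharacter G)} {P : Subgroup G}
  {c : Set (IrrCharacter (Subgroup.centralizer (P : Set G)))}

noncomputable local instance fintypeSubgroupWat (H : Subgroup G) : Fintype H := Fintype.ofFinite H

local notation3 "Cz" u:max => Subgroup.centralizer (SetLike.coe (Subgroup.zpowers u))

open scoped Classical in
/-- The rank of the block of the pair at `Q` below `(P, c)`. -/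
noncomputable def rkQ (p : ℕ) (M : Ideal AlgInt) (P : Subgroup G)
    (c : Set (IrrCharacter (Subgroup.centralizer (P : Set G)))) (Q : Subgroup G) : ℕ :=
  if h : ∃ f : Set (IrrCharacter (Subgroup.centralizer (Q : Set G))), SubpairLE p M Q f P c then
    blockRank p h.choose else 0

theorem rkQ_eq (hM : IsPModular p M) (hPc : IsBrauerPair p M P c) {Q : Subgroup G}
    {f : Set (IrrCharacter (Subgroup.centralizer (Q : Set G)))} (hf : SubpairLE p M Q f P c) :
    rkQ p M P c Q = blockRank p f := by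
  have h : ∃ f : Set (IrrCharacter (Subgroup.centralizer (Q : Set G))), SubpairLE p M Q f P c :=
    ⟨f, hf⟩
  rw [rkQ, dif_pos h, subpairLE_unique hM hPc h.choose_spec hf]

theorem rkQ_pair_congr (hM : IsPModular p M) (hPc : IsBrauerPair p M P c) {Q : Subgroup G}
    {a : BrauerPairIdx G} (ha : a.1 = Q) (hle : SubpairLE p M a.1 a.2 P c) :
    rkQ p M P c Q = blockRank p a.2 := by
  subst ha
  exact rkQ_eq hM hPc hle

/-- A weight on the defect group invariant under the inertial group. -/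
def StabInv (P : Subgroup G) (c : Set (IrrCharacter (Subgroup.centralizer (P : Set G))))
    (lam : P →* ℂˣ) : Prop :=
  ∀ v w : P, (∃ t ∈ pairStab P c, t * (v : G) * t⁻¹ = w) → lam v = lam w

/-- An invariant linear character is trivial on the focal subgroup. -/
theorem isFocTrivial_of_stabInv (hM : IsPModular p M) (hmax : IsMaximalBrauerPair p M B P c)
    (hab : ∀ x ∈ P, ∀ y ∈ P, x * y = y * x) {F : FusionSystem P}
    (hF : IsBlockFusionSystemOn p M B P c F) {lam : P →* ℂˣ} (hlam : StabInv P c lam) :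
    IsFocTrivial F lam := by
  classical
  let K : Subgroup G := lam.ker.map P.subtype
  suffices hK : F.focalSubgroup ≤ K by
    intro y hy
    obtain ⟨z, hz, hzy⟩ := hK hy
    rwa [← Subtype.ext hzy]
  refine (Subgroup.closure_le _).2 ?_
  rintro _ ⟨Q, φ, x, hφ, rfl⟩
  obtain ⟨hQ, g, hg, hgle, f, hf, hf'⟩ := (hF.2 _ _).1 hφ
  have hxP : (x : G) ∈ P := hQ x.2
  have hwP : φ x ∈ P := by
    rw [hg]; exact hgle ⟨x, x.2, rfl⟩
  obtain ⟨fx, -, hfx⟩ := exists_subpairLE hM (isBrauerPair_of_subpairLE hmax.1.1 hf)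
    (Subgroup.zpowers_le.2 x.2)
  obtain ⟨r, hr⟩ := exists_conj_zpowers fx g (φ x) (hg x).symm
  have hrle : SubpairLE p M (Subgroup.zpowers (φ x)) r P c := by
    show Relation.ReflTransGen (NormalSubpairRel p M)
      (⟨Subgroup.zpowers (φ x), r⟩ : BrauerPairIdx G) ⟨P, c⟩
    rw [hr]
    exact (subpairLE_conj hfx g).trans hf'
  obtain ⟨t, ht, htx⟩ := conj_fusion_of_comm hM hmax hab hxP hwP (subpairLE_trans hfx hf) hrle
    (hg x).symm hr.symm
  refine ⟨(⟨x, hxP⟩ : P)⁻¹ * ⟨φ x, hwP⟩, ?_, by simp⟩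
  show lam _ = 1
  rw [map_mul, map_inv, hlam ⟨x, hxP⟩ ⟨φ x, hwP⟩ ⟨t, ht, htx⟩, inv_mul_cancel]

/-- The inner product of a star product with a character, by all sections. -/
theorem card_mul_classInner_starFun (hM : IsPModular p M) {η : PairWeight G} (hη : ConjInv M η)
    {χ ψ : G → ℂ} (hχ : IsClassFunction G χ) (hψ : IsClassFunction G ψ)
    [DecidablePred fun u : G => ∃ k : ℕ, orderOf u = p ^ k] :
    (Nat.card G : ℂ) * classInner (starFun p M η χ) ψ =
      ∑ u ∈ Finset.univ.filter (fun u : G => ∃ k : ℕ, orderOf u = p ^ k),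
        (Nat.card (Cz u) : ℂ) * ∑ᶠ f : Bl M (Cz u),
          η u f.1 * classInner (sect p u f.1 χ) (sect p u f.1 ψ) := by
  classical
  rw [classInner, mul_inv_cancel_left₀ natCard_ne_zero_complex,
    sum_eq_sum_pElements hM.1 fun g => starFun p M η χ g * conj (ψ g)]
  refine Finset.sum_congr rfl fun u hu => ?_
  have hu' : ∃ k : ℕ, orderOf u = p ^ k := (Finset.mem_filter.1 hu).2
  haveI := Fintype.ofFinite (Bl M (Cz u))
  rw [finsum_mem_eq_finite_toFinset_sum _ (Set.toFinite _), finsum_eq_sum_of_fintype]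
  have hterm : ∀ f : Bl M (Cz u),
      (Nat.card (Cz u) : ℂ) * (η u f.1 * classInner (sect p u f.1 χ) (sect p u f.1 ψ)) =
        ∑ s : Cz u, η u f.1 * sect p u f.1 χ s * conj (ψ (u * (s : G))) := fun f => by
    rw [← classInner_sect_shiftRes hM u f.2 hχ hψ, classInner, mul_left_comm (η u f.1),
      mul_inv_cancel_left₀ natCard_ne_zero_complex, Finset.mul_sum]
    exact Finset.sum_congr rfl fun s _ => by rw [shiftRes, mul_assoc]
  rw [Finset.mul_sum, Finset.sum_congr rfl fun f _ => hterm f, Finset.sum_comm]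
  have hrhs : ∀ s : Cz u, ∑ f : Bl M (Cz u), η u f.1 * sect p u f.1 χ s * conj (ψ (u * (s : G))) =
      if IsPRegular p s then starFun p M η χ (u * (s : G)) * conj (ψ (u * (s : G))) else 0 := by
    intro s
    by_cases hs : IsPRegular p s
    · rw [if_pos hs, starFun_mul hM.1 η χ hu' hs, finsum_eq_sum_of_fintype, Finset.sum_mul]
      exact Finset.sum_congr rfl fun f _ => by rw [sect_apply_regular u f.1 hχ hs]
    · rw [if_neg hs]
      refine Finset.sum_eq_zero fun f _ => ?_
      rw [sect, pRegularPart_eq]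
      simp [regInd_of_singular hs]
  rw [Finset.sum_congr rfl fun s _ => hrhs s, ← Finset.sum_filter]
  have hr : ∀ (s : Subgroup.centralizer ({u} : Set G)) (s' : Cz u), (s' : G) = (s : G) →
      (IsPRegular p s' ↔ IsPRegular p s) := fun s s' e => by
    rw [IsPRegular, IsPRegular, ← Subgroup.orderOf_coe, ← Subgroup.orderOf_coe s, e]
  refine Finset.sum_nbij' (fun s => ⟨(s : G), by rw [Cz_eq]; exact s.2⟩)
    (fun s => ⟨(s : G), by rw [← Cz_eq]; exact s.2⟩) (fun s hs => ?_) (fun s hs => ?_)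
    (fun _ _ => rfl) (fun _ _ => rfl) (fun _ _ => rfl)
  · rw [Set.Finite.mem_toFinset] at hs
    exact Finset.mem_filter.2 ⟨Finset.mem_univ _, (hr s _ rfl).2 hs⟩
  · rw [Set.Finite.mem_toFinset]
    exact (hr _ s rfl).1 (Finset.mem_filter.1 hs).2

open scoped Classical in
/-- The weighted sum of the ranks of the subsections over the defect group. -/
noncomputable def rankSum (p : ℕ) (M : Ideal AlgInt) (P : Subgroup G)
    (c : Set (IrrCharacter (Subgroup.centralizer (P : Set G)))) (w : G → ℂ) : ℂ :=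
  ∑ v ∈ Finset.univ.filter (· ∈ P),
    w v * (rkQ p M P c (Subgroup.zpowers v) : ℂ) / ((inertialOrbit P c v).card : ℂ)

set_option maxHeartbeats 800000 in
/-- **The ranks of the subsections weighted by an invariant linear character.** -/
theorem rankSum_lam (hM : IsPModular p M) (hmax : IsMaximalBrauerPair p M B P c)
    (hab : ∀ x ∈ P, ∀ y ∈ P, x * y = y * x) {lam : P →* ℂˣ} (hlam : StabInv P c lam)
    {w : G → ℂ} (hw : ∀ v : P, w v = ((lam v : ℂˣ) : ℂ)) [Decidable (lam = 1)] :
    rankSum p M P c w = if lam = 1 then (Nat.card B : ℂ) else 0 := by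
  classical
  haveI := Fact.mk hM.1
  haveI := Fintype.ofFinite (IrrCharacter G)
  set F := blockFusion hM hmax
  have hF : IsBlockFusionSystemOn p M B P c F := isBlockFusionSystemOn_blockFusion hM hmax
  have hfoc := isFocTrivial_of_stabInv hM hmax hab hF hlam
  set η := linWeight p M c lam
  have hη : ConjInv M η := fun u a f f' _ h => linWeight_conj hF hfoc u a f f' h
  have hB := hmax.1.2.1
  have hint : StarIntegral p M c F := fun lam hlam χ θ => classInner_starFun_mem hM hmax hF lam hlam χ θ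
  -- the diagonal
  have hdiag : ∀ χ : IrrCharacter G, χ ∈ B →
      classInner (starFun p M η (χ : G → ℂ)) (χ : G → ℂ) = if lam = 1 then 1 else 0 := by
    intro χ hχ
    obtain ⟨ψ, -, heq, -⟩ := exists_star hM hmax hF hint hfoc hχ
    by_cases h1 : lam = 1
    · subst h1
      rw [if_pos rfl, show starFun p M η (χ : G → ℂ) = (χ : G → ℂ) from funext fun g =>
        starFun_apply_eq_self hM hB _ hχ g fun f hf => linWeight_one hM hmax hF hf]
      exact IsIrrCharacter.classInner_self χ.2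
    · have hne : ψ ≠ χ := by
        rintro rfl
        refine h1 (MonoidHom.ext fun z => ?_)
        rw [MonoidHom.one_apply]
        exact apply_eq_one_of_fixed_center hM hmax hF hfoc hχ heq.symm z.2
          (mem_centralizer_subgroup_iff.2 fun a ha => hab a ha z z.2)
      rw [if_neg h1, ← heq, classInner_irr, if_neg hne]
  let U : Finset G := Finset.univ.filter fun u => ∃ k : ℕ, orderOf u = p ^ k
  let S : (u : G) → Finset (Set (IrrCharacter (Cz u))) :=
    fun u => (Set.toFinite {δ | IsBrauerPairOf p M B (Subgroup.zpowers u) δ}).toFinset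
  let T := U.sigma S
  -- the sum over all sections
  have hsum : (Nat.card G : ℂ) * (if lam = 1 then (Nat.card B : ℂ) else 0) =
      ∑ t ∈ T, (Nat.card (Cz t.1) : ℂ) * (η t.1 t.2 * (blockRank p t.2 : ℂ)) := by
    have h1 : ∑ χ ∈ Finset.univ.filter (· ∈ B),
        (Nat.card G : ℂ) * classInner (starFun p M η (χ : G → ℂ)) (χ : G → ℂ) =
        (Nat.card G : ℂ) * (if lam = 1 then (Nat.card B : ℂ) else 0) := by
      rw [← Finset.mul_sum, Finset.sum_congr rfl fun χ hχ => hdiag χ (Finset.mem_filter.1 hχ).2,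
        Finset.sum_const, ← Fintype.card_subtype, ← Nat.card_eq_fintype_card]
      split_ifs <;> simp
    rw [← h1, Finset.sum_congr rfl fun χ _ => card_mul_classInner_starFun hM hη
      (irr_isClassFunction χ) (irr_isClassFunction χ), Finset.sum_comm, Finset.sum_sigma]
    refine Finset.sum_congr rfl fun u hu => ?_
    have hu' : ∃ k : ℕ, orderOf u = p ^ k := (Finset.mem_filter.1 hu).2
    simp only [← Finset.mul_sum]
    congr 1
    haveI := Fintype.ofFinite (Bl M (Cz u))
    simp only [finsum_eq_sum_of_fintype]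
    rw [Finset.sum_comm]
    have hval : ∀ f : Bl M (Cz u), ∑ χ ∈ Finset.univ.filter (· ∈ B),
        η u f.1 * classInner (sect p u f.1 (χ : G → ℂ)) (sect p u f.1 (χ : G → ℂ)) =
        if f.1 ∈ S u then η u f.1 * (blockRank p f.1 : ℂ) else 0 := by
      intro f
      rw [← Finset.mul_sum]
      by_cases hf : IsBrauerPairOf p M B (Subgroup.zpowers u) f.1
      · rw [if_pos (show f.1 ∈ S u from (Set.Finite.mem_toFinset _).2 hf)]
        congr 1
        have h4 := sum_sect_norm hM (mem_Cz_iff u) hu'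
          (isInducedBlock_of_isBrauerPairOf_zpowers hM hf)
        rw [finsum_mem_eq_finite_toFinset_sum _ (Set.toFinite B),
          show (Set.toFinite B).toFinset = Finset.univ.filter (· ∈ B) by ext; simp] at h4
        simp only [classInner, ← Finset.mul_sum]
        rw [h4, inv_mul_cancel_left₀ natCard_ne_zero_complex]
      · rw [if_neg (fun h : f.1 ∈ S u =>
            hf ((Set.Finite.mem_toFinset (s := {δ | IsBrauerPairOf p M B (Subgroup.zpowers u) δ}) _).1 h)),
          show η u f.1 = 0 from linWeight_eq_zero_of_not_pair hM hmax hf, zero_mul]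
    rw [Finset.sum_congr rfl fun f _ => hval f, ← Finset.sum_filter]
    refine Finset.sum_bij (fun f _ => f.1) (fun f hf => (Finset.mem_filter.1 hf).2)
      (fun _ _ _ _ h => Subtype.ext h) (fun δ hδ => ?_) (fun _ _ => rfl)
    exact ⟨⟨δ, ((Set.Finite.mem_toFinset _).1 hδ).1.2⟩,
      Finset.mem_filter.2 ⟨Finset.mem_univ _, hδ⟩, rfl⟩
  -- the map from `G × P`
  have hf : ∀ v : P, ∃ f : Set (IrrCharacter (Cz (v : G))),
      SubpairLE p M (Subgroup.zpowers (v : G)) f P c := fun v => by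
    obtain ⟨f, -, hf⟩ := exists_subpairLE hM hmax.1.1 (Subgroup.zpowers_le.2 v.2)
    exact ⟨f, hf⟩
  choose f hf using hf
  have hΨ : ∀ a : G × P, ∃ γ : Set (IrrCharacter (Cz (a.1 * (a.2 : G) * a.1⁻¹))),
      (⟨Subgroup.zpowers (a.1 * (a.2 : G) * a.1⁻¹), γ⟩ : BrauerPairIdx G) =
        conjPair a.1 ⟨Subgroup.zpowers (a.2 : G), f a.2⟩ :=
    fun a => exists_conj_zpowers (f a.2) a.1 _ rfl
  choose γ hγ using hΨ
  let Ψ : G × P → Σ u : G, Set (IrrCharacter (Cz u)) :=
    fun a => ⟨a.1 * (a.2 : G) * a.1⁻¹, γ a⟩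
  have hpairv : ∀ v : P, IsBrauerPairOf p M B (Subgroup.zpowers (v : G)) (f v) := fun v =>
    isBrauerPairOf_of_subpairLE hM hmax (hf v)
  have hmaps : ∀ a ∈ (Finset.univ : Finset (G × P)), Ψ a ∈ T := by
    rintro ⟨g, v⟩ -
    obtain ⟨n, hn⟩ := IsPGroup.iff_orderOf.1 hmax.1.1.1 v
    refine Finset.mem_sigma.2 ⟨Finset.mem_filter.2 ⟨Finset.mem_univ _, n, ?_⟩, ?_⟩
    · show orderOf (g * (v : G) * g⁻¹) = p ^ n
      rw [show orderOf (g * (v : G) * g⁻¹) = orderOf (v : G) from
        orderOf_injective (MulAut.conj g).toMonoidHom (MulAut.conj g).injective _, ← hn,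
        Subgroup.orderOf_coe]
    · rw [Set.Finite.mem_toFinset]
      exact isBrauerPairOf_congr (hγ (g, v)).symm (isBrauerPairOf_conj (hpairv v) g)
  let wt : G × P → ℂ := fun a =>
    w a.2 * (rkQ p M P c (Subgroup.zpowers (a.2 : G)) : ℂ) / ((inertialOrbit P c (a.2 : G)).card : ℂ)
  have hfibsum : ∀ t ∈ T, ∑ a ∈ (Finset.univ : Finset (G × P)).filter (fun a => Ψ a = t), wt a =
      (Nat.card (Cz t.1) : ℂ) * (η t.1 t.2 * (blockRank p t.2 : ℂ)) := by
    rintro ⟨u, δ⟩ ht
    obtain ⟨huU, hδ⟩ := Finset.mem_sigma.1 ht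
    rw [Set.Finite.mem_toFinset] at hδ
    obtain ⟨x, hx⟩ := exists_conj_subpairLE hM hmax hδ
    have hu0 : x * u * x⁻¹ ∈ P := subpairLE_le hx ⟨u, Subgroup.mem_zpowers u, rfl⟩
    set v₀ : P := ⟨x * u * x⁻¹, hu0⟩ with hv₀
    have hpair₀ : conjPair x (⟨Subgroup.zpowers u, δ⟩ : BrauerPairIdx G) =
        ⟨Subgroup.zpowers (v₀ : G), f v₀⟩ := by
      obtain ⟨δ', hδ'⟩ := exists_conj_zpowers δ x (v₀ : G) rfl
      have hle : Relation.ReflTransGen (NormalSubpairRel p M)
          (⟨Subgroup.zpowers (v₀ : G), δ'⟩ : BrauerPairIdx G) ⟨P, c⟩ := hδ' ▸ hx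
      rw [← hδ', subpairLE_unique hM hmax.1.1 hle (hf v₀)]
    have hpair₁ : conjPair x⁻¹ (⟨Subgroup.zpowers (v₀ : G), f v₀⟩ : BrauerPairIdx G) =
        ⟨Subgroup.zpowers u, δ⟩ := by
      rw [← hpair₀, conjPair_inv_conjPair]
    have hiff : ∀ a : G × P, Ψ a = ⟨u, δ⟩ ↔ a.1 * (a.2 : G) * a.1⁻¹ = u ∧
        conjPair a.1 (⟨Subgroup.zpowers (a.2 : G), f a.2⟩ : BrauerPairIdx G) =
          ⟨Subgroup.zpowers u, δ⟩ := by
      intro a
      rw [← hγ a]
      constructor
      · intro h
        refine ⟨congrArg Sigma.fst h, ?_⟩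
        exact congrArg (fun s : Σ u : G, Set (IrrCharacter (Cz u)) =>
            (⟨Subgroup.zpowers s.1, s.2⟩ : BrauerPairIdx G)) h
      · rintro ⟨h1, h2⟩
        show (⟨a.1 * (a.2 : G) * a.1⁻¹, γ a⟩ : Σ u : G, Set (IrrCharacter (Cz u))) = ⟨u, δ⟩
        revert h2
        generalize γ a = γa
        revert γa
        rw [h1]
        intro γa h2
        simp only [Sigma.mk.injEq, heq_eq_eq, true_and] at h2 ⊢
        exact h2
    have hrk₀ : blockRank p (f v₀) = blockRank p δ := by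
      rw [← blockRank_congr_pair hpair₀, blockRank_conjPair']
    have hfib : ∀ a : G × P, Ψ a = ⟨u, δ⟩ → (a.2 : G) ∈ inertialOrbit P c (v₀ : G) ∧
        lam a.2 = lam v₀ ∧ blockRank p (f a.2) = blockRank p δ := by
      intro a ha
      obtain ⟨h1, h2⟩ := (hiff a).1 ha
      have hg : conjPair (x * a.1) (⟨Subgroup.zpowers (a.2 : G), f a.2⟩ : BrauerPairIdx G) =
          ⟨Subgroup.zpowers (v₀ : G), f v₀⟩ := by rw [conjPair_mul, h2, hpair₀]
      have hgv : x * a.1 * (a.2 : G) * (x * a.1)⁻¹ = x * u * x⁻¹ :=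
        calc x * a.1 * (a.2 : G) * (x * a.1)⁻¹ = x * (a.1 * (a.2 : G) * a.1⁻¹) * x⁻¹ := by group
          _ = _ := by rw [h1]
      obtain ⟨t, ht, htv⟩ := conj_fusion_of_comm hM hmax hab a.2.2 hu0 (hf a.2) (hf v₀) hgv hg
      refine ⟨mem_inertialOrbit.2 ⟨t⁻¹, inv_mem ht, ?_⟩, hlam _ _ ⟨t, ht, htv⟩, ?_⟩
      · show t⁻¹ * (x * u * x⁻¹) * t⁻¹⁻¹ = _
        rw [← htv]; group
      · rw [← blockRank_conjPair' a.1 ⟨Subgroup.zpowers (a.2 : G), f a.2⟩, blockRank_congr_pair h2]
    have horb : ∀ w' ∈ inertialOrbit P c (v₀ : G), w' ∈ P := fun w' hw' => by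
      obtain ⟨t, ht, rfl⟩ := mem_inertialOrbit.1 hw'
      exact (Subgroup.mem_normalizer_iff.1 ht.1 _).1 hu0
    have horbeq : ∀ w' ∈ inertialOrbit P c (v₀ : G),
        inertialOrbit P c w' = inertialOrbit P c (v₀ : G) := by
      intro w' hw'
      obtain ⟨t, ht, rfl⟩ := mem_inertialOrbit.1 hw'
      ext z
      simp only [mem_inertialOrbit]
      constructor
      · rintro ⟨s, hs, rfl⟩
        exact ⟨s * t, mul_mem hs ht, by group⟩
      · rintro ⟨s, hs, rfl⟩
        exact ⟨s * t⁻¹, mul_mem hs (inv_mem ht), by group⟩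
    have hwt : ∀ a ∈ (Finset.univ : Finset (G × P)).filter (fun a => Ψ a = ⟨u, δ⟩),
        wt a = η u δ * (blockRank p δ : ℂ) / ((inertialOrbit P c (v₀ : G)).card : ℂ) := by
      intro a ha
      obtain ⟨h1, h2, h3⟩ := hfib a (Finset.mem_filter.1 ha).2
      simp only [wt, horbeq _ h1, rkQ_eq hM hmax.1.1 (hf a.2), h3, hw, h2]
      rw [show η u δ = linWeight p M c lam u δ from rfl, linWeight_eq hF hfoc hx]
    rw [Finset.sum_congr rfl hwt, Finset.sum_const]
    have hcardfib : ((Finset.univ : Finset (G × P)).filter fun a => Ψ a = ⟨u, δ⟩).card =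
        (inertialOrbit P c (v₀ : G)).card * Nat.card (Cz u) := by
      rw [Finset.card_eq_sum_card_fiberwise (f := fun a : G × P => (a.2 : G))
        (t := inertialOrbit P c (v₀ : G))
        (fun a ha => (hfib a (Finset.mem_filter.1 ha).2).1)]
      rw [Finset.sum_congr rfl (g := fun _ => Nat.card (Cz u)) fun w' hw' => ?_,
        Finset.sum_const, smul_eq_mul]
      obtain ⟨t, ht, htw⟩ := mem_inertialOrbit.1 hw'
      set wV : P := ⟨w', horb w' hw'⟩
      have htpair : conjPair t (⟨Subgroup.zpowers (v₀ : G), f v₀⟩ : BrauerPairIdx G) =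
          ⟨Subgroup.zpowers w', f wV⟩ := by
        obtain ⟨δ', hδ'⟩ := exists_conj_zpowers (f v₀) t w' htw
        have h1 : Relation.ReflTransGen (NormalSubpairRel p M)
            (⟨Subgroup.zpowers w', δ'⟩ : BrauerPairIdx G) ⟨P, c⟩ := by
          have h2 : Relation.ReflTransGen (NormalSubpairRel p M)
              (conjPair t ⟨Subgroup.zpowers (v₀ : G), f v₀⟩) (conjPair t ⟨P, c⟩) :=
            subpairLE_conj (hf v₀) t
          rwa [← hδ', show conjPair t (⟨P, c⟩ : BrauerPairIdx G) = ⟨P, c⟩ from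
            pair_ext (map_conj_of_mem_normalizer ht.1)
              (by rw [pairCoeff_conjPair]; exact (mem_pairStab.1 ht).2)] at h2
        rw [← hδ', subpairLE_unique hM hmax.1.1 h1 (hf wV)]
      set g₁ := x⁻¹ * t⁻¹ with hg₁
      have hg₁w : g₁ * w' * g₁⁻¹ = u := by rw [hg₁, ← htw, hv₀]; group
      have hg₁p : conjPair g₁ (⟨Subgroup.zpowers w', f wV⟩ : BrauerPairIdx G) =
          ⟨Subgroup.zpowers u, δ⟩ := by
        rw [hg₁, conjPair_mul, ← htpair, conjPair_inv_conjPair, hpair₁]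
      rw [card_centralizer_zpowers_conj g₁ hg₁w, Nat.card_eq_fintype_card, ← Finset.card_univ]
      symm
      refine Finset.card_bij (fun z _ => ((g₁ * (z : G), wV) : G × P)) (fun z _ => ?_)
        (fun a _ b _ h => Subtype.ext (mul_left_cancel (congrArg Prod.fst h))) (fun a ha => ?_)
      · rw [Finset.mem_filter, Finset.mem_filter]
        refine ⟨⟨Finset.mem_univ _, (hiff _).2 ⟨?_, ?_⟩⟩, rfl⟩
        · have hz := (mem_centralizer_zpowers_iff.1 z.2).eq
          show g₁ * (z : G) * w' * (g₁ * (z : G))⁻¹ = u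
          rw [mul_assoc g₁, ← hz, ← hg₁w]
          group
        · have hzfix : conjPair (z : G) (⟨Subgroup.zpowers w', f wV⟩ : BrauerPairIdx G) =
              ⟨Subgroup.zpowers w', f wV⟩ :=
            pair_ext (map_conj_of_mem_normalizer (centralizer_le_normalizer' _ z.2))
              (by rw [pairCoeff_conjPair]
                  exact gconj_eq_self_iff.2 fun y => isPInv_subgroupBlockCoeff_self _ _ z.2 y)
          show conjPair (g₁ * (z : G)) _ = _
          rw [conjPair_mul, hzfix, hg₁p]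
      · rw [Finset.mem_filter, Finset.mem_filter] at ha
        obtain ⟨⟨-, ha⟩, haw⟩ := ha
        obtain ⟨h1, -⟩ := (hiff a).1 ha
        have hz : g₁⁻¹ * a.1 ∈ Subgroup.centralizer (Subgroup.zpowers (wV : G) : Set G) := by
          rw [mem_centralizer_zpowers_iff]
          show w' * (g₁⁻¹ * a.1) = g₁⁻¹ * a.1 * w'
          rw [← hg₁w] at h1
          calc w' * (g₁⁻¹ * a.1) = g₁⁻¹ * (g₁ * w' * g₁⁻¹) * a.1 := by group
            _ = g₁⁻¹ * (a.1 * (a.2 : G) * a.1⁻¹) * a.1 := by rw [h1]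
            _ = g₁⁻¹ * a.1 * (a.2 : G) := by group
            _ = _ := by rw [haw]
        exact ⟨⟨_, hz⟩, Finset.mem_univ _,
          Prod.ext (mul_inv_cancel_left g₁ a.1) (Subtype.ext haw.symm)⟩
    have ho : ((inertialOrbit P c (v₀ : G)).card : ℂ) ≠ 0 :=
      Nat.cast_ne_zero.2 (Finset.card_ne_zero.2 ⟨v₀,
        mem_inertialOrbit.2 ⟨1, one_mem _, by group⟩⟩)
    rw [hcardfib, nsmul_eq_mul, Nat.cast_mul]
    field_simp
  have htot : (Nat.card G : ℂ) * rankSum p M P c w =
      ∑ t ∈ T, (Nat.card (Cz t.1) : ℂ) * (η t.1 t.2 * (blockRank p t.2 : ℂ)) := by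
    rw [← Finset.sum_congr rfl hfibsum, Finset.sum_fiberwise_of_maps_to hmaps,
      Fintype.sum_prod_type]
    simp only [wt]
    rw [Finset.sum_const, Finset.card_univ, ← Nat.card_eq_fintype_card, nsmul_eq_mul, rankSum]
    congr 1
    exact Finset.sum_subtype _ (fun g => by simp) fun v =>
      w v * (rkQ p M P c (Subgroup.zpowers v) : ℂ) / ((inertialOrbit P c v).card : ℂ)
  rw [← hsum] at htot
  exact mul_left_cancel₀ natCard_ne_zero_complex htot

/-- The differences `v⁻¹ * t v t⁻¹`. -/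
def stabFocal (P : Subgroup G) (c : Set (IrrCharacter (Subgroup.centralizer (P : Set G)))) :
    Subgroup G :=
  Subgroup.closure {z | ∃ v ∈ P, ∃ t ∈ pairStab P c, z = v⁻¹ * (t * v * t⁻¹)}

theorem stabFocal_le : stabFocal P c ≤ P := by
  refine (Subgroup.closure_le _).2 ?_
  rintro _ ⟨v, hv, t, ht, rfl⟩
  exact mul_mem (inv_mem hv) ((Subgroup.mem_normalizer_iff.1 ht.1 v).1 hv)

/-- An element of the differences fixed by the inertial group is trivial. -/
theorem eq_one_of_mem_stabFocal (hM : IsPModular p M) (hmax : IsMaximalBrauerPair p M B P c)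
    (hab : ∀ x ∈ P, ∀ y ∈ P, x * y = y * x) {z : G} (hz : z ∈ stabFocal P c)
    (hfix : ∀ t ∈ pairStab P c, t * z * t⁻¹ = z) : z = 1 := by
  classical
  haveI := Fact.mk hM.1
  letI : CommGroup P :=
    { (inferInstance : Group P) with mul_comm := fun a b => Subtype.ext (hab _ a.2 _ b.2) }
  set A := (stabHom P c).range
  haveI := Fintype.ofFinite A
  have hA : ¬ p ∣ Fintype.card A := by
    intro hd
    obtain ⟨a, ha⟩ := exists_prime_orderOf_dvd_card p hd
    obtain ⟨⟨g, hg⟩, hga⟩ := a.2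
    have h1 : stabHom P c ⟨g, hg⟩ = 1 := by
      refine stabHom_eq_one_iff.2 (mem_centralizer_of_pow hM hmax hab hg (k := 1) ?_)
      refine (stabHom_eq_one_iff (g := ⟨g ^ p ^ 1, pow_mem hg _⟩)).1 ?_
      rw [pow_one, show (⟨g ^ p, pow_mem hg _⟩ : pairStab P c) = ⟨g, hg⟩ ^ p from rfl, map_pow,
        hga, ← Subgroup.coe_pow, ← ha, pow_orderOf_eq_one, Subgroup.coe_one]
    rw [hga, ← Subgroup.coe_one A] at h1
    rw [show a = 1 from Subtype.ext h1, orderOf_one] at ha
    exact hM.1.ne_one ha.symm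
  let φ : P →* P :=
    { toFun := fun v => ∏ a : A, (a : MulAut P) v
      map_one' := by simp
      map_mul' := fun v w => by simp [Finset.prod_mul_distrib] }
  have hinv : ∀ (v : P) (b : A), φ ((b : MulAut P) v) = φ v := fun v b =>
    Fintype.prod_equiv (Equiv.mulRight b) _ _ fun a => rfl
  have hker : stabFocal P c ≤ φ.ker.map P.subtype := by
    refine (Subgroup.closure_le _).2 ?_
    rintro _ ⟨v, hv, t, ht, rfl⟩
    refine ⟨(⟨v, hv⟩ : P)⁻¹ * stabHom P c ⟨t, ht⟩ ⟨v, hv⟩, ?_, by simp [stabHom_apply]⟩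
    show φ _ = 1
    rw [map_mul, map_inv, hinv ⟨v, hv⟩ ⟨_, ⟨t, ht⟩, rfl⟩, inv_mul_cancel]
  obtain ⟨z', hz', rfl⟩ := hker hz
  have h2 : φ z' = z' ^ Fintype.card A := by
    show ∏ a : A, (a : MulAut P) z' = _
    rw [Finset.prod_congr rfl (g := fun _ => z'), Finset.prod_const, Finset.card_univ]
    rintro ⟨_, ⟨t, ht⟩, rfl⟩ -
    exact Subtype.ext ((stabHom_apply _ _).trans (hfix t ht))
  rw [show φ z' = 1 from hz'] at h2
  obtain ⟨k, hk⟩ := hmax.1.1.1 z'
  have h3 := pow_gcd_eq_one.2 ⟨h2.symm, hk⟩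
  rw [Nat.Coprime.gcd_eq_one (((hM.1.coprime_iff_not_dvd.2 hA).symm).pow_right k), pow_one] at h3
  rw [h3]; rfl

/-- **All cosets of the differences carry the same rank.** -/
theorem rankSum_coset (hM : IsPModular p M) (hmax : IsMaximalBrauerPair p M B P c)
    (hab : ∀ x ∈ P, ∀ y ∈ P, x * y = y * x) {y : G} (hy : y ∈ P)
    [DecidablePred fun v : G => y⁻¹ * v ∈ stabFocal P c] :
    ((stabFocal P c).relIndex P : ℂ) *
      rankSum p M P c (fun v => if y⁻¹ * v ∈ stabFocal P c then 1 else 0) = (Nat.card B : ℂ) := by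
  classical
  haveI hn : ((stabFocal P c).subgroupOf P).Normal :=
    ⟨fun n hn g => by
      rwa [show g * n * g⁻¹ = n from by
        rw [show g * n = n * g from Subtype.ext (hab _ g.2 _ n.2), mul_inv_cancel_right]]⟩
  set W := P ⧸ (stabFocal P c).subgroupOf P
  letI : CommGroup W :=
    { (inferInstance : Group W) with
      mul_comm := fun a b => by
        induction a using QuotientGroup.induction_on with
        | H a =>
          induction b using QuotientGroup.induction_on with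
          | H b => rw [← QuotientGroup.mk_mul, ← QuotientGroup.mk_mul,
              show a * b = b * a from Subtype.ext (hab _ a.2 _ b.2)] }
  haveI : Fintype W := Fintype.ofFinite W
  haveI : Fintype (W →* ℂˣ) := Fintype.ofFinite _
  have horth : ∀ q : W, ∑ γ : W →* ℂˣ, ((γ q : ℂˣ) : ℂ) =
      if q = 1 then (Nat.card W : ℂ) else 0 := by
    intro q
    split_ifs with hq
    · subst hq
      rw [Finset.sum_congr rfl fun γ _ => by rw [map_one, Units.val_one], Finset.sum_const,
        Finset.card_univ, nsmul_eq_mul, mul_one, ← Nat.card_eq_fintype_card,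
        CommGroup.card_monoidHom_of_hasEnoughRootsOfUnity]
    · obtain ⟨γ₀, hγ₀⟩ := CommGroup.exists_apply_ne_one_of_hasEnoughRootsOfUnity W ℂ hq
      have h : ∑ γ : W →* ℂˣ, ((γ q : ℂˣ) : ℂ) =
          ((γ₀ q : ℂˣ) : ℂ) * ∑ γ : W →* ℂˣ, ((γ q : ℂˣ) : ℂ) := by
        rw [Finset.mul_sum]
        refine (Fintype.sum_equiv (Equiv.mulLeft γ₀) _ _ fun γ => ?_).symm
        simp
      by_contra hne
      exact hγ₀ (Units.val_eq_one.1 (mul_right_cancel₀ hne ((one_mul _).trans h)).symm)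
  set π : P →* W := QuotientGroup.mk' _
  let ext : (W →* ℂˣ) → G → ℂ := fun γ v => if hv : v ∈ P then ((γ (π ⟨v, hv⟩) : ℂˣ) : ℂ) else 0
  have hext : ∀ γ : W →* ℂˣ, rankSum p M P c (ext γ) = if γ = 1 then (Nat.card B : ℂ) else 0 := by
    intro γ
    have hs : StabInv P c (γ.comp π) := by
      rintro ⟨v, hv⟩ ⟨v', hv'⟩ ⟨t, ht, e⟩
      show γ (π _) = γ (π _)
      congr 1
      refine QuotientGroup.eq.2 (Subgroup.mem_subgroupOf.2 ?_)
      exact Subgroup.subset_closure ⟨v, hv, t, ht, by simp only at e ⊢; rw [e]; rfl⟩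
    rw [rankSum_lam hM hmax hab hs (fun v => by simp [ext])]
    refine if_congr ⟨fun h => MonoidHom.ext fun q => ?_, fun h => by rw [h]; rfl⟩ rfl rfl
    obtain ⟨v, rfl⟩ := QuotientGroup.mk'_surjective _ q
    exact DFunLike.congr_fun h v
  have hkey : ∑ γ : W →* ℂˣ, ((γ (π ⟨y, hy⟩)⁻¹ : ℂˣ) : ℂ) * rankSum p M P c (ext γ) =
      (Nat.card B : ℂ) := by
    rw [Finset.sum_eq_single (1 : W →* ℂˣ) (fun γ _ hγ => by rw [hext, if_neg hγ, mul_zero])
      (by simp), hext, if_pos rfl]
    simp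
  rw [← hkey]
  simp only [rankSum, Finset.mul_sum]
  rw [Finset.sum_comm]
  refine Finset.sum_congr rfl fun v hv => ?_
  have hvP : v ∈ P := (Finset.mem_filter.1 hv).2
  have h1 : ∑ γ : W →* ℂˣ, ((γ (π ⟨y, hy⟩)⁻¹ : ℂˣ) : ℂ) * ext γ v =
      if y⁻¹ * v ∈ stabFocal P c then (Nat.card W : ℂ) else 0 := by
    simp only [ext, dif_pos hvP, ← Units.val_mul, ← map_mul]
    rw [horth]
    refine if_congr ?_ rfl rfl
    rw [← map_inv, ← map_mul]
    exact (QuotientGroup.eq_one_iff _).trans Subgroup.mem_subgroupOf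
  rw [show ((stabFocal P c).relIndex P) = Nat.card W from rfl]
  simp only [mul_div_assoc']
  rw [← Finset.sum_div]
  congr 1
  simp only [← mul_assoc]
  rw [← Finset.sum_mul, h1]
  split_ifs <;> simp

end Cfsg.Agent.Lib.BrauerStar
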